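import Cfsg.Agent.ABG.Recog.Loc
import Cfsg.Agent.Invol.Dihedral
import Cfsg.Agent.S0223
import Cfsg.Agent.S1221
import Cfsg.Agent.DGroup.Fusion

/-!
# Alperin-Brauer-Gorenstein, recognition half: the four-group, its centraliser and the components

First consequences of `Loc`: `C = L T`, the symmetric group on the three involutions of the
four-group, transport along conjugation, and no element other than one centralises two components.
-/

set_option autoImplicit false
set_option linter.unusedSectionVars false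

namespace CfsgLib.ABG.Recog

open Matrix Subgroup CfsgLib.SL2C CfsgLib.AutPSL

universe u

variable {G : Type u} [Group G]

theorem mem_cen_iff {a x : G} : x ∈ Subgroup.centralizer ({a} : Set G) ↔ x * a = a * x :=
  Subgroup.mem_centralizer_singleton_iff

theorem conj_of_comm {a x : G} (h : x * a = a * x) : x * a * x⁻¹ = a := by
  rw [h, mul_inv_cancel_right]

theorem comm_of_conj {a x : G} (h : x * a * x⁻¹ = a) : x * a = a * x := mul_inv_eq_iff_eq_mul.1 h

theorem cen_map_conj (g a : G) :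
    (Subgroup.centralizer ({a} : Set G)).map (MulAut.conj g).toMonoidHom =
      Subgroup.centralizer ({g * a * g⁻¹} : Set G) := by
  ext x
  rw [Subgroup.map_equiv_eq_comap_symm', Subgroup.mem_comap, mem_cen_iff, mem_cen_iff]
  show g⁻¹ * x * g * a = a * (g⁻¹ * x * g) ↔ _
  constructor
  · intro h
    have := congrArg (fun y => g * y * g⁻¹) h
    simpa [mul_assoc] using this
  · intro h
    have := congrArg (fun y => g⁻¹ * y * g) h
    simpa [mul_assoc] using this

theorem cen2_map_conj (g a b : G) :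
    (cen2 a b).map (MulAut.conj g).toMonoidHom = cen2 (g * a * g⁻¹) (g * b * g⁻¹) := by
  rw [cen2, Subgroup.map_inf_eq _ _ _ (MulAut.conj g).injective, cen_map_conj, cen_map_conj]

namespace Loc

variable {F : Type} [Field F] [Fintype F] (D : Loc G F)

theorem mem_C {x : G} : x ∈ D.C ↔ x * D.z = D.z * x := mem_cen_iff

theorem mem_T {x : G} : x ∈ D.T ↔ x * D.z = D.z * x ∧ x * D.z₁ = D.z₁ * x := by
  rw [Subgroup.mem_inf, mem_cen_iff, mem_cen_iff]

theorem T_le : D.T ≤ D.C := inf_le_left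

theorem e_mem (x : SL F) : D.e x ∈ D.C := D.e_le ⟨x, rfl⟩

theorem e_comm_z (x : SL F) : D.e x * D.z = D.z * D.e x := D.mem_C.1 (D.e_mem x)

theorem z_mem_C : D.z ∈ D.C := D.mem_C.2 rfl

theorem z₁_mem_C : D.z₁ ∈ D.C := D.mem_C.2 D.comm.symm

theorem z_mem_T : D.z ∈ D.T := D.mem_T.2 ⟨rfl, D.comm⟩

theorem z₁_mem_T : D.z₁ ∈ D.T := D.mem_T.2 ⟨D.comm.symm, rfl⟩

theorem z_sq : D.z * D.z = 1 := Invol.mul_self_eq_one D.order_z

theorem z₁_sq : D.z₁ * D.z₁ = 1 := Invol.mul_self_eq_one D.order_z₁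

/-- The third involution. -/
abbrev z₂ : G := D.z * D.z₁

theorem z₂_comm : D.z₂ * D.z = D.z * D.z₂ := by
  show D.z * D.z₁ * D.z = D.z * (D.z * D.z₁)
  rw [mul_assoc, ← D.comm]

theorem order_z₂ : orderOf D.z₂ = 2 := by
  refine Invol.orderOf_eq_two ?_ ?_
  · show D.z * D.z₁ * (D.z * D.z₁) = 1
    rw [mul_assoc, ← mul_assoc D.z₁, ← D.comm, mul_assoc D.z, D.z₁_sq, mul_one, D.z_sq]
  · intro h
    exact D.ne ((eq_inv_of_mul_eq_one_right h).trans (Invol.inv_eq_self D.order_z))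

theorem z₂_ne_z : D.z₂ ≠ D.z := fun h => Invol.ne_one D.order_z₁ (mul_eq_left.1 h)

theorem z₂_ne_z₁ : D.z₂ ≠ D.z₁ := fun h => Invol.ne_one D.order_z (mul_eq_right.1 h)

theorem z₂_mem_T : D.z₂ ∈ D.T := mul_mem D.z_mem_T D.z₁_mem_T

/-- An element of the component centralised by `z₁` stays so in the centraliser of the four-group. -/
theorem e_mem_T {x : SL F} (h : semiSL D.M (RingEquiv.refl F) x = x) : D.e x ∈ D.T := by
  refine D.mem_T.2 ⟨D.e_comm_z x, ?_⟩
  have := D.z₁_act x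
  rw [h] at this
  exact (comm_of_conj this).symm

/-- The component contains an element moving `z₁` to the third involution. -/
theorem exists_w : ∃ x : SL F, D.e x * D.z₁ * (D.e x)⁻¹ = D.z₂ :=
  let ⟨x, hx⟩ := D.invol D.z₂ (D.mem_C.2 D.z₂_comm) D.order_z₂ D.z₂_ne_z
  ⟨x, hx.symm⟩

/-- `C = L T`. -/
theorem exists_decomp {c : G} (hc : c ∈ D.C) : ∃ x : SL F, ∃ t ∈ D.T, c = D.e x * t := by
  have h1 : c * D.z₁ * c⁻¹ ∈ D.C := mul_mem (mul_mem hc D.z₁_mem_C) (inv_mem hc)
  obtain ⟨x, hx⟩ := D.invol _ h1 (by rw [Invol.orderOf_conj_eq, D.order_z₁]) fun h => by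
    rw [← conj_of_comm (D.mem_C.1 hc)] at h
    exact D.ne (mul_left_cancel (mul_right_cancel h))
  refine ⟨x, (D.e x)⁻¹ * c, D.mem_T.2 ⟨?_, ?_⟩, (mul_inv_cancel_left _ _).symm⟩
  · exact D.mem_C.1 (mul_mem (inv_mem (D.e_mem x)) hc)
  · refine comm_of_conj ?_
    calc (D.e x)⁻¹ * c * D.z₁ * ((D.e x)⁻¹ * c)⁻¹ = (D.e x)⁻¹ * (c * D.z₁ * c⁻¹) * D.e x := by group
      _ = D.z₁ := by rw [hx]; group

/-- The component is normalised by its centraliser of the involution. -/
theorem conj_L {c : G} (hc : c ∈ D.C) : D.L.map (MulAut.conj c).toMonoidHom = D.L := by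
  refine le_antisymm ?_ fun y hy => ?_
  · rintro _ ⟨y, ⟨x, rfl⟩, rfl⟩
    exact D.e_normal c hc x
  · obtain ⟨x, rfl⟩ := hy
    refine ⟨c⁻¹ * D.e x * c, ?_, by show c * (c⁻¹ * D.e x * c) * c⁻¹ = D.e x; group⟩
    simpa using D.e_normal c⁻¹ (inv_mem hc) x

/-- The action of an element of `C` on the component. -/
theorem exists_act {c : G} (hc : c ∈ D.C) :
    ∃ (g : GL (Fin 2) F) (σ : F ≃+* F), ∀ x, c * D.e x * c⁻¹ = D.e (semiSL g σ x) := by
  choose f hf using fun x => D.e_normal c hc x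
  have hmul : ∀ a b, f (a * b) = f a * f b := fun a b => D.e_inj (by
    rw [map_mul, hf, hf, hf, map_mul]; group)
  have hinj : Function.Injective f := fun a b h => D.e_inj (by
    have := congrArg D.e h
    rw [hf, hf] at this
    exact mul_left_cancel (mul_right_cancel this))
  let φ : MulAut (SL F) := MulEquiv.ofBijective (MonoidHom.mk' f hmul) hinj.bijective_of_finite
  obtain ⟨g, σ, h⟩ := OrderFormula.Local.exists_semi D.odd_q φ
  refine ⟨g, σ, fun x => ?_⟩
  rw [← h]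
  exact (hf x).symm

/-- Transport of the data along conjugation. -/
def conj (g : G) : Loc G F where
  z := g * D.z * g⁻¹
  z₁ := g * D.z₁ * g⁻¹
  order_z := by rw [Invol.orderOf_conj_eq, D.order_z]
  order_z₁ := by rw [Invol.orderOf_conj_eq, D.order_z₁]
  ne h := D.ne (mul_left_cancel (mul_right_cancel h))
  comm := by
    rw [show g * D.z * g⁻¹ * (g * D.z₁ * g⁻¹) = g * (D.z * D.z₁) * g⁻¹ by group, D.comm]; group
  odd_q := D.odd_q
  one_class := D.one_class
  e := (MulAut.conj g).toMonoidHom.comp D.e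
  e_inj := (MulAut.conj g).injective.comp D.e_inj
  e_le := by
    rintro _ ⟨x, rfl⟩
    rw [← cen_map_conj]
    exact mem_map_of_mem _ (D.e_mem x)
  e_normal c hc x := by
    rw [← cen_map_conj] at hc
    obtain ⟨c, hc, rfl⟩ := hc
    obtain ⟨y, hy⟩ := D.e_normal c hc x
    exact ⟨y, by simp [hy, mul_assoc]⟩
  e_neg := by simp [D.e_neg]
  M := D.M
  M_trace := D.M_trace
  z₁_act x := by
    show g * D.z₁ * g⁻¹ * (g * D.e x * g⁻¹) * (g * D.z₁ * g⁻¹)⁻¹ = g * _ * g⁻¹
    rw [← D.z₁_act]; group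
  diag h := by
    obtain ⟨c, hc, h1, h2⟩ := D.diag h
    refine ⟨g * c * g⁻¹, ?_, fun x => ?_, fun hm => ?_⟩
    · rw [← cen_map_conj]
      exact mem_map_of_mem _ hc
    · show g * c * g⁻¹ * (g * D.e x * g⁻¹) * (g * c * g⁻¹)⁻¹ = g * _ * g⁻¹
      rw [← h1]; group
    · rw [show g * c * g⁻¹ * (g * D.z₁ * g⁻¹) = g * (c * D.z₁) * g⁻¹ by group, h2 hm]; group
  field_odd c hc h σ hh := by
    rw [← cen_map_conj] at hc
    obtain ⟨c, hc, rfl⟩ := hc
    refine D.field_odd c hc h σ fun x => ?_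
    have := hh x
    simp only [MulEquiv.coe_toMonoidHom, MonoidHom.comp_apply, MulAut.conj_apply] at this
    rw [show g * c * g⁻¹ * (g * D.e x * g⁻¹) * (g * c * g⁻¹)⁻¹ = g * (c * D.e x * c⁻¹) * g⁻¹ by group]
      at this
    exact mul_left_cancel (mul_right_cancel this)
  cen c hc hcx := by
    rw [← cen_map_conj] at hc
    obtain ⟨c, hc, rfl⟩ := hc
    simp only [MulEquiv.coe_toMonoidHom, MonoidHom.comp_apply, MulAut.conj_apply] at hcx ⊢
    rw [show g * c * g⁻¹ * (g * D.z₁ * g⁻¹) = g * (c * D.z₁) * g⁻¹ by group, D.cen c hc fun x => ?_]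
    · group
    · have := hcx x
      rw [show g * c * g⁻¹ * (g * D.e x * g⁻¹) = g * (c * D.e x) * g⁻¹ by group,
        show g * D.e x * g⁻¹ * (g * c * g⁻¹) = g * (D.e x * c) * g⁻¹ by group] at this
      exact mul_left_cancel (mul_right_cancel this)
  invol t ht ht2 htne := by
    rw [← cen_map_conj] at ht
    obtain ⟨t, ht, rfl⟩ := ht
    simp only [MulEquiv.coe_toMonoidHom, MonoidHom.comp_apply, MulAut.conj_apply] at ht2 htne ⊢
    rw [Invol.orderOf_conj_eq] at ht2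
    obtain ⟨x, rfl⟩ := D.invol t ht ht2 fun h => htne (by rw [h])
    exact ⟨x, by group⟩
  card_linear h := by
    rw [← cen_map_conj, ← cen2_map_conj, card_map_of_injective (MulAut.conj g).injective,
      card_map_of_injective (MulAut.conj g).injective]
    exact D.card_linear h
  card_unitary h := by
    rw [← cen_map_conj, ← cen2_map_conj, card_map_of_injective (MulAut.conj g).injective,
      card_map_of_injective (MulAut.conj g).injective]
    exact D.card_unitary h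

theorem conj_e (g : G) (x : SL F) : (D.conj g).e x = g * D.e x * g⁻¹ := rfl

theorem conj_z (g : G) : (D.conj g).z = g * D.z * g⁻¹ := rfl

theorem conj_z₁ (g : G) : (D.conj g).z₁ = g * D.z₁ * g⁻¹ := rfl

theorem conj_L' (g : G) : (D.conj g).L = D.L.map (MulAut.conj g).toMonoidHom :=
  MonoidHom.range_comp _ _

/-- An element exchanging `z` and `z₁`. -/
theorem exists_tau : ∃ g : G, g * D.z * g⁻¹ = D.z₁ ∧ g * D.z₁ * g⁻¹ = D.z := by
  obtain ⟨g, hg⟩ := isConj_iff.1 (D.one_class D.z D.z₁ D.order_z D.order_z₁)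
  -- `u` is the preimage of `z`
  obtain ⟨u, hu⟩ : ∃ u, u = g⁻¹ * D.z * g := ⟨_, rfl⟩
  have hgu : g * u * g⁻¹ = D.z := by rw [hu]; group
  have huC : u ∈ D.C := by
    refine D.mem_C.2 ?_
    have hz : D.z = g⁻¹ * D.z₁ * g := by rw [← hg]; group
    calc u * D.z = g⁻¹ * (D.z * D.z₁) * g := by rw [hu, ← hg]; group
      _ = g⁻¹ * (D.z₁ * D.z) * g := by rw [D.comm]
      _ = D.z * u := by rw [hu, ← hg]; group
  obtain ⟨x, hx⟩ := D.invol u huC
    (by rw [hu, show g⁻¹ * D.z * g = g⁻¹ * D.z * g⁻¹⁻¹ by group, Invol.orderOf_conj_eq, D.order_z])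
    fun h => D.ne (by rw [← hg]; rw [h] at hgu; exact hgu)
  refine ⟨g * D.e x, ?_, ?_⟩
  · calc g * D.e x * D.z * (g * D.e x)⁻¹ = g * (D.e x * D.z * (D.e x)⁻¹) * g⁻¹ := by group
      _ = D.z₁ := by rw [conj_of_comm (D.e_comm_z x), hg]
  · calc g * D.e x * D.z₁ * (g * D.e x)⁻¹ = g * (D.e x * D.z₁ * (D.e x)⁻¹) * g⁻¹ := by group
      _ = D.z := by rw [← hx, hgu]

/-- An element permuting the three involutions cyclically. -/
theorem exists_rho : ∃ g : G, g * D.z * g⁻¹ = D.z₁ ∧ g * D.z₁ * g⁻¹ = D.z₂ := by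
  obtain ⟨τ, h1, h2⟩ := D.exists_tau
  obtain ⟨x, hx⟩ := D.exists_w
  refine ⟨τ * D.e x, ?_, ?_⟩
  · calc τ * D.e x * D.z * (τ * D.e x)⁻¹ = τ * (D.e x * D.z * (D.e x)⁻¹) * τ⁻¹ := by group
      _ = D.z₁ := by rw [conj_of_comm (D.e_comm_z x), h1]
  · calc τ * D.e x * D.z₁ * (τ * D.e x)⁻¹ = τ * (D.e x * D.z₁ * (D.e x)⁻¹) * τ⁻¹ := by group
      _ = τ * D.z * τ⁻¹ * (τ * D.z₁ * τ⁻¹) := by rw [hx]; group
      _ = D.z₂ := by rw [h1, h2]; exact D.comm.symm

/-- An involution of `T` centralising the component is `z`. -/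
theorem invol_cen_eq {i : G} (hi : i ∈ D.C) (hi2 : orderOf i = 2)
    (hc : ∀ x, i * D.e x = D.e x * i) : i = D.z := by
  by_contra hne
  obtain ⟨x, hx⟩ := D.invol i hi hi2 hne
  have hz : ∀ y, D.z₁ * D.e y = D.e y * D.z₁ := fun y => by
    have hh := hc (x * y * x⁻¹)
    rw [map_mul, map_mul, map_inv, hx] at hh
    calc D.z₁ * D.e y = (D.e x)⁻¹ * (D.e x * D.z₁ * (D.e x)⁻¹ * (D.e x * D.e y * (D.e x)⁻¹)) * D.e x := by
          group
      _ = D.e y * D.z₁ := by rw [hh]; group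
  have hfix : ∀ y, semiSL D.M (RingEquiv.refl F) y = y := fun y => D.e_inj (by
    rw [← D.z₁_act, hz, mul_inv_cancel_right])
  -- so the trace zero matrix would be scalar
  let I : SL F := ⟨!![1, 1; 0, 1], by simp [det_fin_two_of]⟩
  let J : SL F := ⟨!![1, 0; 1, 1], by simp [det_fin_two_of]⟩
  have hcomm : ∀ y : SL F, (D.M : Matrix (Fin 2) (Fin 2) F) * mt y = mt y * D.M := fun y => by
    have hy : mt (semiSL D.M (RingEquiv.refl F) y) = mt y := by rw [hfix y]
    change (semiFun D.M (RingEquiv.refl F) y : Matrix (Fin 2) (Fin 2) F) = mt y at hy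
    rw [coe_semiFun, map_refl_ringEquiv] at hy
    conv_rhs => rw [← hy]
    rw [mul_assoc _ _ (D.M : Matrix (Fin 2) (Fin 2) F), ← Units.val_mul, inv_mul_cancel,
      Units.val_one, mul_one]
  obtain ⟨c, hc'⟩ := OrderFormula.Local.isScal_of_commute_two (hcomm I) (hcomm J) fun h => by
    have h00 := congrFun (congrFun h 0) 0
    simp [I, J, Matrix.mul_apply, Fin.sum_univ_two] at h00
  have htr := D.M_trace
  rw [hc', trace_smul, trace_one, Fintype.card_fin, smul_eq_mul] at htr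
  rcases mul_eq_zero.1 htr with h | h
  · have hd := (Matrix.isUnit_iff_isUnit_det _).1 D.M.isUnit
    rw [hc', h, zero_smul] at hd
    simp at hd
  · exact two_ne_zero_of_odd D.odd_q (by exact_mod_cast h)

/-- `z` does not centralise the component of `z₁`. -/
theorem z_moves (g : G) (hg : g * D.z * g⁻¹ = D.z₁) : ∃ x, D.z * (g * D.e x * g⁻¹) ≠ g * D.e x * g⁻¹ * D.z := by
  by_contra hcon
  push Not at hcon
  refine D.ne (((D.conj g).invol_cen_eq (i := D.z) ?_ D.order_z hcon).trans hg).symm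
  show D.z ∈ Subgroup.centralizer ({g * D.z * g⁻¹} : Set G)
  rw [hg, mem_cen_iff]; exact D.comm

variable [Finite G] [IsSimpleGroup G]

/-- No element except one centralises the component and a conjugate at another involution of the
four-group. -/
theorem eq_one_of_cen_two {g : G} (hg : g * D.z * g⁻¹ = D.z₁) {y : G}
    (h0 : ∀ x, y * D.e x = D.e x * y) (h1 : ∀ x, y * (g * D.e x * g⁻¹) = g * D.e x * g⁻¹ * y) :
    y = 1 := by
  classical
  obtain ⟨K, hKdef⟩ : ∃ K : Subgroup G,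
      K = Subgroup.centralizer (D.L : Set G) ⊓ Subgroup.centralizer ((D.conj g).L : Set G) := ⟨_, rfl⟩
  have hK : ∀ {k : G}, k ∈ K ↔
      (∀ x, k * D.e x = D.e x * k) ∧ ∀ x, k * (D.conj g).e x = (D.conj g).e x * k := fun {k} => by
    rw [hKdef, Subgroup.mem_inf, mem_centralizer_iff, mem_centralizer_iff]
    exact ⟨fun h => ⟨fun x => (h.1 _ ⟨x, rfl⟩).symm, fun x => (h.2 _ ⟨x, rfl⟩).symm⟩,
      fun h => ⟨by rintro _ ⟨x, rfl⟩; exact (h.1 x).symm, by rintro _ ⟨x, rfl⟩; exact (h.2 x).symm⟩⟩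
  have hyK : y ∈ K := hK.2 ⟨h0, h1⟩
  have hKT : K ≤ D.T := fun k hk => by
    refine D.mem_T.2 ⟨?_, ?_⟩
    · rw [← D.e_neg]; exact (hK.1 hk).1 _
    · have := (hK.1 hk).2 (-1)
      rw [(D.conj g).e_neg] at this
      change k * (g * D.z * g⁻¹) = g * D.z * g⁻¹ * k at this
      rwa [hg] at this
  have hKodd : Odd (Nat.card K) := by
    rw [← Nat.not_even_iff_odd, even_iff_two_dvd]
    intro h2
    obtain ⟨i, hi⟩ := exists_prime_orderOf_dvd_card' 2 (hp := ⟨Nat.prime_two⟩) h2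
    rw [← orderOf_coe] at hi
    have hiz := D.invol_cen_eq (D.T_le (hKT i.2)) hi (hK.1 i.2).1
    obtain ⟨x, hx⟩ := D.z_moves g hg
    exact hx (hiz ▸ (hK.1 i.2).2 x)
  -- the element exchanging the two other involutions, and the third component
  obtain ⟨w, hw⟩ := D.exists_w
  obtain ⟨w', hw'⟩ : ∃ x, (D.conj g).e x * D.z * ((D.conj g).e x)⁻¹ = D.z₂ := by
    obtain ⟨x, hx⟩ := (D.conj g).invol D.z (mem_cen_iff.2 (by rw [D.conj_z, hg]; exact D.comm)) D.order_z
      (by show D.z ≠ g * D.z * g⁻¹; rw [hg]; exact D.ne.symm)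
    obtain ⟨x', hx'⟩ := (D.conj g).invol D.z₂ (mem_cen_iff.2 (by rw [D.conj_z, hg]; exact (D.mem_T.1 D.z₂_mem_T).2))
      D.order_z₂ (by show D.z₂ ≠ g * D.z * g⁻¹; rw [hg]; exact D.z₂_ne_z₁)
    refine ⟨x' * x⁻¹, ?_⟩
    rw [map_mul, map_inv, hx', hx]; group
  set H := normalizer (K : Set G) with hH
  have hLH : ∀ x, D.e x ∈ H := fun x => by
    refine mem_normalizer_iff.2 fun k => ⟨fun hk => ?_, fun hk => ?_⟩
    · rwa [← (hK.1 hk).1 x, mul_inv_cancel_right]
    · have h' := (hK.1 hk).1 x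
      have e : k = D.e x * k * (D.e x)⁻¹ := by
        calc k = (D.e x)⁻¹ * (D.e x * k * (D.e x)⁻¹ * D.e x) := by group
          _ = D.e x * k * (D.e x)⁻¹ := by rw [h']; group
      rwa [e]
  have hL'H : ∀ x, (D.conj g).e x ∈ H := fun x => by
    refine mem_normalizer_iff.2 fun k => ⟨fun hk => ?_, fun hk => ?_⟩
    · rwa [← (hK.1 hk).2 x, mul_inv_cancel_right]
    · have h' := (hK.1 hk).2 x
      obtain ⟨y', hy'⟩ : ∃ y', y' = (D.conj g).e x := ⟨_, rfl⟩
      rw [← hy'] at h' hk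
      have e : k = y' * k * y'⁻¹ := by
        calc k = y'⁻¹ * (y' * k * y'⁻¹ * y') := by group
          _ = y' * k * y'⁻¹ := by rw [h']; group
      rwa [e]
  have hTH : D.T ≤ H := by
    have key : ∀ t ∈ D.T, ∀ k ∈ K, t * k * t⁻¹ ∈ K := by
      intro t ht k hk
      have ht1 : t ∈ (D.conj g).C := mem_cen_iff.2 (by rw [D.conj_z, hg]; exact (D.mem_T.1 ht).2)
      refine hK.2 ⟨fun x => ?_, fun x => ?_⟩
      · obtain ⟨x', hx'⟩ := D.e_normal t⁻¹ (inv_mem (D.T_le ht)) x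
        rw [inv_inv] at hx'
        calc t * k * t⁻¹ * D.e x = t * (k * (t⁻¹ * D.e x * t)) * t⁻¹ := by group
          _ = t * ((t⁻¹ * D.e x * t) * k) * t⁻¹ := by rw [← hx', (hK.1 hk).1 x']
          _ = D.e x * (t * k * t⁻¹) := by group
      · obtain ⟨x', hx'⟩ := (D.conj g).e_normal t⁻¹ (inv_mem ht1) x
        rw [inv_inv] at hx'
        calc t * k * t⁻¹ * (D.conj g).e x = t * (k * (t⁻¹ * (D.conj g).e x * t)) * t⁻¹ := by group
          _ = t * ((t⁻¹ * (D.conj g).e x * t) * k) * t⁻¹ := by rw [← hx', (hK.1 hk).2 x']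
          _ = (D.conj g).e x * (t * k * t⁻¹) := by group
    intro t ht
    refine mem_normalizer_iff.2 fun k => ⟨key t ht k, fun hk => ?_⟩
    have := key t⁻¹ (inv_mem ht) _ hk
    rwa [inv_inv, show t⁻¹ * (t * k * t⁻¹) * t = k by group] at this
  have hCH : D.C ≤ H := fun c hc => by
    obtain ⟨x, t, ht, rfl⟩ := D.exists_decomp hc
    exact mul_mem (hLH x) (hTH ht)
  by_contra hy1
  have hKne : K ≠ ⊥ := fun h => hy1 (by rwa [h, mem_bot] at hyK)
  have hHne : H ≠ ⊤ := fun h => by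
    have hn : K.Normal := normalizer_eq_top_iff.1 h
    rcases hn.eq_bot_or_eq_top with e | e
    · exact hKne e
    · rw [e, card_top] at hKodd
      have h2 := orderOf_dvd_natCard D.z
      rw [D.order_z] at h2
      exact Nat.not_even_iff_odd.2 hKodd (even_iff_two_dvd.2 h2)
  have heven : Even (Nat.card H) := by
    rw [even_iff_two_dvd, ← D.order_z, ← orderOf_mk D.z (hCH D.z_mem_C)]
    exact orderOf_dvd_natCard _
  -- every involution of `H` is conjugate in `H` to `z`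
  have hfus : ∀ i ∈ H, orderOf i = 2 → ∃ h ∈ H, h * D.z * h⁻¹ = i := by
    have hUz : ∀ j ∈ D.C, orderOf j = 2 → ∃ h ∈ H, h * D.z * h⁻¹ = j := by
      intro j hj hj2
      by_cases hjz : j = D.z
      · exact ⟨1, one_mem _, by rw [hjz]; group⟩
      obtain ⟨x, hx⟩ := D.invol j hj hj2 hjz
      refine ⟨D.e x * ((D.e w)⁻¹ * (D.conj g).e w'), mul_mem (hLH x) (mul_mem (inv_mem (hLH w)) (hL'H w')), ?_⟩
      calc D.e x * ((D.e w)⁻¹ * (D.conj g).e w') * D.z * (D.e x * ((D.e w)⁻¹ * (D.conj g).e w'))⁻¹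
          = D.e x * ((D.e w)⁻¹ * ((D.conj g).e w' * D.z * ((D.conj g).e w')⁻¹) * D.e w) * (D.e x)⁻¹ := by
            group
        _ = j := by rw [hw', hx, ← hw]; group
    intro i hi hi2
    by_cases hodd : Odd (orderOf (D.z * i))
    · obtain ⟨d, hd, he⟩ := Invol.exists_conj_of_odd D.order_z hi2 hodd
      refine ⟨d, ?_, he⟩
      exact (closure_le H).2 (by
        rintro v (rfl | rfl)
        · exact hCH D.z_mem_C
        · exact hi) hd
    · obtain ⟨hj2, hjz, hji⟩ := Invol.half_props D.order_z hi2 (Nat.not_odd_iff_even.1 hodd)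
      obtain ⟨h, hh, hhj⟩ := hUz _ (D.mem_C.2 hjz.eq) hj2
      have hi' : h⁻¹ * i * h ∈ D.C := by
        refine D.mem_C.2 ?_
        have e := hji.eq
        rw [← hhj] at e
        calc h⁻¹ * i * h * D.z = h⁻¹ * (i * (h * D.z * h⁻¹)) * h := by group
          _ = h⁻¹ * (h * D.z * h⁻¹ * i) * h := by rw [e]
          _ = D.z * (h⁻¹ * i * h) := by group
      obtain ⟨k, hk, hke⟩ := hUz _ hi' (by
        rw [show h⁻¹ * i * h = h⁻¹ * i * h⁻¹⁻¹ by group, Invol.orderOf_conj_eq, hi2])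
      refine ⟨h * k, mul_mem hh hk, ?_⟩
      calc h * k * D.z * (h * k)⁻¹ = h * (k * D.z * k⁻¹) * h⁻¹ := by group
        _ = i := by rw [hke]; group
  have hse : Cfsg.IsStronglyEmbedded H := (Cfsg.Agent.S0223.result H hHne heven).2 ⟨fun t ht ht2 => by
      obtain ⟨h, hh, rfl⟩ := hfus t ht ht2
      rw [← cen_map_conj]
      rintro _ ⟨c, hc, rfl⟩
      exact mul_mem (mul_mem hh (hCH hc)) (inv_mem hh),
    fun t ht s hs ht2 hs2 _ => by
      obtain ⟨h, hh, rfl⟩ := hfus t ht ht2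
      obtain ⟨k, hk, rfl⟩ := hfus s hs hs2
      exact ⟨k * h⁻¹, mul_mem hk (inv_mem hh), by group⟩⟩
  have hKcore : K.subgroupOf H ≤ Cfsg.oddCore H := le_sSup
    ⟨inferInstance, by
      rw [Nat.card_congr (subgroupOfEquivOfLe le_normalizer).toEquiv]; exact Nat.coprime_two_right.2 hKodd⟩
  have hle := (map_mono hKcore).trans (Cfsg.Agent.S1221.result H hse)
  rw [subgroupOf_map_subtype, inf_eq_left.2 le_normalizer] at hle
  have hcore : Cfsg.oddCore G = ⊥ := by
    rcases (CfsgLib.DGroup.normal_oddCore G).eq_bot_or_eq_top with e | e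
    · exact e
    · exfalso
      have ho := CfsgLib.DGroup.odd_oddCore G
      rw [e, card_top] at ho
      have h2 := orderOf_dvd_natCard D.z
      rw [D.order_z] at h2
      exact Nat.not_even_iff_odd.2 ho (even_iff_two_dvd.2 h2)
  exact hKne (le_bot_iff.1 (hcore ▸ hle))

end Loc

end CfsgLib.ABG.Recog
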