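import Cfsg.Agent.ABG.Recog.Mats
import Mathlib.LinearAlgebra.Matrix.Charpoly.Coeff
import Mathlib.Algebra.CharP.Lemmas
import Mathlib.GroupTheory.Perm.Cycle.Type

/-!
# Subgroups of `SL₂(q)` invariant under the diagonal automorphisms

A subgroup of `SL₂(q)`, `q` odd, which is invariant under the diagonal automorphisms, contains
`wel` and has order divisible by the characteristic contains both root groups.
-/

set_option autoImplicit false

namespace CfsgLib.ABG.Recog.DiagInv

open Matrix CfsgLib.SL2C CfsgLib.AutPSL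

variable {F : Type*} [Field F]

theorem mt_dia (a : Fˣ) (g : SL F) :
    mt (semiSL (dia a) (RingEquiv.refl F) g) =
      !![mt g 0 0, (a : F) * mt g 0 1; ((a⁻¹ : Fˣ) : F) * mt g 1 0, mt g 1 1] := by
  show (semiFun (dia a) (RingEquiv.refl F) g : Matrix (Fin 2) (Fin 2) F) = _
  rw [coe_semiFun, map_refl_ringEquiv, coe_dia, coe_dia_inv]
  ext i j; fin_cases i <;> fin_cases j <;>
    simp [Matrix.mul_apply, Matrix.vecMul, dotProduct, Fin.sum_univ_two, mul_comm]

variable {H : Subgroup (SL F)}
  (hd : ∀ (a : Fˣ) (x : SL F), x ∈ H → semiSL (dia a) (RingEquiv.refl F) x ∈ H)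
  (hw : (wel : SL F) ∈ H)

include hd hw

theorem roots_of_up {c : F} (hc : c ≠ 0) (h : up c ∈ H) (b : F) : up b ∈ H ∧ low b ∈ H := by
  have hall : ∀ b, up b ∈ H := fun b => by
    rcases eq_or_ne b 0 with rfl | hb
    · rw [up_zero]; exact one_mem _
    · have h' := hd (Units.mk0 (b / c) (div_ne_zero hb hc)) _ h
      rw [semi_dia_up, Units.val_mk0, RingEquiv.refl_apply, div_mul_cancel₀ _ hc] at h'
      exact h'
  refine ⟨hall b, ?_⟩
  have h' := mul_mem (mul_mem hw (hall (-b))) (inv_mem hw)
  rwa [wel_conj_up, neg_neg] at h'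

variable (h2 : (2 : F) ≠ 0)

include h2

theorem roots_of_upper {h : SL F} (hh : h ∈ H) (h10 : mt h 1 0 = 0) (h01 : mt h 0 1 ≠ 0) (b : F) :
    up b ∈ H ∧ low b ∈ H := by
  have h00 : mt h 0 0 ≠ 0 := fun e => by
    have hdet := det_mt h
    rw [det_fin_two, e, h10] at hdet
    simp at hdet
  have hm := mul_mem (inv_mem hh) (hd (-1) h hh)
  have e : h⁻¹ * semiSL (dia (-1)) (RingEquiv.refl F) h = up (-2 * mt h 0 1 * mt h 1 1) := by
    refine mt_injective ?_
    have hdet := det_mt h
    rw [det_fin_two, h10] at hdet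
    rw [mt_mul, mt_dia, mt_inv, trace_fin_two]
    ext i j; fin_cases i <;> fin_cases j <;>
      simp [up, Matrix.mul_apply, Fin.sum_univ_two, h10] <;>
      first | ring1 | linear_combination hdet
  rw [e] at hm
  refine roots_of_up hd hw ?_ hm b
  refine mul_ne_zero (mul_ne_zero (neg_ne_zero.2 h2) h01) fun e => ?_
  have hdet := det_mt h
  rw [det_fin_two, e, h10] at hdet
  simp at hdet

theorem roots_of_shape {g : SL F} (hg : g ∈ H) {x : F} (h00 : mt g 0 0 = 1 + x)
    (h11 : mt g 1 1 = 1 - x) (hx : x ≠ 0) (hp : (3 : F) = 0 ∨ (1 + x ≠ 0 ∧ 1 - 2 * x ≠ 0))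
    (hx3 : (3 : F) = 0 → x * x = -1 ∨ (x * x ≠ x + 1 ∧ x * x ≠ -1) ∨ x = -1) (b : F) :
    up b ∈ H ∧ low b ∈ H := by
  obtain ⟨β, hβ⟩ : ∃ β, mt g 0 1 = β := ⟨_, rfl⟩
  obtain ⟨γ, hγ⟩ : ∃ γ, mt g 1 0 = γ := ⟨_, rfl⟩
  have hdet := det_mt g
  rw [det_fin_two, h00, h11, hβ, hγ] at hdet
  have hbc : β * γ = -(x * x) := by linear_combination -hdet
  have hβ0 : β ≠ 0 := fun e => hx (mul_self_eq_zero.1 (by linear_combination hbc - γ * e))
  have hγ0 : γ ≠ 0 := fun e => hx (mul_self_eq_zero.1 (by linear_combination hbc - β * e))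
  by_cases h3 : (3 : F) = 0
  · by_cases hx1 : x = -1
    · -- `wel * g` is triangular
      refine roots_of_upper hd hw h2 (mul_mem hw hg) ?_ ?_ b
      · rw [mt_mul]; simp [wel, Matrix.mul_apply, Fin.sum_univ_two, h00, hx1]
      · rw [mt_mul]
        simp [wel, Matrix.mul_apply, Fin.sum_univ_two, h11, hx1]
        intro e; exact h2 (by linear_combination e)
    have h1x : 1 + x ≠ 0 := fun e => hx1 (by linear_combination e)
    -- the choice of the first multiplier
    obtain ⟨a, ha0, hU, hP, hR⟩ : ∃ a : F, a ≠ 0 ∧ a * (1 + x) + (1 - x) ≠ 0 ∧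
        (1 - x) * (1 - x) - a * (x * x) ≠ 0 ∧
        a * a * ((1 + x) * (1 + x)) + a * (1 - 2 * (x * x)) + (1 - x) * (1 - x) ≠ 0 := by
      rcases hx3 h3 with hs | ⟨hs, hs1⟩ | hs
      · refine ⟨1 + x, h1x, ?_, ?_, ?_⟩
        · intro e
          exact h1x (by linear_combination e - hs)
        · intro e
          have e' : 1 - x = 0 := by linear_combination e + x * hs
          exact h2 (by linear_combination (1 + x) * e' + hs)
        · intro e
          have e' : x - 1 = 0 := by linear_combination e - (x * x + 2 * x + 4) * hs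
          exact h2 (by linear_combination hs - (1 + x) * e')
      · refine ⟨-1, neg_ne_zero.2 one_ne_zero, ?_, ?_, ?_⟩
        · intro e
          exact mul_ne_zero h2 hx (by linear_combination -e)
        · intro e
          exact hs (by linear_combination -e + (x * x) * h3 - x * h3)
        · intro e
          exact hs1 (by linear_combination e - (x * x) * h3)
      · exact absurd hs hx1
    obtain ⟨U, hUdef⟩ : ∃ U, U = a * (1 + x) + (1 - x) := ⟨_, rfl⟩
    obtain ⟨P, hPdef⟩ : ∃ P, P = (1 - x) * (1 - x) - a * (x * x) := ⟨_, rfl⟩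
    rw [← hUdef] at hU
    rw [← hPdef] at hP
    have hb0 : -(P * a) / ((1 + x) * U) ≠ 0 :=
      div_ne_zero (neg_ne_zero.2 (mul_ne_zero hP ha0)) (mul_ne_zero h1x hU)
    refine roots_of_upper hd hw h2
      (mul_mem (mul_mem hg (hd (Units.mk0 a ha0) g hg)) (hd (Units.mk0 _ hb0) g hg)) ?_ ?_ b
    · rw [mt_mul, mt_mul, mt_dia, mt_dia]
      simp [Matrix.mul_apply, Fin.sum_univ_two, h00, h11, hβ, hγ]
      field_simp
      rw [hPdef, hUdef]
      linear_combination -(γ * (a * a * (1 + x) ^ 2 + a * (1 - x ^ 2))) * hbc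
    · rw [mt_mul, mt_mul, mt_dia, mt_dia]
      simp [Matrix.mul_apply, Fin.sum_univ_two, h00, h11, hβ, hγ]
      intro e
      field_simp at e
      apply hR
      apply mul_left_cancel₀ hβ0
      rw [mul_zero]
      rw [hPdef, hUdef] at e
      linear_combination e + β * ((1 - x) * (1 - x) - a * (x * x)) * hbc
  · obtain ⟨h1x, h12x⟩ := hp.resolve_left h3
    have ha0 : -(1 - 2 * x) / (2 * (1 + x)) ≠ 0 :=
      div_ne_zero (neg_ne_zero.2 h12x) (mul_ne_zero h2 h1x)
    refine roots_of_upper hd hw h2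
      (mul_mem (mul_mem hg hg) (hd (Units.mk0 _ ha0) g hg)) ?_ ?_ b
    · rw [mt_mul, mt_mul, mt_dia]
      have h12x' : x * 2 - 1 ≠ 0 := fun e => h12x (by linear_combination -e)
      have h12x'' : -1 + x * 2 ≠ 0 := fun e => h12x (by linear_combination -e)
      simp [Matrix.mul_apply, Fin.sum_univ_two, h00, h11, hβ, hγ]
      field_simp
      linear_combination 2 * γ * (1 + x) * hbc
    · rw [mt_mul, mt_mul, mt_dia]
      simp [Matrix.mul_apply, Fin.sum_univ_two, h00, h11, hβ, hγ]
      intro e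
      field_simp at e
      apply h3
      apply mul_left_cancel₀ hβ0
      rw [mul_zero]
      linear_combination e - β * (2 * x - 1) * hbc

omit hd hw h2 in
theorem trace_eq_two {p : ℕ} [Fact p.Prime] [CharP F p] {g : SL F} (hg : g ^ p = 1) :
    mt g 0 0 + mt g 1 1 = 2 := by
  have h1 : mt g ^ p = 1 := by
    have : mt (g ^ p) = mt g ^ p := Matrix.SpecialLinearGroup.coe_pow g p
    rw [← this, hg]; rfl
  have h2 : IsNilpotent (mt g - 1) := ⟨p, by
    rw [sub_pow_char_of_commute (p := p) (Commute.one_right _), h1, one_pow, sub_self]⟩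
  have h3 := (Matrix.isNilpotent_trace_of_isNilpotent h2).eq_zero
  rw [trace_sub, trace_one, Fintype.card_fin, trace_fin_two] at h3
  push_cast at h3
  linear_combination h3

/-- A subgroup invariant under the diagonal automorphisms, containing `wel` and of order divisible
by the characteristic, contains both root groups. -/
theorem up_low_mem [Finite F] {p : ℕ} [Fact p.Prime] [CharP F p] (hp : p ∣ Nat.card H) (b : F) :
    up b ∈ H ∧ low b ∈ H := by
  obtain ⟨g, hg⟩ := exists_prime_orderOf_dvd_card' p hp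
  rw [← orderOf_submonoid] at hg
  have hgp : (g : SL F) ^ p = 1 := by rw [← hg]; exact pow_orderOf_eq_one _
  have hg1 : (g : SL F) ≠ 1 := fun e => by
    rw [e, orderOf_one] at hg
    exact (Fact.out : p.Prime).ne_one hg.symm
  have ht := trace_eq_two (p := p) hgp
  obtain ⟨x, hx⟩ : ∃ x, mt (g : SL F) 0 0 = 1 + x := ⟨mt (g : SL F) 0 0 - 1, by ring⟩
  have hx' : mt (g : SL F) 1 1 = 1 - x := by linear_combination ht - hx
  by_cases hx0 : x = 0
  · have hdet := det_mt (g : SL F)
    rw [det_fin_two, hx, hx', hx0] at hdet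
    have h0 : mt (g : SL F) 0 1 * mt (g : SL F) 1 0 = 0 := by linear_combination -hdet
    rcases mul_eq_zero.1 h0 with h01 | h10
    · -- lower triangular: conjugate by `wel`
      have h10 : mt (g : SL F) 1 0 ≠ 0 := fun e => hg1 (mt_injective (by
        ext i j; fin_cases i <;> fin_cases j <;> simp [hx, hx', hx0, h01, e]))
      have hlow : (g : SL F) = low (mt (g : SL F) 1 0) := mt_injective (by
        ext i j; fin_cases i <;> fin_cases j <;> simp [low, hx, hx', hx0, h01])
      have hm := mul_mem (mul_mem hw g.2) (inv_mem hw)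
      rw [hlow, wel_conj_low] at hm
      exact roots_of_up hd hw (neg_ne_zero.2 h10) hm b
    · exact roots_of_upper hd hw h2 g.2 h10 (fun e => hg1 (mt_injective (by
        ext i j; fin_cases i <;> fin_cases j <;> simp [hx, hx', hx0, h10, e]))) b
  · have hi0 : mt (g : SL F)⁻¹ 0 0 = 1 + -x := by
      rw [mt_inv, trace_fin_two, hx, hx']; simp [hx]; try ring
    have hi1 : mt (g : SL F)⁻¹ 1 1 = 1 - -x := by
      rw [mt_inv, trace_fin_two, hx, hx']; simp [hx']; try ring
    have hneg : (g : SL F)⁻¹ ∈ H := inv_mem g.2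
    by_cases h3 : (3 : F) = 0
    · by_cases hs : x * x = -1
      · exact roots_of_shape hd hw h2 g.2 hx hx' hx0 (Or.inl h3) (fun _ => Or.inl hs) b
      by_cases hs1 : x * x = x + 1
      · refine roots_of_shape hd hw h2 hneg hi0 hi1 (neg_ne_zero.2 hx0) (Or.inl h3)
          (fun _ => Or.inr (Or.inl ⟨fun e => hx0 ?_, fun e => hs (by linear_combination e)⟩)) b
        exact (mul_eq_zero.1 (show (2 : F) * x = 0 by linear_combination e - hs1)).resolve_left h2
      · exact roots_of_shape hd hw h2 g.2 hx hx' hx0 (Or.inl h3)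
          (fun _ => Or.inr (Or.inl ⟨hs1, hs⟩)) b
    · by_cases hbad : 1 + x = 0 ∨ 1 - 2 * x = 0
      · refine roots_of_shape hd hw h2 hneg hi0 hi1 (neg_ne_zero.2 hx0) (Or.inr ⟨?_, ?_⟩)
          (fun e => absurd e h3) b
        · intro e
          rcases hbad with h | h
          · exact h2 (by linear_combination e + h)
          · exact one_ne_zero (by linear_combination -h - 2 * -e : (1 : F) = 0)
        · intro e
          rcases hbad with h | h
          · exact one_ne_zero (by linear_combination -e + 2 * h : (1 : F) = 0)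
          · exact h2 (by linear_combination e + h)
      · exact roots_of_shape hd hw h2 g.2 hx hx' hx0
          (Or.inr (not_or.1 hbad)) (fun e => absurd e h3) b

end CfsgLib.ABG.Recog.DiagInv
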