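import Cfsg.Agent.OrderFormula.Equations

/-!
# Alperin-Brauer-Gorenstein, recognition half: two characters from the elliptic function

In the unitary type (`ε = -1`) the regular elliptic function is `1 + θ - χ` with `θ`, `χ` irreducible
of degrees `q³`, `q³ + 1`, and it vanishes at the elements none of whose conjugates in `C(z)` fixes a
point of the projective line.  With `excep_degree` this is what excludes the bad primes.
-/

set_option autoImplicit false
set_option linter.unusedSectionVars false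

namespace CfsgLib.ABG.Recog

open Cfsg CfsgLib.OrderFormula CfsgLib.Char Coh

universe u

attribute [local instance] Classical.propDecidable

variable {G : Type u} [Group G] [Fintype G] {X : Type u} [Group X] [Fintype X] {D : Cen X}
  (A : Amb G D)

/-- An elliptic function vanishes at the elements whose conjugates in `C(z)` fix no point. -/
theorem eFun_eq_zero (hε : D.ε = -1) (a : D.EIdx) {g : G}
    (hg : ∀ (x : G) (c : A.C), (c : G) = x⁻¹ * g * x → ∀ pt : X ⧸ D.B, A.π c • pt ≠ pt) :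
    A.eFun a g = 0 := by
  unfold Amb.eFun Amb.Phi
  rw [indFun_def]
  refine mul_eq_zero_of_right _ (Finset.sum_eq_zero fun x _ => ?_)
  by_cases hm : x⁻¹ * g * x ∈ A.C
  · rw [extendByZero_of_mem _ hm]
    set c : A.C := ⟨x⁻¹ * g * x, hm⟩
    show D.valE (fun _ => 0) (D.ellE a) (A.π c) = 0
    have hk : D.kappa (A.π c) = 0 := by
      have : IsEmpty {pt : X ⧸ D.B // A.π c • pt = pt} := ⟨fun pt => hg x c rfl _ pt.2⟩
      rw [Cen.kappa, Nat.card_of_isEmpty, hε]
      simp
    rcases D.cases_type (A.π c) with ⟨p, hp, h⟩ | ⟨i, hi, h⟩ | ⟨y, h⟩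
    · rw [D.valE_offdiag (fun _ => rfl) hp h, ite_self]
    · exfalso
      rw [D.kappa_outer hi h] at hk
      norm_num at hk
    · rw [D.valE_central _ _ h, hk]
      simp
  · exact extendByZero_of_not_mem _ hm

variable [Fintype (IrrCharacter G)] {hP : PairVirtual D}

/-- The two characters. -/
theorem exists_ell_chars (hε : D.ε = -1) (P : Shape (A.config hP))
    (hx : dot deg P.A = -D.Y ^ 3) :
    ∃ θ χ : IrrCharacter G, (θ : G → ℂ) 1 = ((D.q ^ 3 : ℕ) : ℂ) ∧
      (χ : G → ℂ) 1 = ((D.q ^ 3 : ℕ) : ℂ) + 1 ∧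
      ∀ g : G, (∀ (x : G) (c : A.C), (c : G) = x⁻¹ * g * x →
        ∀ pt : X ⧸ D.B, A.π c • pt ≠ pt) → 1 + (θ : G → ℂ) g - (χ : G → ℂ) g = 0 := by
  classical
  obtain ⟨r⟩ : Nonempty D.RIdx := Fintype.card_pos_iff.1 (by have := D.card_RIdx.1; omega)
  have hQ : dot deg P.A = (D.q : ℤ) ^ 3 := by rw [hx, Cen.Y, hε]; ring
  have hdX : dot deg (P.X r) = -1 - (D.q : ℤ) ^ 3 := by rw [← hQ]; exact P.deg_X r
  obtain ⟨θ, s, hs, hA⟩ := P.unit_A.exists_single
  obtain ⟨χ, t, ht, hX⟩ := (P.unit_X r).exists_single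
  have hpos : ∀ ψ : IrrCharacter G, (0 : ℤ) < deg ψ := fun ψ => by
    obtain ⟨d, hd, hd'⟩ := IsIrrCharacter.exists_degree ψ.2
    have h : ((deg ψ : ℤ) : ℂ) = ((d : ℤ) : ℂ) := by rw [cast_deg, hd']; simp
    rw [Int.cast_inj.1 h]
    exact_mod_cast hd
  have hq : (0 : ℤ) < (D.q : ℤ) ^ 3 := pow_pos (by exact_mod_cast (show 0 < D.q by linarith [D.hq.2])) 3
  have hθ : s = 1 ∧ deg θ = (D.q : ℤ) ^ 3 := by
    have h := hQ
    rw [dot_comm, hA, dot_single] at h
    rcases hs with rfl | rfl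
    · exact ⟨rfl, by linarith⟩
    · exfalso; nlinarith [hpos θ]
  have hχ : t = -1 ∧ deg χ = (D.q : ℤ) ^ 3 + 1 := by
    have h := hdX
    rw [dot_comm, hX, dot_single] at h
    rcases ht with rfl | rfl
    · exfalso; nlinarith [hpos χ]
    · exact ⟨rfl, by linarith⟩
  refine ⟨θ, χ, ?_, ?_, fun g hg => ?_⟩
  · rw [← cast_deg, hθ.2]; push_cast; ring
  · rw [← cast_deg, hχ.2]; push_cast; ring
  · have h := eFun_eq_zero A hε r.1 hg
    rw [apply_eq_sum (A.isGeneralized_eFun hP r.1), Amb.co_eFun_rep P r, hA, hX, hθ.1, hχ.1] at h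
    simp only [Pi.add_apply, Int.cast_add, add_mul, Finset.sum_add_distrib] at h
    rw [Amb.sum_single_mul (fun ψ : IrrCharacter G => (ψ : G → ℂ) g),
      Amb.sum_single_mul (fun ψ : IrrCharacter G => (ψ : G → ℂ) g), Coh.one,
      Amb.sum_single_mul (fun ψ : IrrCharacter G => (ψ : G → ℂ) g), CfsgLib.Block.oneIrr_apply] at h
    push_cast at h
    linear_combination h

end CfsgLib.ABG.Recog
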