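import Cfsg.Agent.Char.Induction
import Cfsg.Agent.Char.Central
import Mathlib.RingTheory.IntegralDomain
import Mathlib.GroupTheory.IndexNormal
import Mathlib.GroupTheory.SpecificGroups.Cyclic.Basic

/-!
# An exceptional character degree from a dihedral-type local configuration

A linear character `ν` of a subgroup `Y` of index two in `N`, inverted by `N` and supported on
elements whose cyclic groups contain `y`, gives a generalised character of norm three orthogonal
to `1 + θ - χ`.  Its third constituent has degree `Q - 1` or `Q + 2`.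
-/

set_option autoImplicit false

namespace CfsgLib.ABG.Recog

open CfsgLib.Char
open scoped ComplexConjugate

universe u

variable {G : Type u} [Group G]

/-- In a finite cyclic group the elements killed by the order of `u` are powers of `u`. -/
private theorem exists_pow_of_mem_cyclic [Finite G] {a u w : G}
    (hu : u ∈ Subgroup.zpowers a) (hw : w ∈ Subgroup.zpowers a) (h : w ^ orderOf u = 1) :
    ∃ i : ℕ, w = u ^ i := by
  classical
  set C := Subgroup.zpowers a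
  have : Fintype C := Fintype.ofFinite C
  set u' : C := ⟨u, hu⟩
  set w' : C := ⟨w, hw⟩
  have ho : orderOf u' = orderOf u := Subgroup.orderOf_mk u hu
  have hle := IsCyclic.card_pow_eq_one_le (α := C) (n := orderOf u') (orderOf_pos u')
  let S : Finset C := Finset.univ.filter fun x => x ^ orderOf u' = 1
  let T : Finset C := (Finset.range (orderOf u')).image (u' ^ ·)
  have hTS : T ⊆ S := by
    intro x hx
    obtain ⟨i, -, rfl⟩ := Finset.mem_image.1 hx
    refine Finset.mem_filter.2 ⟨Finset.mem_univ _, ?_⟩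
    rw [← pow_mul, mul_comm, pow_mul, pow_orderOf_eq_one, one_pow]
  have hT : T.card = orderOf u' := by
    rw [Finset.card_image_of_injOn, Finset.card_range]
    intro i hi j hj hij
    exact pow_injOn_Iio_orderOf (Finset.mem_range.1 (Finset.mem_coe.1 hi))
      (Finset.mem_range.1 (Finset.mem_coe.1 hj)) hij
  have hST : T = S := Finset.eq_of_subset_of_card_le hTS (hle.trans_eq hT.symm)
  have hw' : w' ∈ T := by
    rw [hST]
    refine Finset.mem_filter.2 ⟨Finset.mem_univ _, Subtype.ext ?_⟩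
    rw [ho]
    simpa [w'] using h
  obtain ⟨i, -, hi⟩ := Finset.mem_image.1 hw'
  exact ⟨i, by simpa [u', w'] using (congrArg Subtype.val hi).symm⟩

/-- If `y` is a power of both `a` and a conjugate `x⁻¹ a x`, then `x y x⁻¹` is a power of `y`. -/
private theorem exists_conj_eq_pow [Finite G] {a y x : G} (h₁ : y ∈ Subgroup.zpowers a)
    (h₂ : y ∈ Subgroup.zpowers (x⁻¹ * a * x)) : ∃ i : ℕ, x * y * x⁻¹ = y ^ i := by
  refine exists_pow_of_mem_cyclic h₁ ?_ ?_
  · obtain ⟨k, hk⟩ := Subgroup.mem_zpowers_iff.1 h₂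
    have hc : MulAut.conj x y = a ^ k := by
      rw [← hk, map_zpow]
      congr 1
      simp [MulAut.conj_apply, mul_assoc]
    exact Subgroup.mem_zpowers_iff.2 ⟨k, by rw [← hc, MulAut.conj_apply]⟩
  · rw [conj_pow, pow_orderOf_eq_one, mul_one, mul_inv_cancel]

/-- The values of `1 - ν` induced to `G`, where `ν` is nontrivial. -/
private theorem indFun_one_sub_apply [Fintype G] {Y N : Subgroup G} (hYN : Y ≤ N)
    (hidx : Y.relIndex N = 2) {y : G}
    (hnorm : ∀ g : G, (∃ i : ℕ, g * y * g⁻¹ = y ^ i) → g ∈ N)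
    {ν : Y →* ℂˣ} (hsupp : ∀ a : Y, ν a ≠ 1 → y ∈ Subgroup.zpowers (a : G))
    (hinv : ∀ w ∈ N, w ∉ Y → ∀ a b : Y, w * (a : G) * w⁻¹ = (b : G) → ν b = (ν a)⁻¹)
    {a : Y} (ha : ν a ≠ 1) :
    Cfsg.indFun Y (fun b => 1 - (ν b : ℂ)) a = 2 - (ν a : ℂ) - (ν a : ℂ)⁻¹ := by
  classical
  have hnormal : (Y.subgroupOf N).Normal := Subgroup.normal_of_index_eq_two hidx
  have hconj : ∀ x ∈ N, x⁻¹ * (a : G) * x ∈ Y := fun x hx => by
    have h : (⟨x, hx⟩ : N)⁻¹ * ⟨(a : G), hYN a.2⟩ * ⟨x, hx⟩ ∈ Y.subgroupOf N := by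
      simpa using hnormal.conj_mem ⟨(a : G), hYN a.2⟩ (Subgroup.mem_subgroupOf.2 a.2) ⟨x, hx⟩⁻¹
    simpa [Subgroup.mem_subgroupOf] using h
  have key : ∀ x : G, Cfsg.extendByZero Y (fun b => 1 - (ν b : ℂ)) (x⁻¹ * a * x) =
      (if x ∈ Y then (ν a : ℂ)⁻¹ - ν a else 0) + (if x ∈ N then 1 - (ν a : ℂ)⁻¹ else 0) := by
    intro x
    by_cases hxY : x ∈ Y
    · rw [if_pos hxY, if_pos (hYN hxY), extendByZero_of_mem _ (hconj x (hYN hxY))]
      have : (⟨x⁻¹ * (a : G) * x, hconj x (hYN hxY)⟩ : Y) = ⟨x, hxY⟩⁻¹ * a * ⟨x, hxY⟩ := by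
        ext; simp
      rw [this, map_mul, map_mul, map_inv, inv_mul_cancel_comm]
      ring
    by_cases hxN : x ∈ N
    · rw [if_neg hxY, if_pos hxN, extendByZero_of_mem _ (hconj x hxN),
        hinv x⁻¹ (N.inv_mem hxN) (fun h => hxY (by simpa using Y.inv_mem h)) a
          ⟨_, hconj x hxN⟩ (by simp)]
      simp
    rw [if_neg hxY, if_neg hxN, add_zero]
    by_cases hm : x⁻¹ * (a : G) * x ∈ Y
    · rw [extendByZero_of_mem _ hm]
      by_contra hne
      have hb : ν ⟨x⁻¹ * (a : G) * x, hm⟩ ≠ 1 := fun h => hne (by simp [h])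
      exact hxN (hnorm x (exists_conj_eq_pow (hsupp a ha) (hsupp _ hb)))
    · exact extendByZero_of_not_mem _ hm
  have hfilter : ∀ K : Subgroup G, (Finset.univ.filter (· ∈ K)).card = Nat.card K := fun K => by
    rw [Nat.card_eq_fintype_card, Fintype.card_subtype]
  have hcard : Nat.card N = 2 * Nat.card Y := by
    have h := Subgroup.relIndex_mul_relIndex ⊥ Y N bot_le hYN
    rw [Subgroup.relIndex_bot_left, Subgroup.relIndex_bot_left, hidx] at h
    omega
  have hY : (Nat.card Y : ℂ) ≠ 0 := by exact_mod_cast Nat.card_pos.ne'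
  rw [indFun_def, Finset.sum_congr rfl fun x _ => key x, Finset.sum_add_distrib,
    ← Finset.sum_filter, ← Finset.sum_filter, Finset.sum_const, Finset.sum_const, nsmul_eq_mul,
    nsmul_eq_mul, hfilter, hfilter, hcard]
  push_cast
  field_simp
  ring

/-- A family of integers with squares summing to one has exactly one nonzero member. -/
private theorem exists_of_sum_sq_eq_one {ι : Type*} [DecidableEq ι] {s : Finset ι} {n : ι → ℤ}
    (h : ∑ i ∈ s, n i * n i = 1) :
    ∃ i₀ ∈ s, (n i₀ = 1 ∨ n i₀ = -1) ∧ ∀ i ∈ s, i ≠ i₀ → n i = 0 := by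
  obtain ⟨i₀, hi₀, hne⟩ : ∃ i ∈ s, n i ≠ 0 := by
    by_contra! hall
    rw [Finset.sum_eq_zero (fun i hi => by rw [hall i hi, mul_zero])] at h
    exact zero_ne_one h
  rw [← Finset.add_sum_erase _ _ hi₀] at h
  have hpos : 1 ≤ n i₀ * n i₀ := mul_self_pos.2 hne
  have hrest0 : ∀ i ∈ s.erase i₀, 0 ≤ n i * n i := fun i _ => mul_self_nonneg _
  have hrest := Finset.sum_nonneg hrest0
  exact ⟨i₀, hi₀, mul_self_eq_one_iff.1 (by omega), fun i hi hne' =>
    mul_self_eq_zero.1 ((Finset.sum_eq_zero_iff_of_nonneg hrest0).1 (by omega) i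
      (Finset.mem_erase.2 ⟨hne', hi⟩))⟩

/-- A generalised character of norm three vanishing at the identity, containing the trivial
character once and orthogonal to `1 + θ - χ`, has a constituent of degree `Q - 1` or `Q + 2`. -/
theorem exists_degree_of_norm_three [Fintype G] {V : G → ℂ}
    (hV : Cfsg.IsGeneralizedCharacter G V) (hV3 : Cfsg.classInner V V = 3) (hV0 : V 1 = 0)
    (hV1 : Cfsg.classInner V (fun _ => (1 : ℂ)) = 1) {θ χ : G → ℂ}
    (hθirr : Cfsg.IsIrrCharacter G θ) (hχirr : Cfsg.IsIrrCharacter G χ) {Q : ℕ} (hQ : 2 ≤ Q)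
    (hθ : θ 1 = (Q : ℂ)) (hχ : χ 1 = (Q : ℂ) + 1)
    (hort : Cfsg.classInner V ((fun _ : G => (1 : ℂ)) + θ - χ) = 0) :
    ∃ (ψ : G → ℂ) (d : ℕ), Cfsg.IsIrrCharacter G ψ ∧ ψ 1 = (d : ℂ) ∧ (d = Q - 1 ∨ d = Q + 2) := by
  classical
  set t : G → ℂ := fun _ => (1 : ℂ)
  set s := irrFinset G
  have hm : ∀ ψ ∈ s, ∃ k : ℤ, Cfsg.classInner V ψ = k := fun ψ hψ =>
    IsGeneralized.exists_classInner_eq_int hV (IsIrrCharacter.isGeneralized (mem_irrFinset.1 hψ))
  choose! n hn using hm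
  have hd : ∀ ψ ∈ s, ∃ d : ℕ, 0 < d ∧ ψ 1 = (d : ℂ) := fun ψ hψ =>
    IsIrrCharacter.exists_degree (mem_irrFinset.1 hψ)
  choose! d hdpos hd using hd
  have htm : t ∈ s := mem_irrFinset.2 isIrrCharacter_one
  have hθm : θ ∈ s := mem_irrFinset.2 hθirr
  have hχm : χ ∈ s := mem_irrFinset.2 hχirr
  have hdt : d t = 1 := by
    have h : (d t : ℂ) = 1 := (hd t htm).symm
    exact_mod_cast h
  have hdθ : d θ = Q := by
    have h := (hd θ hθm).symm.trans hθ
    exact_mod_cast h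
  have hdχ : d χ = Q + 1 := by
    have h := (hd χ hχm).symm.trans hχ
    exact_mod_cast h
  have hθt : θ ≠ t := fun h => by rw [h] at hdθ; omega
  have hχt : χ ≠ t := fun h => by rw [h] at hdχ; omega
  have hχθ : χ ≠ θ := fun h => by rw [h] at hdχ; omega
  have hnt : n t = 1 := by
    have h := (hn t htm).symm.trans hV1
    exact_mod_cast h
  have hrel : n χ = n θ + 1 := by
    have h : ((1 + n θ - n χ : ℤ) : ℂ) = 0 := by
      rw [classInner_sub_right, classInner_add_right, hV1, hn θ hθm, hn χ hχm] at hort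
      push_cast
      linear_combination hort
    have h' : 1 + n θ - n χ = 0 := by exact_mod_cast h
    omega
  have hcf := IsGeneralized.isClassFunction hV
  have hsq : ∑ ψ ∈ s, n ψ * n ψ = 3 := by
    have h2 := classInner_eq_sum_irr hcf V
    rw [hV3] at h2
    have h3 : (3 : ℂ) = ∑ ψ ∈ s, ((n ψ * n ψ : ℤ) : ℂ) := by
      rw [h2]
      exact Finset.sum_congr rfl fun ψ hψ => by rw [hn ψ hψ]; simp
    exact_mod_cast h3.symm
  have hdeg : ∑ ψ ∈ s, n ψ * (d ψ : ℤ) = 0 := by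
    have h2 := congrFun (eq_sum_irr hcf) 1
    rw [hV0, Finset.sum_apply] at h2
    have h3 : (0 : ℂ) = ∑ ψ ∈ s, ((n ψ * (d ψ : ℤ) : ℤ) : ℂ) := by
      rw [h2]
      exact Finset.sum_congr rfl fun ψ hψ => by
        rw [Pi.smul_apply, smul_eq_mul, hn ψ hψ, hd ψ hψ]; simp
    exact_mod_cast h3.symm
  have hθ' : θ ∈ s.erase t := Finset.mem_erase.2 ⟨hθt, hθm⟩
  have hχ' : χ ∈ (s.erase t).erase θ :=
    Finset.mem_erase.2 ⟨hχθ, Finset.mem_erase.2 ⟨hχt, hχm⟩⟩
  rw [← Finset.add_sum_erase _ _ htm, ← Finset.add_sum_erase _ _ hθ',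
    ← Finset.add_sum_erase _ _ hχ'] at hsq hdeg
  have hrest : ∑ ψ ∈ ((s.erase t).erase θ).erase χ, n ψ * n ψ = 1 := by
    have h0 := Finset.sum_nonneg (s := ((s.erase t).erase θ).erase χ)
      (f := fun ψ => n ψ * n ψ) fun ψ _ => mul_self_nonneg _
    rw [hnt, hrel] at hsq
    have h1 : n θ ≤ 0 := by nlinarith
    have h2 : -1 ≤ n θ := by nlinarith
    rcases (by omega : n θ = 0 ∨ n θ = -1) with h | h <;> rw [h] at hsq <;> omega
  obtain ⟨ψ₀, hψ₀, hpm, hzero⟩ := exists_of_sum_sq_eq_one hrest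
  have hψ₀m : ψ₀ ∈ s := by
    simp only [Finset.mem_erase] at hψ₀
    exact hψ₀.2.2.2
  rw [Finset.sum_eq_single ψ₀ (fun ψ hψ hne => by rw [hzero ψ hψ hne, zero_mul])
    (fun h => absurd hψ₀ h), hnt, hdt, hdθ, hdχ, hrel] at hdeg
  have hpos := hdpos ψ₀ hψ₀m
  have hθval : n θ = 0 ∨ n θ = -1 := by
    have h1 : n θ ≤ 0 := by rw [hnt, hrest, hrel] at hsq; nlinarith
    have h2 : -1 ≤ n θ := by rw [hnt, hrest, hrel] at hsq; nlinarith
    omega
  refine ⟨ψ₀, d ψ₀, mem_irrFinset.1 hψ₀m, hd ψ₀ hψ₀m, ?_⟩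
  push_cast at hdeg
  rcases hθval with h | h <;> rcases hpm with h' | h' <;> rw [h, h'] at hdeg <;> omega

/-- The exceptional degree: `Q - 1` or `Q + 2` divides the group order. -/
theorem excep_degree {G : Type u} [Group G] [Fintype G] (Y N : Subgroup G) (hYN : Y ≤ N)
    (hidx : Y.relIndex N = 2) (y : G)
    (hnorm : ∀ g : G, (∃ i : ℕ, g * y * g⁻¹ = y ^ i) → g ∈ N)
    (ν : Y →* ℂˣ) (hne : ∃ a : Y, ν a ≠ (ν a)⁻¹)
    (hsupp : ∀ a : Y, ν a ≠ 1 → y ∈ Subgroup.zpowers (a : G))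
    (hinv : ∀ w ∈ N, w ∉ Y → ∀ a b : Y, w * (a : G) * w⁻¹ = (b : G) → ν b = (ν a)⁻¹)
    (θ χ : Cfsg.IrrCharacter G) (Q : ℕ) (hQ : 2 ≤ Q)
    (hθ : (θ : G → ℂ) 1 = (Q : ℂ)) (hχ : (χ : G → ℂ) 1 = (Q : ℂ) + 1)
    (hell : ∀ g : G, y ∈ Subgroup.zpowers g → 1 + (θ : G → ℂ) g - (χ : G → ℂ) g = 0) :
    Q - 1 ∣ Nat.card G ∨ Q + 2 ∣ Nat.card G := by
  classical
  have : Fintype Y := Fintype.ofFinite Y
  obtain ⟨a₀, ha₀⟩ := hne
  set f : Y → ℂ := fun a => 1 - (ν a : ℂ) with hf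
  have hsum : ∀ η : Y →* ℂˣ, η a₀ ≠ 1 → ∑ a : Y, (η a : ℂ) = 0 := fun η hη => by
    refine sum_hom_units_eq_zero ((Units.coeHom ℂ).comp η) fun h => hη (Units.ext ?_)
    simpa using DFunLike.congr_fun h a₀
  have hν₀ : ν a₀ ≠ 1 := fun h => ha₀ (by rw [h, inv_one])
  have s1 : ∑ a : Y, (ν a : ℂ) = 0 := hsum ν hν₀
  have s2 : ∑ a : Y, ((ν a : ℂ))⁻¹ = 0 := by
    simpa using hsum ν⁻¹ (fun h => hν₀ (inv_eq_one.1 h))
  have s3 : ∑ a : Y, (ν a : ℂ) ^ 2 = 0 := by
    have h := hsum (ν ^ 2) (fun h => ha₀ (eq_inv_of_mul_eq_one_left (by simpa [pow_two] using h)))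
    refine (Finset.sum_congr rfl fun a _ => ?_).trans h
    rw [pow_two, pow_two, MonoidHom.mul_apply, Units.val_mul]
  have hfg : Cfsg.IsGeneralizedCharacter Y f := by
    have h := IsGeneralized.sub (G := Y) isGeneralized_one
      (IsCharacter.isGeneralized (isCharacter_ofHom ν))
    exact h
  set V := Cfsg.indFun Y f
  have hVgen : Cfsg.IsGeneralizedCharacter G V := IsGeneralized.indFun hfg
  have hVcf := IsGeneralized.isClassFunction hVgen
  have hY : (Nat.card Y : ℂ) ≠ 0 := by exact_mod_cast Nat.card_pos.ne'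
  have hconj : ∀ a : Y, conj (ν a : ℂ) = (ν a : ℂ)⁻¹ := fun a => by
    have h := IsCharacter.apply_inv (isCharacter_ofHom ν) a
    simpa using h.symm
  have hV3 : Cfsg.classInner V V = 3 := by
    rw [classInner_indFun f hVcf, classInner_def]
    have hterm : ∀ a : Y, f a * conj (V a) =
        3 - 3 * (ν a : ℂ) - (ν a : ℂ)⁻¹ + (ν a : ℂ) ^ 2 := by
      intro a
      by_cases ha : ν a = 1
      · simp [hf, ha]
      have hne0 : (ν a : ℂ) ≠ 0 := Units.ne_zero _
      rw [show V a = 2 - (ν a : ℂ) - (ν a : ℂ)⁻¹ from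
        indFun_one_sub_apply hYN hidx hnorm hsupp hinv ha, map_sub, map_sub, map_ofNat, map_inv₀,
        hconj, inv_inv, hf]
      field_simp
      ring
    rw [Finset.sum_congr rfl fun a _ => hterm a, Finset.sum_add_distrib, Finset.sum_sub_distrib,
      Finset.sum_sub_distrib, ← Finset.mul_sum, s1, s2, s3, Finset.sum_const, Finset.card_univ,
      nsmul_eq_mul, ← Nat.card_eq_fintype_card]
    field_simp
    ring
  have hV0 : V 1 = 0 := by
    show Cfsg.indFun Y f 1 = 0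
    rw [indFun_one]
    simp [hf]
  have hV1 : Cfsg.classInner V (fun _ => (1 : ℂ)) = 1 := by
    rw [classInner_indFun f (IsCharacter.isClassFunction isCharacter_one), classInner_def]
    simp only [hf, map_one, mul_one]
    rw [Finset.sum_sub_distrib, s1, Finset.sum_const, Finset.card_univ, nsmul_eq_mul,
      ← Nat.card_eq_fintype_card, sub_zero, mul_one, inv_mul_cancel₀ hY]
  have hcf' : Cfsg.IsClassFunction G
      ((fun _ : G => (1 : ℂ)) + (θ : G → ℂ) - (χ : G → ℂ)) :=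
    IsGeneralized.isClassFunction (IsGeneralized.sub
      (IsGeneralized.add isGeneralized_one (IsIrrCharacter.isGeneralized θ.2))
      (IsIrrCharacter.isGeneralized χ.2))
  have hort : Cfsg.classInner V ((fun _ : G => (1 : ℂ)) + (θ : G → ℂ) - (χ : G → ℂ)) = 0 := by
    rw [classInner_indFun f hcf', classInner_def]
    refine mul_eq_zero_of_right _ (Finset.sum_eq_zero fun a _ => ?_)
    by_cases ha : ν a = 1
    · simp [hf, ha]
    · rw [Pi.sub_apply, Pi.add_apply, hell a (hsupp a ha), map_zero, mul_zero]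
  obtain ⟨ψ, d, hψ, hψd, hcases⟩ :=
    exists_degree_of_norm_three hVgen hV3 hV0 hV1 θ.2 χ.2 hQ hθ hχ hort
  have hdvd := IsIrrCharacter.degree_dvd_card hψ hψd
  rcases hcases with rfl | rfl
  · exact Or.inl hdvd
  · exact Or.inr hdvd

end CfsgLib.ABG.Recog
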