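import Cfsg.Agent.ABG.Recog.LinTorus

/-!
# Alperin-Brauer-Gorenstein, recognition half: field parts and p-elements of the torus

The field part is a homomorphism on `C`; a group of field automorphisms of odd order is short
compared with its fixed field; in the linear type a p-element of `T` with trivial field part is one.
-/

set_option autoImplicit false
set_option linter.unusedSectionVars false

namespace CfsgLib.ABG.Recog

open Matrix Subgroup CfsgLib.SL2C CfsgLib.AutPSL

universe u

variable {F : Type} [Field F] [Fintype F]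

/-- The fixed field of a nontrivial group of odd order of automorphisms is small. -/
theorem fix_bound (H : Subgroup (RingAut F)) (hodd : Odd (Nat.card H)) (hne : H ≠ ⊥) :
    ∃ q0 : ℕ, 2 ≤ q0 ∧ Fintype.card F = q0 ^ Nat.card H ∧ Nat.card H < q0 ^ (Nat.card H - 1) ∧
      q0 = Nat.card (FixedPoints.subfield H F) := by
  classical
  haveI : Finite (RingAut F) := Finite.of_injective (fun τ : F ≃+* F => (τ : F → F)) DFunLike.coe_injective
  haveI := Fintype.ofFinite H
  have hq : Fintype.card F = Nat.card (FixedPoints.subfield H F) ^ Nat.card H := by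
    rw [← Nat.card_eq_fintype_card, Module.natCard_eq_pow_finrank (K := FixedPoints.subfield H F),
      FixedPoints.finrank_eq_card H F, ← Nat.card_eq_fintype_card (α := H)]
  have h2 : 2 ≤ Nat.card (FixedPoints.subfield H F) := Finite.one_lt_card
  have h3 : 3 ≤ Nat.card H := by
    have h1 : Nat.card H ≠ 1 := fun e => hne (card_eq_one.1 e)
    obtain ⟨m, hm⟩ := hodd
    omega
  refine ⟨_, h2, hq, lt_of_lt_of_le ?_ (Nat.pow_le_pow_left h2 _), rfl⟩
  obtain ⟨m, hm⟩ : ∃ m, Nat.card H = m + 3 := ⟨Nat.card H - 3, by omega⟩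
  rw [hm, show m + 3 - 1 = m + 2 by omega]
  clear hm
  induction m with
  | zero => norm_num
  | succ m ih => rw [show m + 1 + 2 = (m + 2) + 1 by ring, pow_succ]; omega

variable {G : Type u} [Group G]

namespace Loc

variable (D : Loc G F)

/-- The action of `C` on the component. -/
noncomputable def actHom : D.C →* MulAut (SL F) :=
  MonoidHom.mk' (fun c => semiSL (D.exists_act c.2).choose (D.exists_act c.2).choose_spec.choose)
    fun c c' => MulEquiv.ext fun x => D.e_inj (by
      rw [← (D.exists_act (c * c').2).choose_spec.choose_spec, MulAut.mul_apply,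
        ← (D.exists_act c.2).choose_spec.choose_spec, ← (D.exists_act c'.2).choose_spec.choose_spec]
      simp only [Subgroup.coe_mul]
      group)

theorem actHom_spec (c : D.C) (x : SL F) : (c : G) * D.e x * (c : G)⁻¹ = D.e (D.actHom c x) :=
  (D.exists_act c.2).choose_spec.choose_spec x

/-- The field part of an element of `C`. -/
noncomputable def fieldC : D.C →* RingAut F := OrderFormula.Local.fieldHom.comp D.actHom

theorem fieldC_eq {c : G} (hc : c ∈ D.C) {g : GL (Fin 2) F} {σ : F ≃+* F}
    (h : ∀ x, c * D.e x * c⁻¹ = D.e (semiSL g σ x)) : D.fieldC ⟨c, hc⟩ = σ := by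
  have : D.actHom ⟨c, hc⟩ = semiSL g σ :=
    MulEquiv.ext fun x => D.e_inj ((D.actHom_spec ⟨c, hc⟩ x).symm.trans (h x))
  rw [fieldC, MonoidHom.comp_apply, this, OrderFormula.Local.fieldHom_semi]

theorem fieldC_e (x : SL F) : D.fieldC ⟨D.e x, D.e_mem x⟩ = 1 :=
  D.fieldC_eq (g := Matrix.SpecialLinearGroup.toGL x) (σ := RingEquiv.refl F) _ fun y => by
    rw [← map_inv, ← map_mul, ← map_mul]
    refine congrArg D.e (mt_injective ?_)
    show _ = (semiFun (Matrix.SpecialLinearGroup.toGL x) (RingEquiv.refl F) y : Matrix (Fin 2) (Fin 2) F)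
    rw [coe_semiFun, map_refl_ringEquiv, ← map_inv]
    rfl

theorem fieldC_odd (c : D.C) : Odd (orderOf (D.fieldC c)) := by
  obtain ⟨g, σ, h⟩ := D.exists_act c.2
  obtain ⟨k, hk, hσ⟩ := D.field_odd c c.2 g σ h
  have e : D.fieldC c = σ := D.fieldC_eq c.2 h
  rw [e]
  exact hk.of_dvd_nat (orderOf_dvd_of_pow_eq_one hσ)

variable [Finite G]

theorem map_fieldC_odd (B : Subgroup D.C) : Odd (Nat.card (B.map D.fieldC)) := by
  classical
  haveI : Finite (RingAut F) := Finite.of_injective (fun τ : F ≃+* F => (τ : F → F)) DFunLike.coe_injective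
  rw [← Nat.not_even_iff_odd, even_iff_two_dvd]
  intro h2
  obtain ⟨σ, hσ⟩ := exists_prime_orderOf_dvd_card' 2 (hp := ⟨Nat.prime_two⟩) h2
  obtain ⟨b, -, hb⟩ := σ.2
  have := D.fieldC_odd b
  rw [hb, orderOf_coe, hσ] at this
  exact absurd this (by decide)

variable [IsSimpleGroup G] {D} (hM : D.M = dM) {p : ℕ} [hp : Fact p.Prime] [CharP F p]
include hM

theorem not_dvd_sub_one : ¬ p ∣ Fintype.card F - 1 := fun h => by
  have h1 : p ∣ Fintype.card F := card_dvd_char p
  have h2 : 0 < Fintype.card F := Fintype.card_pos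
  have h3 := Nat.dvd_sub h1 h
  rw [show Fintype.card F - (Fintype.card F - 1) = 1 by omega] at h3
  exact hp.out.not_dvd_one h3

theorem not_dvd_card_cenL : ¬ p ∣ Nat.card (Subgroup.centralizer (D.L : Set G)) := fun h => by
  obtain ⟨ρ, h0, h1⟩ := D.exists_rho
  exact not_dvd_sub_one hM (h.trans (cen_L hM h0 h1).2)

/-- A p-element of `T` without field part is trivial. -/
theorem eq_one_of_fieldC {t : G} (ht : t ∈ D.T) (hf : D.fieldC ⟨t, D.T_le ht⟩ = 1) {k : ℕ}
    (hk : t ^ p ^ k = 1) : t = 1 := by
  obtain ⟨a, σ, ha⟩ := exists_acts hM ht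
  rw [D.fieldC_eq _ ha] at hf
  subst hf
  replace ha : D.Acts t a (RingEquiv.refl F) := ha
  have hpow : ∀ n : ℕ, D.Acts (t ^ n) (a ^ n) (RingEquiv.refl F) := by
    intro n
    induction n with
    | zero => simpa using Acts.one (D := D)
    | succ n ih =>
      have h := ih.mul ha
      rw [show Units.map ((RingEquiv.refl F : F ≃+* F) : F →* F) a = a from Units.ext rfl,
        show (RingEquiv.refl F).trans (RingEquiv.refl F) = RingEquiv.refl F from RingEquiv.ext fun _ => rfl] at h
      rw [pow_succ, pow_succ]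
      exact h
  have hak := ((hpow (p ^ k)).unique (hk ▸ Acts.one (D := D))).1
  have ha1 : a = 1 := by
    rw [← orderOf_eq_one_iff]
    obtain ⟨i, -, hi⟩ := (Nat.dvd_prime_pow hp.out).1 (orderOf_dvd_of_pow_eq_one hak)
    rcases Nat.eq_zero_or_pos i with rfl | hi0
    · simpa using hi
    · exfalso
      refine not_dvd_sub_one hM (p := p) ?_
      have hd := orderOf_dvd_natCard a
      rw [Nat.card_units, Nat.card_eq_fintype_card, hi] at hd
      exact (dvd_pow_self p hi0.ne').trans hd
  have hcen : ∀ x, t * D.e x = D.e x * t := ha.cen_iff.2 ⟨ha1, rfl⟩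
  have hmem : t ∈ Subgroup.centralizer (D.L : Set G) :=
    mem_centralizer_iff.2 (by rintro _ ⟨x, rfl⟩; exact (hcen x).symm)
  obtain ⟨i, -, hi⟩ := (Nat.dvd_prime_pow hp.out).1 (orderOf_dvd_of_pow_eq_one hk)
  rcases Nat.eq_zero_or_pos i with rfl | hi0
  · rw [pow_zero, orderOf_eq_one_iff] at hi; exact hi
  · exfalso
    refine not_dvd_card_cenL hM (p := p) ((dvd_pow_self p hi0.ne').trans ?_)
    rw [← hi, ← orderOf_mk t hmem]
    exact orderOf_dvd_natCard _

end Loc

end CfsgLib.ABG.Recog
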