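import Mathlib

/-!
# Alperin-Brauer-Gorenstein, recognition half: a hexagon of root groups

`Hex G p q` is the configuration reached in the linear type: six root groups `E i j`, their torus
`T`, and the centralisers `C k` of the three involutions `z k` of a four-group.
-/

set_option autoImplicit false

namespace CfsgLib.ABG.Recog

universe u

/-- Six root groups as in `PSL₃(q)`. -/
structure Hex (G : Type u) [Group G] (p q : ℕ) where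
  T : Subgroup G
  E : Fin 3 → Fin 3 → Subgroup G
  C : Fin 3 → Subgroup G
  z : Fin 3 → G
  w : Fin 3 → G
  prime : p.Prime
  odd : p ≠ 2
  one_lt : 1 < q
  card_E : ∀ i j, i ≠ j → Nat.card (E i j) = q
  exp_E : ∀ i j, i ≠ j → ∀ x ∈ E i j, x ^ p = 1
  comm_E : ∀ i j, i ≠ j → ∀ x ∈ E i j, ∀ y ∈ E i j, x * y = y * x
  E_le : ∀ i j k, i ≠ j → i ≠ k → j ≠ k → E i j ≤ C k
  T_norm : ∀ i j, i ≠ j → ∀ t ∈ T, ∀ x ∈ E i j, t * x * t⁻¹ ∈ E i j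
  /-- same row -/
  comm_row : ∀ i j k, i ≠ j → i ≠ k → j ≠ k → ∀ x ∈ E i j, ∀ y ∈ E i k, x * y = y * x
  /-- same column -/
  comm_col : ∀ i j k, i ≠ j → i ≠ k → j ≠ k → ∀ x ∈ E i k, ∀ y ∈ E j k, x * y = y * x
  /-- the commutator relation -/
  comm_mem : ∀ i j k, i ≠ j → i ≠ k → j ≠ k → ∀ x ∈ E i j, ∀ y ∈ E j k,
    x * y * x⁻¹ * y⁻¹ ∈ E i k
  /-- no element of a root group centralises the following root group -/
  free : ∀ i j k, i ≠ j → i ≠ k → j ≠ k → ∀ y ∈ E j k, y ≠ 1 → ∃ x ∈ E i j, x * y ≠ y * x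
  /-- no element of a root group centralises the preceding root group -/
  free' : ∀ i j k, i ≠ j → i ≠ k → j ≠ k → ∀ x ∈ E i j, x ≠ 1 → ∃ y ∈ E j k, x * y ≠ y * x
  z_mem : ∀ k, z k ∈ T
  z_sq : ∀ k, z k * z k = 1
  z_fix : ∀ i j k, i ≠ j → i ≠ k → j ≠ k → ∀ x ∈ E i j, z k * x * (z k)⁻¹ = x
  z_inv : ∀ i j, i ≠ j → ∀ x ∈ E i j, z i * x * (z i)⁻¹ = x⁻¹ ∧ z j * x * (z j)⁻¹ = x⁻¹
  C_le : ∀ k, C k ≤ Subgroup.centralizer ({z k} : Set G)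
  cen : ∀ k l, k ≠ l → C k ⊓ Subgroup.centralizer ({z l} : Set G) = T
  w_mem : ∀ k, w k ∈ C k
  w_conj : ∀ i j k, i ≠ j → i ≠ k → j ≠ k → ∀ a b, a ≠ b →
    (E a b).map (MulAut.conj (w k)).toMonoidHom = E (Equiv.swap i j a) (Equiv.swap i j b)
  w_z : ∀ i j k, i ≠ j → i ≠ k → j ≠ k → ∀ a, w k * z a * (w k)⁻¹ = z (Equiv.swap i j a)
  bruhat : ∀ i j k, i ≠ j → i ≠ k → j ≠ k → ∀ c ∈ C k,
    (∃ x ∈ E i j, ∃ t ∈ T, c = x * t) ∨ ∃ x ∈ E i j, ∃ y ∈ E i j, ∃ t ∈ T, c = x * w k * y * t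
  card_C : ∀ k, Nat.card (C k) = (q + 1) * q * Nat.card T
  card_G : Nat.card G = q ^ 2 * Nat.card (C 0) * (q ^ 2 + q + 1)

end CfsgLib.ABG.Recog
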