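import Cfsg.Agent.ABG.Recog.Hex

/-!
# Hexagons of root groups: elementary consequences
-/

set_option autoImplicit false

namespace CfsgLib.ABG.Recog

namespace Hex

universe u

variable {G : Type u} [Group G] {p q : ℕ} (H : Hex G p q)

/-- The transposed hexagon. -/
def transp : Hex G p q where
  T := H.T
  E i j := H.E j i
  C := H.C
  z := H.z
  w := H.w
  prime := H.prime
  odd := H.odd
  one_lt := H.one_lt
  card_E i j h := H.card_E j i h.symm
  exp_E i j h := H.exp_E j i h.symm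
  comm_E i j h := H.comm_E j i h.symm
  E_le i j k hij hik hjk := H.E_le j i k hij.symm hjk hik
  T_norm i j h := H.T_norm j i h.symm
  comm_row i j k hij hik hjk := H.comm_col j k i hjk hij.symm hik.symm
  comm_col i j k hij hik hjk := H.comm_row k i j hik.symm hjk.symm hij
  comm_mem i j k hij hik hjk x hx y hy := by
    have h := inv_mem (H.comm_mem k j i hjk.symm hik.symm hij.symm y hy x hx)
    simpa [mul_assoc] using h
  free i j k hij hik hjk y hy hy1 := by
    obtain ⟨x, hx, hne⟩ := H.free' k j i hjk.symm hik.symm hij.symm y hy hy1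
    exact ⟨x, hx, fun h => hne h.symm⟩
  free' i j k hij hik hjk x hx hx1 := by
    obtain ⟨y, hy, hne⟩ := H.free k j i hjk.symm hik.symm hij.symm x hx hx1
    exact ⟨y, hy, fun h => hne h.symm⟩
  z_mem := H.z_mem
  z_sq := H.z_sq
  z_fix i j k hij hik hjk := H.z_fix j i k hij.symm hjk hik
  z_inv i j h x hx := (H.z_inv j i h.symm x hx).symm
  C_le := H.C_le
  cen := H.cen
  w_mem := H.w_mem
  w_conj i j k hij hik hjk a b hab := H.w_conj i j k hij hik hjk b a hab.symm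
  w_z := H.w_z
  bruhat i j k hij hik hjk := H.bruhat j i k hij.symm hjk hik
  card_C := H.card_C
  card_G := H.card_G

theorem eq_one_of_sq {i j : Fin 3} (h : i ≠ j) {x : G} (hx : x ∈ H.E i j) (h2 : x * x = 1) :
    x = 1 := by
  haveI := Fact.mk H.prime
  by_contra hne
  have h1 : orderOf x = p := orderOf_eq_prime (H.exp_E i j h x hx) hne
  have h3 : p ∣ 2 := h1 ▸ orderOf_dvd_of_pow_eq_one (by rw [pow_two, h2])
  exact H.odd ((Nat.prime_dvd_prime_iff_eq H.prime Nat.prime_two).1 h3)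

theorem exists_ne_one {i j : Fin 3} (h : i ≠ j) : ∃ x ∈ H.E i j, x ≠ 1 := by
  by_contra hall
  push_neg at hall
  have h1 := H.card_E i j h
  rw [(Subgroup.eq_bot_iff_forall (H.E i j)).2 hall, Subgroup.card_bot] at h1
  exact H.one_lt.ne h1

theorem T_le_C (k : Fin 3) : H.T ≤ H.C k := by
  have h : k ≠ k + 1 := by fin_cases k <;> decide
  rw [← H.cen k (k + 1) h]
  exact inf_le_left

theorem T_comm (k : Fin 3) {t : G} (ht : t ∈ H.T) : t * H.z k = H.z k * t := by
  have h : k + 1 ≠ k := by fin_cases k <;> decide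
  rw [← H.cen (k + 1) k h] at ht
  exact (Subgroup.mem_centralizer_singleton_iff.1 ht.2)

theorem C_comm {k : Fin 3} {c : G} (hc : c ∈ H.C k) : c * H.z k = H.z k * c :=
  Subgroup.mem_centralizer_singleton_iff.1 (H.C_le k hc)

theorem z_comm (i j : Fin 3) : H.z i * H.z j = H.z j * H.z i := H.T_comm j (H.z_mem i)

theorem z_inv_l {i j : Fin 3} (h : i ≠ j) {x : G} (hx : x ∈ H.E i j) :
    H.z i * x * (H.z i)⁻¹ = x⁻¹ := (H.z_inv i j h x hx).1

theorem z_inv_r {i j : Fin 3} (h : i ≠ j) {x : G} (hx : x ∈ H.E i j) :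
    H.z j * x * (H.z j)⁻¹ = x⁻¹ := (H.z_inv i j h x hx).2

theorem third : ∀ {i j : Fin 3}, i ≠ j → ∃ k : Fin 3, i ≠ k ∧ j ≠ k := by decide

theorem z_ne {i j : Fin 3} (h : i ≠ j) : H.z i ≠ H.z j := by
  intro he
  obtain ⟨k, hik, hjk⟩ := third h
  obtain ⟨x, hx, hx1⟩ := H.exists_ne_one hjk
  have h1 := H.z_inv_l hjk hx
  rw [← he, H.z_fix j k i hjk h.symm hik.symm x hx] at h1
  exact hx1 (H.eq_one_of_sq hjk hx (by nth_rw 2 [h1]; exact mul_inv_cancel x))

theorem inter_row {i j k : Fin 3} (hij : i ≠ j) (hik : i ≠ k) (hjk : j ≠ k) {x : G}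
    (hx : x ∈ H.E i j) (hx' : x ∈ H.E i k) : x = 1 := by
  have h1 := H.z_inv_r hik hx'
  rw [H.z_fix i j k hij hik hjk x hx] at h1
  exact H.eq_one_of_sq hij hx (by nth_rw 2 [h1]; exact mul_inv_cancel x)

theorem inter_col {i j k : Fin 3} (hij : i ≠ j) (hik : i ≠ k) (hjk : j ≠ k) {x : G}
    (hx : x ∈ H.E i k) (hx' : x ∈ H.E j k) : x = 1 :=
  H.transp.inter_row (i := k) (j := i) (k := j) hik.symm hjk.symm hij hx hx'

theorem inter_opp {i j : Fin 3} (hij : i ≠ j) {x : G} (hx : x ∈ H.E i j) (hx' : x ∈ H.E j i) :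
    x = 1 := by
  obtain ⟨k, hik, hjk⟩ := third hij
  by_contra h1
  obtain ⟨y, hy, hne⟩ := H.free k i j hik.symm hjk.symm hij x hx h1
  exact hne (H.comm_col k j i hjk.symm hik.symm hij.symm y hy x hx')

theorem inter_T {i j : Fin 3} (hij : i ≠ j) {x : G} (hx : x ∈ H.E i j) (ht : x ∈ H.T) :
    x = 1 := by
  have h1 := H.z_inv_l hij hx
  rw [mul_inv_eq_iff_eq_mul, ← H.T_comm i ht] at h1
  exact H.eq_one_of_sq hij hx (by nth_rw 2 [mul_right_cancel h1]; exact mul_inv_cancel x)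

/-- `C k` is generated by its two root groups and the torus. -/
theorem C_gen {i j k : Fin 3} (hij : i ≠ j) (hik : i ≠ k) (hjk : j ≠ k) {K : Subgroup G}
    (hT : H.T ≤ K) (hE : H.E i j ≤ K) (hE' : H.E j i ≤ K) : H.C k ≤ K := by
  obtain ⟨x, hx, hx1⟩ := H.exists_ne_one hij.symm
  have hw : H.w k ∈ K := by
    rcases H.bruhat i j k hij hik hjk x (H.E_le j i k hij.symm hjk hik hx) with
      ⟨a, ha, t, ht, rfl⟩ | ⟨a, ha, b, hb, t, ht, he⟩
    · exfalso
      have h1 : H.z i * (a * t) * (H.z i)⁻¹ = a⁻¹ * t := by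
        rw [← H.z_inv_l hij ha]
        simp only [mul_assoc]
        rw [show t * (H.z i)⁻¹ = (H.z i)⁻¹ * t from
          (Commute.inv_right (show Commute t (H.z i) from H.T_comm i ht)).eq]
      rw [H.z_inv_r hij.symm hx] at h1
      have h2 : (a * t) * (a * t) = a * a := by
        have h3 : a * t = ((a * t)⁻¹)⁻¹ := (inv_inv _).symm
        calc (a * t) * (a * t) = (a * t) * ((a * t)⁻¹)⁻¹ := by rw [inv_inv]
          _ = (a * t) * (a⁻¹ * t)⁻¹ := by rw [h1]
          _ = a * a := by group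
      exact hx1 (H.eq_one_of_sq hij.symm hx (H.inter_opp hij (h2 ▸ mul_mem ha ha) (mul_mem hx hx)))
    · have hw' : H.w k = a⁻¹ * x * t⁻¹ * b⁻¹ := by rw [he]; group
      rw [hw']
      exact mul_mem (mul_mem (mul_mem (inv_mem (hE ha)) (hE' hx)) (inv_mem (hT ht))) (inv_mem (hE hb))
  intro c hc
  rcases H.bruhat i j k hij hik hjk c hc with ⟨a, ha, t, ht, rfl⟩ | ⟨a, ha, b, hb, t, ht, rfl⟩
  · exact mul_mem (hE ha) (hT ht)
  · exact mul_mem (mul_mem (mul_mem (hE ha) hw) (hE hb)) (hT ht)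

theorem w_E {i j k : Fin 3} (hij : i ≠ j) (hik : i ≠ k) (hjk : j ≠ k) {a b : Fin 3} (hab : a ≠ b)
    {x : G} (hx : x ∈ H.E a b) :
    H.w k * x * (H.w k)⁻¹ ∈ H.E (Equiv.swap i j a) (Equiv.swap i j b) := by
  rw [← H.w_conj i j k hij hik hjk a b hab]
  exact ⟨x, hx, rfl⟩

theorem w_inv_E {i j k : Fin 3} (hij : i ≠ j) (hik : i ≠ k) (hjk : j ≠ k) {a b : Fin 3} (hab : a ≠ b)
    {x : G} (hx : x ∈ H.E a b) :
    (H.w k)⁻¹ * x * H.w k ∈ H.E (Equiv.swap i j a) (Equiv.swap i j b) := by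
  have h1 := H.w_conj i j k hij hik hjk (Equiv.swap i j a) (Equiv.swap i j b)
    ((Equiv.swap i j).injective.ne hab)
  rw [Equiv.swap_apply_self, Equiv.swap_apply_self] at h1
  rw [← h1] at hx
  obtain ⟨y, hy, rfl⟩ := hx
  simpa [MulAut.conj_apply, mul_assoc] using hy

theorem conj_mem_T {i j k : Fin 3} (hij : i ≠ j) (hik : i ≠ k) (hjk : j ≠ k) {t : G}
    (ht : t ∈ H.T) : H.w k * t * (H.w k)⁻¹ ∈ H.T := by
  have h1 : H.w k * t * (H.w k)⁻¹ ∈ H.C k :=
    mul_mem (mul_mem (H.w_mem k) (H.T_le_C k ht)) (inv_mem (H.w_mem k))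
  have h2 : H.w k * t * (H.w k)⁻¹ ∈ Subgroup.centralizer ({H.z i} : Set G) := by
    rw [Subgroup.mem_centralizer_singleton_iff]
    have hz := H.w_z i j k hij hik hjk j
    rw [Equiv.swap_apply_right] at hz
    rw [← hz]
    simp only [mul_assoc, inv_mul_cancel_left]
    rw [← mul_assoc t, H.T_comm j ht, mul_assoc]
  rw [← H.cen k i hik.symm]
  exact ⟨h1, h2⟩

theorem w_sq {i j k : Fin 3} (hij : i ≠ j) (hik : i ≠ k) (hjk : j ≠ k) :
    H.w k * H.w k ∈ H.T := by
  have h2 : H.w k * H.w k ∈ Subgroup.centralizer ({H.z i} : Set G) := by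
    rw [Subgroup.mem_centralizer_singleton_iff]
    have hzi := H.w_z i j k hij hik hjk i
    have hzj := H.w_z i j k hij hik hjk j
    rw [Equiv.swap_apply_left, mul_inv_eq_iff_eq_mul] at hzi
    rw [Equiv.swap_apply_right, mul_inv_eq_iff_eq_mul] at hzj
    rw [mul_assoc, hzi, ← mul_assoc, hzj, mul_assoc]
  rw [← H.cen k i hik.symm]
  exact ⟨mul_mem (H.w_mem k) (H.w_mem k), h2⟩

theorem w_T (k : Fin 3) {t : G} (ht : t ∈ H.T) :
    H.w k * t * (H.w k)⁻¹ ∈ H.T ∧ (H.w k)⁻¹ * t * H.w k ∈ H.T ∧ H.w k * H.w k ∈ H.T := by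
  obtain ⟨i, j, hij, hik, hjk⟩ : ∃ i j : Fin 3, i ≠ j ∧ i ≠ k ∧ j ≠ k := by revert k; decide
  have hsq := H.w_sq hij hik hjk
  refine ⟨H.conj_mem_T hij hik hjk ht, ?_, hsq⟩
  have h1 := mul_mem (mul_mem (inv_mem hsq) (H.conj_mem_T hij hik hjk ht)) hsq
  simpa [mul_assoc] using h1

/-- `w m` conjugates `C k` into the centraliser with the permuted index. -/
theorem w_C {i j m : Fin 3} (hij : i ≠ j) (him : i ≠ m) (hjm : j ≠ m) (k : Fin 3) {c : G}
    (hc : c ∈ H.C k) : (H.w m)⁻¹ * c * H.w m ∈ H.C (Equiv.swap i j k) := by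
  obtain ⟨a, b, hab, hak, hbk⟩ : ∃ a b : Fin 3, a ≠ b ∧ a ≠ k ∧ b ≠ k := by
    clear hc; revert k; decide
  have hσ := (Equiv.swap i j).injective
  have hle : H.C k ≤ (H.C (Equiv.swap i j k)).comap (MulAut.conj (H.w m)⁻¹).toMonoidHom := by
    refine H.C_gen hab hak hbk (fun t ht => ?_) (fun x hx => ?_) (fun x hx => ?_) <;>
      rw [Subgroup.mem_comap] <;>
      simp only [MulEquiv.coe_toMonoidHom, MulAut.conj_apply, inv_inv]
    · exact H.T_le_C _ (H.w_T m ht).2.1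
    · exact H.E_le _ _ _ (hσ.ne hab) (hσ.ne hak) (hσ.ne hbk) (H.w_inv_E hij him hjm hab hx)
    · exact H.E_le _ _ _ (hσ.ne hab.symm) (hσ.ne hbk) (hσ.ne hak)
        (H.w_inv_E hij him hjm hab.symm hx)
  have := hle hc
  simpa [Subgroup.mem_comap, MulAut.conj_apply] using this

/-- The abelian group `E i j * E i k`. -/
def row (i j k : Fin 3) (hij : i ≠ j) (hik : i ≠ k) (hjk : j ≠ k) : Subgroup G where
  carrier := {g | ∃ x ∈ H.E i j, ∃ y ∈ H.E i k, g = x * y}
  one_mem' := ⟨1, one_mem _, 1, one_mem _, (one_mul 1).symm⟩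
  mul_mem' := by
    rintro _ _ ⟨x, hx, y, hy, rfl⟩ ⟨x', hx', y', hy', rfl⟩
    exact ⟨_, mul_mem hx hx', _, mul_mem hy hy',
      Commute.mul_mul_mul_comm (H.comm_row i j k hij hik hjk x' hx' y hy).symm x y'⟩
  inv_mem' := by
    rintro _ ⟨x, hx, y, hy, rfl⟩
    exact ⟨x⁻¹, inv_mem hx, y⁻¹, inv_mem hy, by
      rw [mul_inv_rev]
      exact (H.comm_row i j k hij hik hjk _ (inv_mem hx) _ (inv_mem hy)).symm⟩

variable {i j k : Fin 3} (hij : i ≠ j) (hik : i ≠ k) (hjk : j ≠ k)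

theorem mem_row_l {x : G} (hx : x ∈ H.E i j) : x ∈ H.row i j k hij hik hjk :=
  ⟨x, hx, 1, one_mem _, (mul_one x).symm⟩

theorem mem_row_r {y : G} (hy : y ∈ H.E i k) : y ∈ H.row i j k hij hik hjk :=
  ⟨1, one_mem _, y, hy, (one_mul y).symm⟩

theorem row_comm {r s : G} (hr : r ∈ H.row i j k hij hik hjk) (hs : s ∈ H.row i j k hij hik hjk) :
    r * s = s * r := by
  obtain ⟨x, hx, y, hy, rfl⟩ := hr
  obtain ⟨x', hx', y', hy', rfl⟩ := hs
  have c := H.comm_row i j k hij hik hjk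
  rw [Commute.mul_mul_mul_comm (c x' hx' y hy).symm x y',
    Commute.mul_mul_mul_comm (c x hx y' hy').symm x' y, H.comm_E i j hij x hx x' hx',
    H.comm_E i k hik y hy y' hy']

theorem row_inv {r : G} (hr : r ∈ H.row i j k hij hik hjk) :
    H.z i * r * (H.z i)⁻¹ = r⁻¹ := by
  obtain ⟨x, hx, y, hy, rfl⟩ := hr
  rw [conj_mul.symm, H.z_inv_l hij hx, H.z_inv_l hik hy, mul_inv_rev]
  exact H.comm_row i j k hij hik hjk _ (inv_mem hx) _ (inv_mem hy)

theorem card_row : Nat.card (H.row i j k hij hik hjk) = q * q := by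
  let f : H.E i j × H.E i k → H.row i j k hij hik hjk := fun a =>
    ⟨a.1.1 * a.2.1, a.1.1, a.1.2, a.2.1, a.2.2, rfl⟩
  have hf : Function.Bijective f := by
    refine ⟨fun a b h => ?_, fun ⟨g, x, hx, y, hy, hg⟩ => ⟨(⟨x, hx⟩, ⟨y, hy⟩), Subtype.ext hg.symm⟩⟩
    have h' : a.1.1 * a.2.1 = b.1.1 * b.2.1 := congrArg Subtype.val h
    have h1 : b.1.1⁻¹ * a.1.1 = b.2.1 * a.2.1⁻¹ := by
      rw [inv_mul_eq_iff_eq_mul, ← mul_assoc, eq_mul_inv_iff_mul_eq, h']
    have h2 := H.inter_row hij hik hjk (mul_mem (inv_mem b.1.2) a.1.2)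
      (h1 ▸ mul_mem b.2.2 (inv_mem a.2.2))
    refine Prod.ext (Subtype.ext (inv_mul_eq_one.1 h2).symm) (Subtype.ext ?_)
    rw [← (inv_mul_eq_one.1 h2)] at h'
    exact mul_left_cancel h'
  rw [← Nat.card_congr (Equiv.ofBijective f hf), Nat.card_prod, H.card_E i j hij, H.card_E i k hik]

theorem le_normalizer_of_conj [Finite G] {K R : Subgroup G}
    (h : ∀ c ∈ K, ∀ r ∈ R, c * r * c⁻¹ ∈ R) : K ≤ Subgroup.normalizer (R : Set G) := by
  intro c hc
  rw [Subgroup.mem_normalizer_iff]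
  exact fun r => ⟨h c hc r, fun hr => by
    simpa [mul_assoc] using h c⁻¹ (inv_mem hc) _ hr⟩

/-- The opposite centraliser normalises the row group. -/
theorem row_norm {c r : G} (hc : c ∈ H.C i) (hr : r ∈ H.row i j k hij hik hjk) :
    c * r * c⁻¹ ∈ H.row i j k hij hik hjk := by
  have hle : H.C i ≤ Subgroup.normalizer (H.row i j k hij hik hjk : Set G) := by
    refine H.C_gen hjk hij.symm hik.symm ?_ ?_ ?_ <;>
      intro a ha <;> rw [Subgroup.mem_normalizer_iff] <;> intro r <;> constructor <;> intro hr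
    all_goals
      first
        | obtain ⟨x, hx, y, hy, rfl⟩ := hr
          rw [conj_mul.symm]
          refine mul_mem ?_ ?_
        | (have hr' := hr; obtain ⟨x, hx, y, hy, he⟩ := hr'
           have hr0 : r = (a⁻¹ * x * a) * (a⁻¹ * y * a) := by
             rw [show r = a⁻¹ * (a * r * a⁻¹) * a by group, he]; group
           rw [hr0]
           refine mul_mem ?_ ?_)
    · exact H.mem_row_l hij hik hjk (H.T_norm i j hij a ha x hx)
    · exact H.mem_row_r hij hik hjk (H.T_norm i k hik a ha y hy)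
    · exact H.mem_row_l hij hik hjk (by simpa using H.T_norm i j hij a⁻¹ (inv_mem ha) x hx)
    · exact H.mem_row_r hij hik hjk (by simpa using H.T_norm i k hik a⁻¹ (inv_mem ha) y hy)
    · have h1 := mul_mem (H.mem_row_r hij hik hjk
        (inv_mem (H.comm_mem i j k hij hik hjk x hx a ha))) (H.mem_row_l hij hik hjk hx)
      simpa [mul_assoc] using h1
    · rw [← H.comm_col i j k hij hik hjk y hy a ha, mul_inv_cancel_right]
      exact H.mem_row_r hij hik hjk hy
    · have h1 := mul_mem (H.mem_row_r hij hik hjk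
        (inv_mem (H.comm_mem i j k hij hik hjk x hx a⁻¹ (inv_mem ha)))) (H.mem_row_l hij hik hjk hx)
      simpa [mul_assoc] using h1
    · rw [mul_assoc, H.comm_col i j k hij hik hjk y hy a ha, inv_mul_cancel_left]
      exact H.mem_row_r hij hik hjk hy
    · rw [← H.comm_col i k j hik hij hjk.symm x hx a ha, mul_inv_cancel_right]
      exact H.mem_row_l hij hik hjk hx
    · have h1 := mul_mem (H.mem_row_l hij hik hjk
        (inv_mem (H.comm_mem i k j hik hij hjk.symm y hy a ha))) (H.mem_row_r hij hik hjk hy)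
      simpa [mul_assoc] using h1
    · rw [mul_assoc, H.comm_col i k j hik hij hjk.symm x hx a ha, inv_mul_cancel_left]
      exact H.mem_row_l hij hik hjk hx
    · have h1 := mul_mem (H.mem_row_l hij hik hjk
        (inv_mem (H.comm_mem i k j hik hij hjk.symm y hy a⁻¹ (inv_mem ha)))) (H.mem_row_r hij hik hjk hy)
      simpa [mul_assoc] using h1
  exact (Subgroup.mem_normalizer_iff.1 (hle hc) r).1 hr

theorem row_inter_C {x : G} (hx : x ∈ H.row i j k hij hik hjk) (hc : x ∈ H.C i) : x = 1 := by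
  have h1 := H.row_inv hij hik hjk hx
  rw [← H.C_comm hc, mul_inv_cancel_right] at h1
  obtain ⟨a, ha, b, hb, rfl⟩ := hx
  have h2 : (a * a) * (b * b) = 1 := by
    rw [← Commute.mul_mul_mul_comm (H.comm_row i j k hij hik hjk a ha b hb).symm a b]
    nth_rw 2 [h1]
    exact mul_inv_cancel _
  have h3 : a * a ∈ H.E i k := by
    rw [eq_inv_of_mul_eq_one_left h2]; exact inv_mem (mul_mem hb hb)
  have ha1 := H.eq_one_of_sq hij ha (H.inter_row hij hik hjk (mul_mem ha ha) h3)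
  subst ha1
  rw [one_mul]
  exact H.eq_one_of_sq hik hb (by simpa using h2)

/-- The parabolic subgroup: row group times the opposite centraliser. -/
def para : Subgroup G where
  carrier := {g | ∃ r ∈ H.row i j k hij hik hjk, ∃ c ∈ H.C i, g = r * c}
  one_mem' := ⟨1, one_mem _, 1, one_mem _, (one_mul 1).symm⟩
  mul_mem' := by
    rintro _ _ ⟨r, hr, c, hc, rfl⟩ ⟨r', hr', c', hc', rfl⟩
    exact ⟨_, mul_mem hr (H.row_norm hij hik hjk hc hr'), _, mul_mem hc hc', by group⟩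
  inv_mem' := by
    rintro _ ⟨r, hr, c, hc, rfl⟩
    exact ⟨_, H.row_norm hij hik hjk (inv_mem hc) (inv_mem hr), _, inv_mem hc, by group⟩

theorem card_para : Nat.card (H.para hij hik hjk) = q * q * Nat.card (H.C i) := by
  let f : H.row i j k hij hik hjk × H.C i → H.para hij hik hjk := fun a =>
    ⟨a.1.1 * a.2.1, a.1.1, a.1.2, a.2.1, a.2.2, rfl⟩
  have hf : Function.Bijective f := by
    refine ⟨fun a b h => ?_, fun ⟨g, x, hx, y, hy, hg⟩ => ⟨(⟨x, hx⟩, ⟨y, hy⟩), Subtype.ext hg.symm⟩⟩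
    have h' : a.1.1 * a.2.1 = b.1.1 * b.2.1 := congrArg Subtype.val h
    have h1 : b.1.1⁻¹ * a.1.1 = b.2.1 * a.2.1⁻¹ := by
      rw [inv_mul_eq_iff_eq_mul, ← mul_assoc, eq_mul_inv_iff_mul_eq, h']
    have h2 := H.row_inter_C hij hik hjk (mul_mem (inv_mem b.1.2) a.1.2)
      (h1 ▸ mul_mem b.2.2 (inv_mem a.2.2))
    refine Prod.ext (Subtype.ext (inv_mul_eq_one.1 h2).symm) (Subtype.ext ?_)
    rw [← (inv_mul_eq_one.1 h2)] at h'
    exact mul_left_cancel h'
  rw [← Nat.card_congr (Equiv.ofBijective f hf), Nat.card_prod, H.card_row hij hik hjk]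

/-- An element of the parabolic subgroup inverted by its involution lies in the row group. -/
theorem mem_para_of_inv {g : G} (hg : g ∈ H.para hij hik hjk)
    (hz : H.z i * g * (H.z i)⁻¹ = g⁻¹) :
    ∃ r ∈ H.row i j k hij hik hjk, g * g = r * r := by
  obtain ⟨r, hr, c, hc, rfl⟩ := hg
  refine ⟨r, hr, ?_⟩
  rw [conj_mul.symm, H.row_inv hij hik hjk hr, ← H.C_comm hc, mul_inv_cancel_right] at hz
  calc r * c * (r * c) = r * c * ((r * c)⁻¹)⁻¹ := by rw [inv_inv]
    _ = r * c * (r⁻¹ * c)⁻¹ := by rw [hz]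
    _ = r * r := by group

end Hex

end CfsgLib.ABG.Recog
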