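import Cfsg.Agent.ABG.Recog.HexBasic
import Cfsg.Agent.LocalB.SpreadCoords

/-!
# Hexagons of root groups: coordinates in a field
-/

set_option autoImplicit false

namespace CfsgLib.ABG.Recog

universe u

/-- `f` is an additive parametrisation of `K`. -/
structure Param {G : Type u} [Group G] {F : Type} [AddCommGroup F] (K : Subgroup G) (f : F → G) :
    Prop where
  mem : ∀ x, f x ∈ K
  surj : ∀ g ∈ K, ∃ x, f x = g
  add : ∀ x y, f (x + y) = f x * f y
  inj : Function.Injective f

namespace Param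

variable {G : Type u} [Group G] {F : Type} [AddCommGroup F] {K : Subgroup G} {f : F → G}
  (P : Param K f)

include P

theorem zero : f 0 = 1 := by
  have h := P.add 0 0
  rw [add_zero] at h
  exact mul_eq_left.1 h.symm

theorem neg (x : F) : f (-x) = (f x)⁻¹ := eq_inv_of_mul_eq_one_left (by rw [← P.add, neg_add_cancel, P.zero])

theorem eq_one {x : F} (h : f x = 1) : x = 0 := P.inj (h.trans P.zero.symm)

end Param

theorem Param.of_equiv {G : Type u} [Group G] {F : Type} [AddCommGroup F] {K : Subgroup G}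
    (e : F ≃+ Additive K) : Param K (fun x => ((e x).toMul : G)) where
  mem x := (e x).toMul.2
  surj g hg := ⟨e.symm (Additive.ofMul ⟨g, hg⟩), by simp⟩
  add x y := by simp
  inj x y h := e.injective (Additive.toMul.injective (Subtype.ext h))

namespace Hex

open scoped commutatorElement

variable {G : Type u} [Group G] {p q : ℕ} (H : Hex G p q)

variable {i j k : Fin 3} (hij : i ≠ j) (hik : i ≠ k) (hjk : j ≠ k)

include hij hik hjk

omit hij hik hjk in
theorem comm_eq_of {x y : G} (h : x * y * x⁻¹ * y⁻¹ = 1) : x * y = y * x := by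
  have h1 := commutatorElement_eq_one_iff_mul_comm.1 (show ⁅x, y⁆ = 1 from h)
  exact h1

/-- A root group element centralised by a non-trivial element of the following one is trivial. -/
theorem fpf [Finite G] {x y : G} (hx : x ∈ H.E i j) (hy : y ∈ H.E j k) (hy1 : y ≠ 1)
    (h : x * y = y * x) : x = 1 := by
  set v := H.w i with hv
  have hvm := H.w_mem i
  have hc : v * y * v ∈ H.C i :=
    mul_mem (mul_mem hvm (H.E_le j k i hjk hij.symm hik.symm hy)) hvm
  have hswap : ∀ {g : G}, g ∈ H.E i j → v * g * v⁻¹ ∈ H.E i k := fun {g} hg => by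
    have := H.w_E hjk hij.symm hik.symm hij hg
    rwa [Equiv.swap_apply_of_ne_of_ne hij hik, Equiv.swap_apply_left] at this
  have hswap' : ∀ {g : G}, g ∈ H.E i k → v * g * v⁻¹ ∈ H.E i j := fun {g} hg => by
    have := H.w_E hjk hij.symm hik.symm hik hg
    rwa [Equiv.swap_apply_of_ne_of_ne hij hik, Equiv.swap_apply_right] at this
  have hinv : ∀ {g : G}, g ∈ H.E i j → v⁻¹ * g * v ∈ H.E i k := fun {g} hg => by
    have := H.w_inv_E hjk hij.symm hik.symm hij hg
    rwa [Equiv.swap_apply_of_ne_of_ne hij hik, Equiv.swap_apply_left] at this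
  have hinv' : ∀ {g : G}, g ∈ H.E i k → v⁻¹ * g * v ∈ H.E i j := fun {g} hg => by
    have := H.w_inv_E hjk hij.symm hik.symm hik hg
    rwa [Equiv.swap_apply_of_ne_of_ne hij hik, Equiv.swap_apply_right] at this
  rcases H.bruhat j k i hjk hij.symm hik.symm _ hc with ⟨a, ha, t, ht, he⟩ | ⟨a, ha, b, hb, t, ht, he⟩
  · exfalso
    obtain ⟨x', hx', hne⟩ := H.free i j k hij hik hjk y hy hy1
    have h1 : (v * y * v) * (v⁻¹ * x' * v) * (v * y * v)⁻¹ ∈ H.E i k := by
      rw [he]
      have h2 := H.T_norm i k hik t ht _ (hinv hx')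
      have h3 : a * (t * (v⁻¹ * x' * v) * t⁻¹) * a⁻¹ = t * (v⁻¹ * x' * v) * t⁻¹ := by
        rw [← H.comm_col i j k hij hik hjk _ h2 a ha, mul_inv_cancel_right]
      rw [show a * t * (v⁻¹ * x' * v) * (a * t)⁻¹ = a * (t * (v⁻¹ * x' * v) * t⁻¹) * a⁻¹ by group,
        h3]
      exact h2
    have h4 : y * x' * y⁻¹ ∈ H.E i j := by
      have := hinv' h1
      simpa [mul_assoc] using this
    have h5 : x' * y * x'⁻¹ * y⁻¹ ∈ H.E i j := by
      have := mul_mem hx' (inv_mem h4)
      simpa [mul_assoc] using this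
    exact hne (comm_eq_of (H.inter_row hij hik hjk h5 (H.comm_mem i j k hij hik hjk x' hx' y hy)))
  · have hr := hinv hx
    set r := v⁻¹ * x * v with hr_def
    have hb' : b * (t * r * t⁻¹) * b⁻¹ = t * r * t⁻¹ := by
      rw [← H.comm_col i j k hij hik hjk _ (H.T_norm i k hik t ht r hr) b hb, mul_inv_cancel_right]
    set r' := v * (t * r * t⁻¹) * v⁻¹ with hr'_def
    have hr' : r' ∈ H.E i j := hswap' (H.T_norm i k hik t ht r hr)
    have h1 : v * x * v⁻¹ = a * r' * a⁻¹ := by
      have e1 : (v * y * v) * r * (v * y * v)⁻¹ = v * (y * x * y⁻¹) * v⁻¹ := by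
        rw [hr_def]; group
      rw [← h, mul_inv_cancel_right] at e1
      rw [← e1, he, hr'_def, ← hb']
      simp only [hv, mul_assoc, mul_inv_rev]
    have h2 : r' ∈ H.E i k := by
      have h3 := H.comm_mem i j k hij hik hjk r' hr' a ha
      have h4 := mul_mem h3 (hswap hx)
      rw [h1] at h4
      simpa [mul_assoc] using h4
    have h5 : r' = 1 := H.inter_row hij hik hjk hr' h2
    have h6 : v * x * v⁻¹ = 1 := by rw [h1, h5, mul_one, mul_inv_cancel]
    simpa using h6

theorem row_unique {x x' y y' : G} (hx : x ∈ H.E i j) (hx' : x' ∈ H.E i j) (hy : y ∈ H.E i k)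
    (hy' : y' ∈ H.E i k) (h : x * y = x' * y') : x = x' ∧ y = y' := by
  have h1 : x'⁻¹ * x = y' * y⁻¹ := by
    rw [inv_mul_eq_iff_eq_mul, ← mul_assoc, eq_mul_inv_iff_mul_eq, h]
  have h2 := inv_mul_eq_one.1 (H.inter_row hij hik hjk (mul_mem (inv_mem hx') hx)
    (h1 ▸ mul_mem hy' (inv_mem hy)))
  subst h2
  exact ⟨rfl, mul_left_cancel h⟩

/-- The two spread sets are inverse to each other. -/
theorem exists_mate [Finite G] {c : G} (hc : c ∈ H.E j k) (hc1 : c ≠ 1) :
    ∃ d ∈ H.E k j, ∀ a ∈ H.E i j, ⁅⁅a, c⁆, d⁆ = a := by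
  rcases H.bruhat k j i hjk.symm hik.symm hij.symm c (H.E_le j k i hjk hij.symm hik.symm hc) with
    ⟨d, hd, t, ht, he⟩ | ⟨d, hd, b', hb', t, ht, he⟩
  · exfalso
    obtain ⟨x, hx, hne⟩ := H.free i j k hij hik hjk c hc hc1
    have h1 : c * x * c⁻¹ ∈ H.E i j := by
      have h2 := H.T_norm i j hij t ht x hx
      have h3 : d * (t * x * t⁻¹) * d⁻¹ = t * x * t⁻¹ := by
        rw [← H.comm_col i k j hik hij hjk.symm _ h2 d hd, mul_inv_cancel_right]
      rw [he, show d * t * x * (d * t)⁻¹ = d * (t * x * t⁻¹) * d⁻¹ by group, h3]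
      exact h2
    have h5 : x * c * x⁻¹ * c⁻¹ ∈ H.E i j := by
      have := mul_mem hx (inv_mem h1)
      simpa [mul_assoc] using this
    exact hne (comm_eq_of (H.inter_row hij hik hjk h5 (H.comm_mem i j k hij hik hjk x hx c hc)))
  · refine ⟨d, hd, fun a ha => ?_⟩
    have h2 := H.T_norm i j hij t ht a ha
    have hb : b' * (t * a * t⁻¹) * b'⁻¹ = t * a * t⁻¹ := by
      rw [← H.comm_col i k j hik hij hjk.symm _ h2 b' hb', mul_inv_cancel_right]
    set b := H.w i * (t * a * t⁻¹) * (H.w i)⁻¹ with hb_def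
    have hbE : b ∈ H.E i k := by
      have := H.w_E hjk hij.symm hik.symm hij h2
      rwa [Equiv.swap_apply_of_ne_of_ne hij hik, Equiv.swap_apply_left] at this
    have hca : c * a * c⁻¹ = d * b * d⁻¹ := by
      rw [hb_def, ← hb, he]
      simp only [mul_assoc, mul_inv_rev]
    have hac := H.comm_mem i j k hij hik hjk a ha c hc
    have hbd := H.comm_mem i k j hik hij hjk.symm b hbE d hd
    rw [← commutatorElement_def] at hac hbd
    have e1 : a * ⁅a, c⁆⁻¹ = ⁅b, d⁆⁻¹ * b := by
      rw [H.comm_row i j k hij hik hjk a ha _ (inv_mem hac)]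
      simp only [commutatorElement_def]
      rw [show (a * c * a⁻¹ * c⁻¹)⁻¹ * a = c * a * c⁻¹ by group,
        show (b * d * b⁻¹ * d⁻¹)⁻¹ * b = d * b * d⁻¹ by group, hca]
    obtain ⟨ea, eb⟩ := H.row_unique hij hik hjk ha (inv_mem hbd) (inv_mem hac) hbE e1
    rw [inv_eq_iff_eq_inv] at eb
    rw [eb, show ⁅b⁻¹, d⁆ = b⁻¹ * ⁅b, d⁆⁻¹ * b by simp only [commutatorElement_def]; group, ← ea,
      mul_assoc, H.comm_row i j k hij hik hjk a ha b hbE, inv_mul_cancel_left]

theorem comm_mul_left {a a' y : G} (ha : a ∈ H.E i j) (ha' : a' ∈ H.E i j) (hy : y ∈ H.E j k) :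
    ⁅a * a', y⁆ = ⁅a, y⁆ * ⁅a', y⁆ := by
  have h1 := H.comm_mem i j k hij hik hjk a' ha' y hy
  rw [← commutatorElement_def] at h1
  have h2 := H.comm_mem i j k hij hik hjk a ha y hy
  rw [← commutatorElement_def] at h2
  rw [H.comm_E i k hik _ h2 _ h1, show ⁅a * a', y⁆ = a * ⁅a', y⁆ * a⁻¹ * ⁅a, y⁆ by
    simp only [commutatorElement_def]; group, H.comm_row i j k hij hik hjk a ha _ h1,
    mul_inv_cancel_right]

theorem comm_mul_right {a y y' : G} (ha : a ∈ H.E i j) (hy : y ∈ H.E j k) (hy' : y' ∈ H.E j k) :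
    ⁅a, y * y'⁆ = ⁅a, y⁆ * ⁅a, y'⁆ := by
  have h1 := H.comm_mem i j k hij hik hjk a ha y' hy'
  rw [← commutatorElement_def] at h1
  rw [show ⁅a, y * y'⁆ = ⁅a, y⁆ * (y * ⁅a, y'⁆ * y⁻¹) by
    simp only [commutatorElement_def]; group, ← H.comm_col i j k hij hik hjk _ h1 y hy,
    mul_inv_cancel_right]

/-- Commutation with an element of the following root group. -/
def commHom (y : H.E j k) : Additive (H.E i j) →+ Additive (H.E i k) :=
  MonoidHom.toAdditive
    { toFun := fun a => ⟨⁅(a : G), (y : G)⁆, H.comm_mem i j k hij hik hjk _ a.2 _ y.2⟩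
      map_one' := Subtype.ext (by simp)
      map_mul' := fun a b => Subtype.ext (H.comm_mul_left hij hik hjk a.2 b.2 y.2) }

theorem commHom_apply (y : H.E j k) (a : Additive (H.E i j)) :
    ((H.commHom hij hik hjk y a).toMul : G) = ⁅(a.toMul : G), (y : G)⁆ := rfl

/-- The spread set. -/
def spread (y : Additive (H.E j k)) : Additive (H.E i j) →+ Additive (H.E i k) :=
  H.commHom hij hik hjk y.toMul

theorem spread_add (y y' : Additive (H.E j k)) (a : Additive (H.E i j)) :
    H.spread hij hik hjk (y + y') a = H.spread hij hik hjk y a + H.spread hij hik hjk y' a := by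
  apply Additive.toMul.injective
  apply Subtype.ext
  exact H.comm_mul_right hij hik hjk a.toMul.2 y.toMul.2 y'.toMul.2

theorem spread_apply (y : Additive (H.E j k)) (a : Additive (H.E i j)) :
    ((H.spread hij hik hjk y a).toMul : G) = ⁅(a.toMul : G), (y.toMul : G)⁆ := rfl

theorem spread_bij [Finite G] {y : Additive (H.E j k)} (hy : y ≠ 0) :
    Function.Bijective (H.spread hij hik hjk y) := by
  refine (Nat.bijective_iff_injective_and_card _).2 ⟨?_, ?_⟩
  · rw [injective_iff_map_eq_zero]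
    intro a ha
    have h1 : ⁅(a.toMul : G), (y.toMul : G)⁆ = 1 := by
      rw [← H.spread_apply hij hik hjk, ha]; rfl
    have h2 := H.fpf hij hik hjk a.toMul.2 y.toMul.2 (fun h => hy (Additive.toMul.injective (Subtype.ext h)))
      (commutatorElement_eq_one_iff_mul_comm.1 h1)
    exact Additive.toMul.injective (Subtype.ext h2)
  · change Nat.card (Additive (H.E i j)) = Nat.card (Additive (H.E i k))
    rw [Nat.card_congr Additive.toMul, Nat.card_congr Additive.toMul, H.card_E i j hij,
      H.card_E i k hik]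

theorem spread_injective [Finite G] : Function.Injective (H.spread hij hik hjk) := by
  intro y y' hy
  by_contra h
  obtain ⟨a, ha, ha1⟩ := H.exists_ne_one hij
  have := (H.spread_bij hij hik hjk (sub_ne_zero.2 h)).1 (a₁ := Additive.ofMul ⟨a, ha⟩) (a₂ := 0)
    (by
      have h1 := H.spread_add hij hik hjk (y - y') y' (Additive.ofMul ⟨a, ha⟩)
      rw [sub_add_cancel, ← hy, right_eq_add] at h1
      rw [map_zero, h1])
  exact ha1 (congrArg (fun z => (z.toMul : G)) this)

omit hij hik hjk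

/-- Coordinates on four root groups in a field. -/
structure Coord (F : Type) [Field F] where
  a : F → G
  b : F → G
  c : F → G
  d : F → G
  pa : Param (H.E 0 1) a
  pb : Param (H.E 0 2) b
  pc : Param (H.E 1 2) c
  pd : Param (H.E 2 1) d
  rel_c : ∀ x y, ⁅a x, c y⁆ = b (x * y)
  rel_d : ∀ x y, ⁅b x, d y⁆ = a (x * y)

theorem exists_coord [Finite G] : ∃ (F : Type) (_ : Field F) (_ : Fintype F),
    Fintype.card F = q ∧ Nonempty (H.Coord F) := by
  classical
  have h01 : (0 : Fin 3) ≠ 1 := by decide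
  have h02 : (0 : Fin 3) ≠ 2 := by decide
  have h12 : (1 : Fin 3) ≠ 2 := by decide
  haveI := Fact.mk H.prime
  letI : AddCommGroup (Additive (H.E 0 2)) :=
    { (inferInstance : AddGroup (Additive (H.E 0 2))) with
      add_comm := fun a b => Additive.toMul.injective
        (Subtype.ext (H.comm_E 0 2 h02 _ a.toMul.2 _ b.toMul.2)) }
  letI : AddCommGroup (Additive (H.E 0 1)) :=
    { (inferInstance : AddGroup (Additive (H.E 0 1))) with
      add_comm := fun a b => Additive.toMul.injective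
        (Subtype.ext (H.comm_E 0 1 h01 _ a.toMul.2 _ b.toMul.2)) }
  haveI : Nontrivial (Additive (H.E 0 2)) := by
    obtain ⟨x, hx, hx1⟩ := H.exists_ne_one h02
    exact ⟨⟨Additive.ofMul ⟨x, hx⟩, 0, fun h => hx1 (congrArg (fun z => (z.toMul : G)) h)⟩⟩
  let σ := AddMonoidHom.mk' (H.spread h01 h02 h12) (fun y y' => AddMonoidHom.ext (H.spread_add h01 h02 h12 y y'))
  let τ := AddMonoidHom.mk' (H.spread h02 h01 h12.symm) (fun y y' => AddMonoidHom.ext (H.spread_add h02 h01 h12.symm y y'))
  have hP : CfsgLib.SpreadField.Pair p σ.range τ.range := by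
    refine ⟨fun x => ?_, ?_, ?_, ?_, ?_⟩
    · apply Additive.toMul.injective
      apply Subtype.ext
      rw [toMul_nsmul, SubgroupClass.coe_pow]
      exact H.exp_E 0 2 h02 _ x.toMul.2
    · rintro _ ⟨y, rfl⟩ hne
      exact H.spread_bij h01 h02 h12 (fun h => hne (by rw [h, map_zero]))
    · rw [← Nat.card_congr (AddMonoidHom.ofInjective (f := σ) (H.spread_injective h01 h02 h12)).toEquiv,
        Nat.card_congr Additive.toMul, Nat.card_congr Additive.toMul, H.card_E 1 2 h12,
        H.card_E 0 2 h02]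
    · rintro _ ⟨y, rfl⟩ hne
      obtain ⟨d, hd, hd'⟩ := H.exists_mate h01 h02 h12 y.toMul.2
        (fun h => hne (by rw [show y = 0 from Additive.toMul.injective (Subtype.ext h), map_zero]))
      refine ⟨τ (Additive.ofMul ⟨d, hd⟩), ⟨_, rfl⟩, fun x => ?_⟩
      apply Additive.toMul.injective
      apply Subtype.ext
      exact hd' _ x.toMul.2
    · rintro _ ⟨y, rfl⟩ hne
      obtain ⟨c, hc, hc'⟩ := H.exists_mate h02 h01 h12.symm y.toMul.2
        (fun h => hne (by rw [show y = 0 from Additive.toMul.injective (Subtype.ext h), map_zero]))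
      refine ⟨σ (Additive.ofMul ⟨c, hc⟩), ⟨_, rfl⟩, fun x => ?_⟩
      apply Additive.toMul.injective
      apply Subtype.ext
      exact hc' _ x.toMul.2
  obtain ⟨F, _, _, e, e', hcard, hS, -, hT, -⟩ := hP.exists_coords
  have hq : Fintype.card F = q := by rw [hcard, Nat.card_congr Additive.toMul, H.card_E 0 2 h02]
  refine ⟨F, inferInstance, inferInstance, hq, ?_⟩
  have key : ∀ (A B : Type u) [AddCommGroup A] [AddCommGroup B] (K : Subgroup G) (eA : F ≃+ A)
      (eB : F ≃+ B) (ρ : Additive K →+ (A →+ B)), Function.Injective ρ →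
      Nat.card K = q → (∀ s ∈ ρ.range, ∃ c : F, ∀ y, s (eA y) = eB (c * y)) →
      ∃ e'' : F ≃+ Additive K, ∀ x y, ρ (e'' y) (eA x) = eB (x * y) := by
    intro A B _ _ K eA eB ρ hρ hK hex
    let κ : Additive K →+ F := (eB.symm.toAddMonoidHom.comp (AddMonoidHom.eval (eA 1))).comp ρ
    have hκ : ∀ y x, ρ y (eA x) = eB (x * κ y) := by
      intro y x
      obtain ⟨c, hc⟩ := hex (ρ y) ⟨y, rfl⟩
      have : κ y = c := by
        change eB.symm (ρ y (eA 1)) = c
        rw [hc, mul_one, AddEquiv.symm_apply_apply]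
      rw [this, hc, mul_comm]
    have hinj : Function.Injective κ := by
      intro y y' h
      refine hρ (AddMonoidHom.ext fun z => ?_)
      obtain ⟨x, rfl⟩ := eA.surjective z
      rw [hκ, hκ, h]
    have hbij : Function.Bijective κ := (Nat.bijective_iff_injective_and_card _).2 ⟨hinj, by
      rw [Nat.card_congr Additive.toMul, hK, Nat.card_eq_fintype_card, hq]⟩
    refine ⟨(AddEquiv.ofBijective κ hbij).symm, fun x y => ?_⟩
    have h1 : κ ((AddEquiv.ofBijective κ hbij).symm y) = y :=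
      (AddEquiv.ofBijective κ hbij).apply_symm_apply y
    rw [hκ, h1]
  obtain ⟨ec, hec⟩ := key _ _ _ e' e σ (H.spread_injective h01 h02 h12) (H.card_E 1 2 h12) hS
  obtain ⟨ed, hed⟩ := key _ _ _ e e' τ (H.spread_injective h02 h01 h12.symm)
    (H.card_E 2 1 h12.symm) hT
  exact ⟨{ a := _, b := _, c := _, d := _
           pa := Param.of_equiv e', pb := Param.of_equiv e
           pc := Param.of_equiv ec, pd := Param.of_equiv ed
           rel_c := fun x y => congrArg (fun z => (z.toMul : G)) (hec x y)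
           rel_d := fun x y => congrArg (fun z => (z.toMul : G)) (hed x y) }⟩

end Hex

end CfsgLib.ABG.Recog
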