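import Cfsg.Agent.ABG.Recog.HexMonomial
import Mathlib.LinearAlgebra.Projectivization.Cardinality

/-!
# A hexagon of root groups gives `PSL₃`
-/

set_option autoImplicit false

namespace CfsgLib.ABG.Recog

namespace Hex

open scoped commutatorElement LinearAlgebra.Projectivization
open Matrix

universe u

variable {G : Type u} [Group G] [Finite G] {p q : ℕ} (H : Hex G p q)

include H in
theorem not_abelian : ∃ a b : G, a * b ≠ b * a := by
  obtain ⟨y, hy, hy1⟩ := H.exists_ne_one (i := 1) (j := 2) (by decide)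
  obtain ⟨x, -, h⟩ := H.free 0 1 2 (by decide) (by decide) (by decide) y hy hy1
  exact ⟨x, y, h⟩

theorem index_M1 : H.M1.index = q ^ 2 + q + 1 := by
  have h1 := Subgroup.card_mul_index H.M1
  rw [H.card_para, H.card_G] at h1
  have h2 : 0 < q * q * Nat.card (H.C 0) :=
    Nat.mul_pos (Nat.mul_pos (Nat.lt_trans Nat.one_pos H.one_lt) (Nat.lt_trans Nat.one_pos H.one_lt))
      Nat.card_pos
  apply Nat.eq_of_mul_eq_mul_left h2
  rw [h1]; ring

theorem SL_transvection_mulVec {F : Type} [Field F] {i j : Fin 3} (h : i ≠ j) (c : F)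
    (v : Fin 3 → F) :
    (Matrix.SpecialLinearGroup.transvection h c : Matrix (Fin 3) (Fin 3) F) *ᵥ v =
      Function.update v i (v i + c * v j) := by
  change Matrix.transvection i j c *ᵥ v = _
  ext k
  rw [Matrix.transvection, add_mulVec, one_mulVec, single_mulVec, Pi.add_apply]
  rcases eq_or_ne k i with rfl | hk
  · simp
  · simp [hk, Pi.single_eq_of_ne hk]

namespace Coord

variable {H} {F : Type} [Field F] [DecidableEq F] (K : H.Coord F)

/-- `g` acts on the points as `M ∘ σ`. -/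
def Acts (g : G) (σ : F ≃+* F) (M : Matrix (Fin 3) (Fin 3) F) : Prop :=
  ∀ v : Fin 3 → F, v ≠ 0 → g • K.pt (v 0) (v 1) (v 2) =
    K.pt ((M *ᵥ fun i => σ (v i)) 0) ((M *ᵥ fun i => σ (v i)) 1) ((M *ᵥ fun i => σ (v i)) 2)

theorem not_zero_iff {v : Fin 3 → F} : v ≠ 0 ↔ ¬(v 0 = 0 ∧ v 1 = 0 ∧ v 2 = 0) := by
  rw [not_iff_not, funext_iff, Fin.forall_fin_succ, Fin.forall_fin_succ, Fin.forall_fin_one]
  rfl

/-- The map from the projective plane to the cosets. -/
noncomputable def toPt : Semi.PT F → G ⧸ H.M1 :=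
  Projectivization.lift (fun v => K.pt (v.1 0) (v.1 1) (v.1 2)) (by
    rintro ⟨a, ha⟩ ⟨b, hb⟩ t (rfl : a = t • b)
    have ht : t ≠ 0 := by rintro rfl; exact ha (zero_smul F b)
    exact K.pt_smul ht (b 0) (b 1) (b 2))

theorem toPt_mk (v : Fin 3 → F) (hv : v ≠ 0) :
    K.toPt (Projectivization.mk F v hv) = K.pt (v 0) (v 1) (v 2) := rfl

theorem toPt_injective : Function.Injective K.toPt := by
  intro x y
  induction x using Projectivization.ind with | _ v hv =>
  induction y using Projectivization.ind with | _ w hw =>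
  intro h
  obtain ⟨r, h0, h1, h2⟩ := K.pt_inj (not_zero_iff.1 hv) (not_zero_iff.1 hw) h
  symm
  refine (Projectivization.mk_eq_mk_iff' F _ _ hw hv).2 ⟨r, funext fun i => ?_⟩
  fin_cases i <;> simp [h0, h1, h2]

theorem toPt_bijective [Fintype F] (hq : Fintype.card F = q) : Function.Bijective K.toPt := by
  refine (Nat.bijective_iff_injective_and_card _).2 ⟨K.toPt_injective, ?_⟩
  rw [← Subgroup.index_eq_card, H.index_M1,
    Projectivization.card_of_finrank F (Fin 3 → F) (n := 3) (by simp), Finset.sum_range_succ,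
    Finset.sum_range_succ, Finset.sum_range_one, Nat.card_eq_fintype_card, hq]
  ring

/-- The permutation of the plane induced by an element. -/
noncomputable def perm [Fintype F] (hq : Fintype.card F = q) : G →* Equiv.Perm (Semi.PT F) :=
  (Equiv.ofBijective K.toPt (K.toPt_bijective hq)).symm.permCongrHom.toMonoidHom.comp
    (MulAction.toPermHom G (G ⧸ H.M1))

theorem toPt_perm [Fintype F] (hq : Fintype.card F = q) (g : G) (x : Semi.PT F) :
    K.toPt (K.perm hq g x) = g • K.toPt x :=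
  (Equiv.ofBijective K.toPt (K.toPt_bijective hq)).apply_symm_apply _

theorem rep_of_acts [Fintype F] (hq : Fintype.card F = q) {g : G} {σ : F ≃+* F}
    {M : Matrix (Fin 3) (Fin 3) F} (hM : M.det ≠ 0) (h : K.Acts g σ M) :
    Semi.Rep σ (K.perm hq g) :=
  ⟨Matrix.GeneralLinearGroup.mkOfDetNeZero M hM, fun v hv => K.toPt_injective (by
    rw [K.toPt_perm, K.toPt_mk, K.toPt_mk]
    exact h v hv)⟩

theorem toPerm_mem_range [Fintype F] (hq : Fintype.card F = q) {g : G}
    {A : Matrix.SpecialLinearGroup (Fin 3) F} (h : K.Acts g (RingEquiv.refl F) A) :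
    MulAction.toPerm A ∈ (K.perm hq).range := by
  refine ⟨g, Equiv.ext fun x => K.toPt_injective ?_⟩
  induction x using Projectivization.ind with | _ v hv =>
  rw [K.toPt_perm, K.toPt_mk, MulAction.toPerm_apply, Projectivization.smul_mk, K.toPt_mk]
  exact h v hv

theorem acts_of {g : G} {σ : F ≃+* F} {M : Matrix (Fin 3) (Fin 3) F} (f : (Fin 3 → F) → Fin 3 → F)
    (hM : ∀ v, M *ᵥ (fun i => σ (v i)) = f v)
    (h : ∀ v : Fin 3 → F, v ≠ 0 → g • K.pt (v 0) (v 1) (v 2) = K.pt (f v 0) (f v 1) (f v 2)) :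
    K.Acts g σ M := fun v hv => by rw [h v hv, hM]

theorem acts_b (c : F) :
    K.Acts (K.b c) (RingEquiv.refl F)
      (Matrix.SpecialLinearGroup.transvection (show (0 : Fin 3) ≠ 2 by decide) c) :=
  K.acts_of _ (fun v => SL_transvection_mulVec _ c v) fun v _ => by
    rw [← K.pi_fst, K.pi_act]
    simp [Function.update]

theorem acts_c (c : F) :
    K.Acts (K.c c) (RingEquiv.refl F)
      (Matrix.SpecialLinearGroup.transvection (show (1 : Fin 3) ≠ 2 by decide) c) :=
  K.acts_of _ (fun v => SL_transvection_mulVec _ c v) fun v _ => by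
    rw [← K.pi_snd, K.pi_act]
    simp [Function.update]

theorem acts_a (c : F) :
    K.Acts (K.a c) (RingEquiv.refl F)
      (Matrix.SpecialLinearGroup.transvection (show (0 : Fin 3) ≠ 1 by decide) c) :=
  K.acts_of _ (fun v => SL_transvection_mulVec _ c v) fun v hv => by
    rw [K.C2_act (σ := RingEquiv.refl F) (K.a_mem_C c) (u := (1, 0)) (w := (c, 1)) (fun w => ?_)
      (not_zero_iff.1 hv)]
    · simp [Function.update, mul_comm]
    · obtain ⟨x, y⟩ := w
      rw [show K.a c * K.pi (x, y) * (K.a c)⁻¹ =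
        (K.a c * K.b x * (K.a c)⁻¹) * (K.a c * K.c y * (K.a c)⁻¹) by simp only [pi]; group,
        K.ab, K.ac, ← mul_assoc, ← K.pb.add]
      simp [pi, mul_comm y]

theorem exists_acts_C2 [Finite F] {g : G} (hg : g ∈ H.C 2) :
    ∃ σ M, M.det ≠ 0 ∧ K.Acts g σ M := by
  obtain ⟨σ, u, w, hd, h⟩ := K.exists_semi hg
  refine ⟨σ, !![u.1, w.1, 0; u.2, w.2, 0; 0, 0, 1], ?_, K.acts_of
    (fun v => ![σ (v 0) * u.1 + σ (v 1) * w.1, σ (v 0) * u.2 + σ (v 1) * w.2, σ (v 2)])
    (fun v => ?_) fun v hv => ?_⟩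
  · rw [Matrix.det_fin_three]
    simpa using hd
  · ext i
    fin_cases i <;> simp [Matrix.mulVec, dotProduct, Fin.sum_univ_three, mul_comm]
  · exact K.C2_act hg h (not_zero_iff.1 hv)

theorem acts_n :
    K.Acts K.n (RingEquiv.refl F) !![1, 0, 0; 0, 0, 1; 0, -1, 0] :=
  K.acts_of (fun v => ![v 0, v 2, -v 1])
    (fun v => by ext i; fin_cases i <;> simp [Matrix.mulVec, dotProduct, Fin.sum_univ_three])
    fun v _ => K.n_act _ _ _

theorem n_inv_act (x y z : F) : K.n⁻¹ • K.pt x y z = K.pt x (-z) y := by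
  rw [inv_smul_eq_iff, K.n_act, neg_neg]

theorem acts_d (c : F) :
    K.Acts (K.d c) (RingEquiv.refl F)
      (Matrix.SpecialLinearGroup.transvection (show (2 : Fin 3) ≠ 1 by decide) c) :=
  K.acts_of _ (fun v => SL_transvection_mulVec _ c v) fun v _ => by
    rw [show K.d c = K.n * K.c (-c) * K.n⁻¹ by rw [K.n_c, neg_neg], mul_smul, mul_smul, K.n_inv_act,
      ← K.pi_snd, K.pi_act, K.n_act]
    simp [Function.update]
    ring_nf

/-- The elements of `E 1 0` act as transvections, and every transvection occurs. -/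
theorem exists_acts_e [Fintype F] (hq : Fintype.card F = q) (c : F) :
    ∃ g, K.Acts g (RingEquiv.refl F)
      (Matrix.SpecialLinearGroup.transvection (show (1 : Fin 3) ≠ 0 by decide) c) := by
  have hmem : ∀ g : H.E 1 0, (g : G) * K.b 1 * (g : G)⁻¹ * (K.b 1)⁻¹ ∈ H.E 1 2 := fun g =>
    H.comm_mem 1 0 2 (by decide) (by decide) (by decide) _ g.2 _ (K.pb.mem 1)
  choose k hk using fun g => K.pc.surj _ (hmem g)
  have hconj : ∀ g : H.E 1 0, (g : G) * K.b 1 * (g : G)⁻¹ = K.pi (1, k g) := fun g => by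
    rw [pi, K.bc_comm, hk g]; group
  have hinj : Function.Injective k := by
    intro g g' h
    have h1 := hconj g
    rw [h, ← hconj g'] at h1
    have h2 : ((g' : G)⁻¹ * g) * K.b 1 = K.b 1 * ((g' : G)⁻¹ * g) := by
      calc ((g' : G)⁻¹ * g) * K.b 1 = (g' : G)⁻¹ * ((g : G) * K.b 1 * (g : G)⁻¹) * g := by group
        _ = K.b 1 * ((g' : G)⁻¹ * g) := by rw [h1]; group
    have h3 := H.fpf (i := 1) (j := 0) (k := 2) (by decide) (by decide) (by decide)
      (mul_mem (inv_mem g'.2) g.2) (K.pb.mem 1) (fun h => one_ne_zero (K.pb.eq_one h)) h2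
    exact (Subtype.ext (inv_mul_eq_one.1 h3)).symm
  have hsurj : Function.Bijective k := (Nat.bijective_iff_injective_and_card _).2 ⟨hinj, by
    rw [H.card_E 1 0 (by decide), Nat.card_eq_fintype_card, hq]⟩
  obtain ⟨g, rfl⟩ := hsurj.2 c
  refine ⟨g, K.acts_of _ (fun v => SL_transvection_mulVec _ (k g) v) fun v hv => ?_⟩
  have hg2 : (g : G) ∈ H.C 2 := H.E_le 1 0 2 (by decide) (by decide) (by decide) g.2
  obtain ⟨σ, u, w, -, h⟩ := K.exists_semi hg2
  have hfix : ∀ y, (g : G) * K.c y * (g : G)⁻¹ = K.c y := fun y => by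
    rw [H.comm_row 1 0 2 (by decide) (by decide) (by decide) _ g.2 _ (K.pc.mem y),
      mul_inv_cancel_right]
  have hw : w = (0, 1) := by
    have := h (0, 1)
    rw [K.pi_snd, hfix, ← K.pi_snd] at this
    have := K.pi_inj this
    simpa using this.symm
  have hu : u = (1, k g) := by
    have := h (1, 0)
    rw [K.pi_fst, hconj] at this
    have := K.pi_inj this
    simpa using this.symm
  have hσ : ∀ y, σ y = y := fun y => by
    have := h (0, y)
    rw [K.pi_snd, hfix, ← K.pi_snd] at this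
    have := K.pi_inj this
    simpa [hw] using (congrArg Prod.snd this).symm
  rw [K.C2_act hg2 h (not_zero_iff.1 hv)]
  simp only [hσ, hu, hw, Function.update]
  simp
  ring_nf

theorem exists_acts_f [Fintype F] (hq : Fintype.card F = q) (c : F) :
    ∃ g, K.Acts g (RingEquiv.refl F)
      (Matrix.SpecialLinearGroup.transvection (show (2 : Fin 3) ≠ 0 by decide) c) := by
  obtain ⟨g, hg⟩ := K.exists_acts_e hq (-c)
  refine ⟨K.n * g * K.n⁻¹, K.acts_of _ (fun v => SL_transvection_mulVec _ c v) fun v hv => ?_⟩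
  have hne : (![v 0, -v 2, v 1] : Fin 3 → F) ≠ 0 := by
    rw [not_zero_iff] at hv ⊢
    simpa [and_comm] using hv
  rw [mul_smul, mul_smul, K.n_inv_act]
  have := hg _ hne
  simp [SL_transvection_mulVec, Function.update] at this
  rw [this, K.n_act]
  simp [Function.update]
  ring_nf

theorem semi_all [Fintype F] (hq : Fintype.card F = q) (g : G) :
    ∃ σ, Semi.Rep σ (K.perm hq g) := by
  let S : Subgroup G :=
    { carrier := {g | ∃ σ, Semi.Rep σ (K.perm hq g)}
      one_mem' := ⟨_, by rw [map_one]; exact Semi.Rep.one⟩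
      mul_mem' := fun {a b} ⟨σ, ha⟩ ⟨τ, hb⟩ => ⟨_, by rw [map_mul]; exact ha.mul hb⟩
      inv_mem' := fun {a} ⟨σ, ha⟩ => ⟨_, by rw [map_inv]; exact ha.inv⟩ }
  have hC2 : H.C 2 ≤ S := fun g hg => by
    obtain ⟨σ, M, hM, h⟩ := K.exists_acts_C2 hg
    exact ⟨σ, K.rep_of_acts hq hM h⟩
  have hsl : ∀ {g : G} {A : Matrix.SpecialLinearGroup (Fin 3) F},
      K.Acts g (RingEquiv.refl F) A → g ∈ S := fun {g A} h =>
    ⟨_, K.rep_of_acts hq (by rw [A.2]; exact one_ne_zero) h⟩
  have hn : K.n ∈ S :=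
    ⟨_, K.rep_of_acts hq (by rw [Matrix.det_fin_three]; simp) K.acts_n⟩
  have hC0 : H.C 0 ≤ S := by
    refine H.C_gen (i := 1) (j := 2) (by decide) (by decide) (by decide)
      ((H.T_le_C 2).trans hC2) (fun x hx => ?_) (fun x hx => ?_)
    · obtain ⟨y, rfl⟩ := K.pc.surj x hx
      exact hsl (K.acts_c y)
    · obtain ⟨y, rfl⟩ := K.pd.surj x hx
      exact hsl (K.acts_d y)
  have hM1 : H.M1 ≤ S := by
    rintro _ ⟨_, ⟨x, hx, y, hy, rfl⟩, c, hc, rfl⟩
    obtain ⟨α, rfl⟩ := K.pa.surj x hx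
    obtain ⟨β, rfl⟩ := K.pb.surj y hy
    exact mul_mem (mul_mem (hsl (K.acts_a α)) (hsl (K.acts_b β))) (hC0 hc)
  have hpt : ∀ x y z, ∃ k ∈ S, K.pt x y z = k • K.e1 := by
    intro x y z
    have h2 : K.e2 = H.w 2 • K.e1 := rfl
    by_cases hz : z = 0
    · subst hz
      by_cases hy : y = 0
      · exact ⟨1, one_mem _, by simp [pt, hy]⟩
      · exact ⟨K.a (x / y) * H.w 2, mul_mem (hsl (K.acts_a _)) (hC2 (H.w_mem 2)), by
          rw [mul_smul, ← h2]; simp [pt, hy]⟩
    · refine ⟨K.pi (x / z, y / z) * K.n * H.w 2,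
        mul_mem (mul_mem (mul_mem (hsl (K.acts_b _)) (hsl (K.acts_c _))) hn) (hC2 (H.w_mem 2)), ?_⟩
      rw [mul_smul, mul_smul, ← h2, K.n_e2]
      simp [pt, hz]
  obtain ⟨x, hx⟩ := (K.toPt_bijective hq).2 (g • K.e1)
  induction x using Projectivization.ind with | _ v hv =>
  obtain ⟨k, hk, hk'⟩ := hpt (v 0) (v 1) (v 2)
  rw [K.toPt_mk, hk'] at hx
  have h1 : k⁻¹ * g ∈ H.M1 := K.smul_e1_eq_iff.1 (by rw [mul_smul, ← hx, inv_smul_smul])
  have := mul_mem hk (hM1 h1)
  rwa [mul_inv_cancel_left] at this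

theorem perm_injective [IsSimpleGroup G] [Fintype F] (hq : Fintype.card F = q) :
    Function.Injective (K.perm hq) := by
  rw [← MonoidHom.ker_eq_bot_iff]
  refine (Subgroup.Normal.eq_bot_or_eq_top inferInstance).resolve_right fun h => ?_
  have h1 : K.perm hq (H.w 2) = 1 := MonoidHom.mem_ker.1 (h ▸ Subgroup.mem_top _)
  obtain ⟨x, hx⟩ := (K.toPt_bijective hq).2 K.e1
  have h2 := K.toPt_perm hq (H.w 2) x
  rw [h1, Equiv.Perm.one_apply, hx] at h2
  exact K.e2_ne h2.symm

end Coord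

/-- A hexagon of root groups in a simple group gives `PSL₃(q)`. -/
theorem exists_iso [IsSimpleGroup G] (H : Hex G p q) :
    ∃ (F : Type) (_ : Field F) (_ : Fintype F), Fintype.card F = q ∧
      Nonempty (G ≃* Matrix.ProjectiveSpecialLinearGroup (Fin 3) F) := by
  classical
  obtain ⟨F, _, _, hq, ⟨K⟩⟩ := H.exists_coord
  refine ⟨F, inferInstance, inferInstance, hq, Semi.exists_mulEquiv H.not_abelian (K.perm hq)
    (K.perm_injective hq) (K.semi_all hq) fun i j h c => ?_⟩
  fin_cases i <;> fin_cases j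
  all_goals first | exact absurd rfl h | skip
  · exact K.toPerm_mem_range hq (K.acts_a c)
  · exact K.toPerm_mem_range hq (K.acts_b c)
  · obtain ⟨g, hg⟩ := K.exists_acts_e hq c
    exact K.toPerm_mem_range hq hg
  · exact K.toPerm_mem_range hq (K.acts_c c)
  · obtain ⟨g, hg⟩ := K.exists_acts_f hq c
    exact K.toPerm_mem_range hq hg
  · exact K.toPerm_mem_range hq (K.acts_d c)

end Hex

end CfsgLib.ABG.Recog
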