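import Cfsg.Agent.ABG.Recog.HexPlane

/-!
# Hexagons of root groups: the monomial element and injectivity of the points
-/

set_option autoImplicit false

namespace CfsgLib.ABG.Recog

namespace Hex

open scoped commutatorElement

universe u

variable {G : Type u} [Group G] [Finite G] {p q : ℕ} (H : Hex G p q)

theorem z_index_of_mem_M1 {g : G} (hg : g ∈ H.M1) {l : Fin 3}
    (h : g * H.z 0 * g⁻¹ = H.z l) : l = 0 := by
  by_contra hl
  obtain ⟨r, hr, c, hc, rfl⟩ := hg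
  have hri := H.row_inv (i := 0) (j := 1) (k := 2) (by decide) (by decide) (by decide) hr
  have h1 : H.z l = r * r * H.z 0 := by
    rw [← h, show r * c * H.z 0 * (r * c)⁻¹ = r * (c * H.z 0 * c⁻¹) * r⁻¹ by group, H.C_comm hc,
      mul_inv_cancel_right]
    have h4 : H.z 0 * r⁻¹ * (H.z 0)⁻¹ = r := by rw [← conj_inv, hri, inv_inv]
    rw [mul_inv_eq_iff_eq_mul] at h4
    rw [mul_assoc r, h4, ← mul_assoc]
  have h2 : r * r ∈ H.T := by
    rw [show r * r = H.z l * (H.z 0)⁻¹ by rw [h1]; group]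
    exact mul_mem (H.z_mem l) (inv_mem (H.z_mem 0))
  have h3 := H.row_inter_C (i := 0) (j := 1) (k := 2) (by decide) (by decide) (by decide)
    (mul_mem hr hr) (H.T_le_C 0 h2)
  rw [h3, one_mul] at h1
  exact H.z_ne hl h1

theorem col_inter_M1 {x y : G} (hx : x ∈ H.E 1 0) (hy : y ∈ H.E 2 0) (hg : x * y ∈ H.M1) :
    x = 1 ∧ y = 1 := by
  have hxy : x * y = y * x := H.comm_col 1 2 0 (by decide) (by decide) (by decide) x hx y hy
  obtain ⟨r, hr, he⟩ := H.mem_para_of_inv (i := 0) (j := 1) (k := 2) (by decide) (by decide)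
    (by decide) hg (by
      rw [conj_mul.symm, H.z_inv_r (i := 1) (j := 0) (by decide) hx,
        H.z_inv_r (i := 2) (j := 0) (by decide) hy, hxy, mul_inv_rev])
  obtain ⟨a, ha, b, hb, rfl⟩ := hr
  have hab : a * b = b * a := H.comm_row 0 1 2 (by decide) (by decide) (by decide) a ha b hb
  rw [Commute.mul_mul_mul_comm hxy.symm x y, Commute.mul_mul_mul_comm hab.symm a b] at he
  have he' : H.z 1 * (x * x * (y * y)) * (H.z 1)⁻¹ = H.z 1 * (a * a * (b * b)) * (H.z 1)⁻¹ := by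
    rw [he]
  simp only [← conj_mul, H.z_inv_l (i := 1) (j := 0) (by decide) hx,
    H.z_inv_r (i := 0) (j := 1) (by decide) ha,
    H.z_fix 2 0 1 (by decide) (by decide) (by decide) y hy,
    H.z_fix 0 2 1 (by decide) (by decide) (by decide) b hb] at he'
  set X := x * x with hX
  set A := a * a with hA
  set Y := y * y with hY
  set B := b * b with hB
  rw [← mul_inv_rev, ← mul_inv_rev, ← hX, ← hA] at he'
  have h1 : Y = X⁻¹ * (A * B) := by rw [← he]; group
  have h2 : X⁻¹ * (X⁻¹ * A) = A⁻¹ := by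
    rw [h1] at he'
    simp only [← mul_assoc, mul_left_inj] at he'
    rw [← mul_assoc]
    exact he'
  have hX1 : X = 1 := by
    have h4 : X⁻¹ * X⁻¹ = A⁻¹ * A⁻¹ := by
      calc X⁻¹ * X⁻¹ = X⁻¹ * (X⁻¹ * A) * A⁻¹ := by group
        _ = A⁻¹ * A⁻¹ := by rw [h2]
    have h5 : X * X = A * A := by
      exact inv_injective (by rw [mul_inv_rev X X, mul_inv_rev A A, h4])
    have h6 := H.inter_opp (i := 1) (j := 0) (by decide) (mul_mem (mul_mem hx hx) (mul_mem hx hx))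
      (show X * X ∈ H.E 0 1 from h5 ▸ mul_mem (mul_mem ha ha) (mul_mem ha ha))
    exact H.eq_one_of_sq (i := 1) (j := 0) (by decide) (mul_mem hx hx) h6
  have hA1 : A = 1 := by
    rw [hX1, inv_one, one_mul, one_mul] at h2
    exact H.eq_one_of_sq (i := 0) (j := 1) (by decide) (mul_mem ha ha)
      (by nth_rw 2 [h2]; exact mul_inv_cancel A)
  rw [hX1, hA1, one_mul, one_mul] at he
  have hY1 : Y = 1 := H.inter_opp (i := 2) (j := 0) (by decide) (mul_mem hy hy)
    (he ▸ mul_mem hb hb)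
  exact ⟨H.eq_one_of_sq (i := 1) (j := 0) (by decide) hx hX1,
    H.eq_one_of_sq (i := 2) (j := 0) (by decide) hy hY1⟩

namespace Coord

variable {H} {F : Type} [Field F] (K : H.Coord F)

theorem zero_of_conj {t : G} (x : F) (hx : t * K.b x * t⁻¹ = 1) : x = 0 :=
  K.pb.eq_one (conj_eq_one_iff.1 hx)

/-- An element of `C 0` which exchanges the two root groups of the row lies in `w 0 * T`. -/
theorem mem_wT {g : G} (hg : g ∈ H.C 0) {s s' : F} (hs : s ≠ 0)
    (ha : g * K.a 1 * g⁻¹ = K.b s) (hb : g * K.b 1 * g⁻¹ = K.a s') :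
    ∃ t ∈ H.T, g = H.w 0 * t := by
  rcases H.bruhat 1 2 0 (by decide) (by decide) (by decide) g hg with
    ⟨x, hx, t, ht, rfl⟩ | ⟨x, hx, y, hy, t, ht, rfl⟩
  · exfalso
    obtain ⟨y, rfl⟩ := K.pc.surj x hx
    obtain ⟨α, hα⟩ := K.pa.surj _ (H.T_norm 0 1 (by decide) t ht _ (K.pa.mem 1))
    rw [show K.c y * t * K.a 1 * (K.c y * t)⁻¹ = K.c y * (t * K.a 1 * t⁻¹) * (K.c y)⁻¹ by group,
      ← hα, K.ca] at ha
    have h1 : K.a α = K.b (s + α * y) := by
      rw [K.pb.add, ← ha, K.pb.neg, mul_assoc, K.ab_comm, inv_mul_cancel_left]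
    have h2 := H.inter_row (i := 0) (j := 1) (k := 2) (by decide) (by decide) (by decide)
      (K.pa.mem α) (h1 ▸ K.pb.mem _)
    rw [h2] at hα
    exact one_ne_zero (K.pa.eq_one (conj_eq_one_iff.1 hα.symm))
  · obtain ⟨c1, rfl⟩ := K.pc.surj x hx
    obtain ⟨c2, rfl⟩ := K.pc.surj y hy
    obtain ⟨α, hα⟩ := K.pa.surj _ (H.T_norm 0 1 (by decide) t ht _ (K.pa.mem 1))
    obtain ⟨β, hβ⟩ := K.pb.surj _ (H.T_norm 0 2 (by decide) t ht _ (K.pb.mem 1))
    have hwa : ∀ x, H.w 0 * K.a x * (H.w 0)⁻¹ ∈ H.E 0 2 := fun x => by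
      have := H.w_E (i := 1) (j := 2) (k := 0) (by decide) (by decide) (by decide) (a := 0) (b := 1)
        (by decide) (K.pa.mem x)
      rwa [Equiv.swap_apply_of_ne_of_ne (by decide) (by decide), Equiv.swap_apply_left] at this
    have hwb : ∀ x, H.w 0 * K.b x * (H.w 0)⁻¹ ∈ H.E 0 1 := fun x => by
      have := H.w_E (i := 1) (j := 2) (k := 0) (by decide) (by decide) (by decide) (a := 0) (b := 2)
        (by decide) (K.pb.mem x)
      rwa [Equiv.swap_apply_of_ne_of_ne (by decide) (by decide), Equiv.swap_apply_right] at this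
    have hc1 : c1 = 0 := by
      obtain ⟨m, hm⟩ := K.pa.surj _ (hwb β)
      rw [show K.c c1 * H.w 0 * K.c c2 * t * K.b 1 * (K.c c1 * H.w 0 * K.c c2 * t)⁻¹ =
        K.c c1 * (H.w 0 * (K.c c2 * (t * K.b 1 * t⁻¹) * (K.c c2)⁻¹) * (H.w 0)⁻¹) * (K.c c1)⁻¹ by
          group, ← hβ, K.cb, ← hm, K.ca] at hb
      obtain ⟨e1, -⟩ := H.row_unique (i := 0) (j := 2) (k := 1) (by decide) (by decide) (by decide)
        (K.pb.mem _) (one_mem _) (K.pa.mem _) (K.pa.mem s') (hb.trans (one_mul _).symm)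
      have h1 := neg_eq_zero.1 (K.pb.eq_one e1)
      refine (mul_eq_zero.1 h1).resolve_left fun hm0 => ?_
      rw [hm0, K.pa.zero] at hm
      rw [K.zero_of_conj _ hm.symm, K.pb.zero] at hβ
      exact one_ne_zero (K.zero_of_conj _ hβ.symm)
    subst hc1
    rw [K.pc.zero, one_mul] at ha hb ⊢
    have hc2 : c2 = 0 := by
      rw [show H.w 0 * K.c c2 * t * K.a 1 * (H.w 0 * K.c c2 * t)⁻¹ =
        H.w 0 * (K.c c2 * (t * K.a 1 * t⁻¹) * (K.c c2)⁻¹) * (H.w 0)⁻¹ by group, ← hα, K.ca,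
        ← conj_mul] at ha
      obtain ⟨e1, -⟩ := H.row_unique (i := 0) (j := 1) (k := 2) (by decide) (by decide) (by decide)
        (hwb _) (one_mem _) (hwa _) (K.pb.mem s) (ha.trans (one_mul _).symm)
      have h1 := neg_eq_zero.1 (K.zero_of_conj _ e1)
      refine (mul_eq_zero.1 h1).resolve_left fun h0 => ?_
      rw [h0, K.pa.zero] at hα
      exact one_ne_zero (K.pa.eq_one (conj_eq_one_iff.1 hα.symm))
    exact ⟨t, ht, by rw [hc2, K.pc.zero, mul_one]⟩

/-- The monomial elements. -/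
def mon (e : F) : G := K.c e * K.d (-e⁻¹) * K.c e

theorem mon_mem (e : F) : K.mon e ∈ H.C 0 :=
  mul_mem (mul_mem (K.c_mem_C e) (K.d_mem_C _)) (K.c_mem_C e)

theorem mon_b {e : F} (he : e ≠ 0) (x : F) : K.mon e * K.b x * (K.mon e)⁻¹ = K.a (x * e⁻¹) := by
  rw [mon, show K.c e * K.d (-e⁻¹) * K.c e * K.b x * (K.c e * K.d (-e⁻¹) * K.c e)⁻¹ =
    K.c e * (K.d (-e⁻¹) * (K.c e * K.b x * (K.c e)⁻¹) * (K.d (-e⁻¹))⁻¹) * (K.c e)⁻¹ by group,
    K.cb, K.db, mul_neg, neg_neg, ← conj_mul, K.ca, K.cb, mul_assoc, K.ab_comm, ← mul_assoc,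
    ← K.pb.add, mul_assoc, inv_mul_cancel₀ he, mul_one, neg_add_cancel, K.pb.zero, one_mul]

theorem mon_a {e : F} (he : e ≠ 0) (x : F) : K.mon e * K.a x * (K.mon e)⁻¹ = K.b (-(x * e)) := by
  rw [mon, show K.c e * K.d (-e⁻¹) * K.c e * K.a x * (K.c e * K.d (-e⁻¹) * K.c e)⁻¹ =
    K.c e * (K.d (-e⁻¹) * (K.c e * K.a x * (K.c e)⁻¹) * (K.d (-e⁻¹))⁻¹) * (K.c e)⁻¹ by group,
    K.ca, ← conj_mul (a := K.b (-(x * e))), K.db, K.da]
  have h1 : -(-(x * e) * -e⁻¹) = -x := by field_simp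
  rw [h1, mul_assoc (K.a (-x)), ← K.ab_comm, ← mul_assoc (K.a (-x)), ← K.pa.add, neg_add_cancel,
    K.pa.zero, one_mul, K.cb]

theorem exists_mon {e : F} (he : e ≠ 0) : ∃ t ∈ H.T, K.mon e = H.w 0 * t :=
  K.mem_wT (K.mon_mem e) (s := -e) (s' := e⁻¹) (neg_ne_zero.2 he)
    (by rw [K.mon_a he, one_mul]) (by rw [K.mon_b he, one_mul])

theorem mon_e2 {e : F} (he : e ≠ 0) : K.mon e • K.e2 = K.e3 := by
  obtain ⟨t, ht, h⟩ := K.exists_mon he
  rw [h, mul_smul, K.T_e2 ht, e3]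

/-- The element `n`. -/
def n : G := K.mon 1

theorem n_e1 : K.n • K.e1 = K.e1 := K.fix_e1 (K.mon_mem 1)

theorem n_e2 : K.n • K.e2 = K.e3 := K.mon_e2 one_ne_zero

theorem n_e3 : K.n • K.e3 = K.e2 := by
  obtain ⟨t, ht, h⟩ := K.exists_mon one_ne_zero
  rw [n, h, e3, smul_smul,
    show H.w 0 * t * H.w 0 = (H.w 0 * t * (H.w 0)⁻¹) * (H.w 0 * H.w 0) by group, mul_smul,
    K.T_e2 (H.w_T 0 ht).2.2, K.T_e2 (H.w_T 0 ht).1]

theorem n_b (x : F) : K.n * K.b x * K.n⁻¹ = K.a x := by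
  rw [n, K.mon_b one_ne_zero, inv_one, mul_one]

theorem n_a (x : F) : K.n * K.a x * K.n⁻¹ = K.b (-x) := by
  rw [n, K.mon_a one_ne_zero, mul_one]

theorem n_c (y : F) : K.n * K.c y * K.n⁻¹ = K.d (-y) := by
  obtain ⟨t, ht, h⟩ := K.exists_mon one_ne_zero
  have hm := H.w_E (i := 1) (j := 2) (k := 0) (by decide) (by decide) (by decide) (a := 1) (b := 2)
    (by decide) (H.T_norm 1 2 (by decide) t ht _ (K.pc.mem y))
  rw [Equiv.swap_apply_left, Equiv.swap_apply_right] at hm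
  obtain ⟨z, hz⟩ := K.pd.surj _ hm
  have e : K.n * K.c y * K.n⁻¹ = K.d z := by rw [hz, n, h]; group
  rw [e]
  congr 1
  have h1 : K.d z * K.b 1 * (K.d z)⁻¹ = K.a y * K.b 1 := by
    rw [← e, show K.b 1 = K.n * K.a (-1) * K.n⁻¹ by rw [K.n_a, neg_neg],
      show K.n * K.c y * K.n⁻¹ * (K.n * K.a (-1) * K.n⁻¹) * (K.n * K.c y * K.n⁻¹)⁻¹ =
        K.n * (K.c y * K.a (-1) * (K.c y)⁻¹) * K.n⁻¹ by group, K.ca, ← conj_mul, K.n_b]
    simp
  rw [K.db] at h1
  have h2 := K.pa.inj (mul_right_cancel h1)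
  rw [one_mul] at h2
  rw [← h2, neg_neg]

theorem d_e2 {y : F} (hy : y ≠ 0) : K.d y • K.e2 = K.c y⁻¹ • K.e3 := by
  set e := -y⁻¹ with he_def
  have he : e ≠ 0 := neg_ne_zero.2 (inv_ne_zero hy)
  have h := K.mon_e2 he
  have hd : -e⁻¹ = y := by rw [he_def, inv_neg, inv_inv, neg_neg]
  rw [mon, hd, mul_smul, mul_smul, ← K.pi_snd e, K.pi_e2, K.pi_snd] at h
  rw [← h, smul_smul, ← K.pc.add, he_def, add_neg_cancel, K.pc.zero, one_smul]

variable [DecidableEq F]

theorem n_act (x y z : F) : K.n • K.pt x y z = K.pt x z (-y) := by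
  by_cases hz : z = 0
  · subst hz
    by_cases hy : y = 0
    · simp [pt, hy, K.n_e1]
    · rw [pt, if_pos rfl, if_neg hy, pt, if_neg (neg_ne_zero.2 hy), smul_smul,
        show K.n * K.a (x / y) = K.n * K.a (x / y) * K.n⁻¹ * K.n by group, K.n_a, mul_smul, K.n_e2]
      simp [pi, K.pc.zero, div_neg]
  · rw [pt, if_neg hz, pi, smul_smul,
      show K.n * (K.b (x / z) * K.c (y / z)) =
        (K.n * K.b (x / z) * K.n⁻¹) * (K.n * K.c (y / z) * K.n⁻¹) * K.n by group,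
      K.n_b, K.n_c, mul_smul, mul_smul, K.n_e3]
    by_cases hy : y = 0
    · simp [pt, hy, hz, K.pd.zero]
    · rw [K.d_e2 (neg_ne_zero.2 (div_ne_zero hy hz)), pt, if_neg (neg_ne_zero.2 hy), smul_smul,
        show K.a (x / z) * K.c (-(y / z))⁻¹ =
          K.a (x / z) * K.c (-(y / z))⁻¹ * (K.a (x / z))⁻¹ * K.a (x / z) by group, K.ac, mul_smul,
        K.fix_e3 (K.a_mem_C _)]
      rw [pi]
      congr 3 <;> field_simp

theorem e2_ne : K.e2 ≠ K.e1 := by
  intro h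
  have hz := H.w_z 0 1 2 (by decide) (by decide) (by decide) 0
  rw [Equiv.swap_apply_left] at hz
  exact absurd (H.z_index_of_mem_M1 (K.smul_e1_eq_iff.1 h) hz) (by decide)

theorem e3_ne : K.e3 ≠ K.e1 := by
  intro h
  rw [e3, e2, smul_smul] at h
  have h2 := H.w_z 0 1 2 (by decide) (by decide) (by decide) 0
  rw [Equiv.swap_apply_left] at h2
  have h0 := H.w_z 1 2 0 (by decide) (by decide) (by decide) 1
  rw [Equiv.swap_apply_left] at h0
  have hz : H.w 0 * H.w 2 * H.z 0 * (H.w 0 * H.w 2)⁻¹ = H.z 2 := by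
    rw [show H.w 0 * H.w 2 * H.z 0 * (H.w 0 * H.w 2)⁻¹ =
      H.w 0 * (H.w 2 * H.z 0 * (H.w 2)⁻¹) * (H.w 0)⁻¹ by group, h2, h0]
  exact absurd (H.z_index_of_mem_M1 (K.smul_e1_eq_iff.1 h) hz) (by decide)

theorem a_e2_eq {α : F} (h : K.a α • K.e2 = K.e2) : α = 0 := by
  rw [e2, smul_smul] at h
  have h1 : (H.w 2)⁻¹ * K.a α * H.w 2 ∈ H.M1 := by
    refine K.smul_e1_eq_iff.1 ?_
    rw [mul_assoc, mul_smul, h, smul_smul, inv_mul_cancel, one_smul]
  have hE := H.w_inv_E (i := 0) (j := 1) (k := 2) (by decide) (by decide) (by decide) (a := 0)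
    (b := 1) (by decide) (K.pa.mem α)
  rw [Equiv.swap_apply_left, Equiv.swap_apply_right] at hE
  have h2 := (H.col_inter_M1 hE (one_mem _) (by rwa [mul_one])).1
  refine K.pa.eq_one ?_
  simpa [mul_assoc, inv_mul_eq_one] using h2

theorem pi_e3_eq {v : F × F} (h : K.pi v • K.e3 = K.e3) : v = 0 := by
  rw [e3, e2, smul_smul, smul_smul] at h
  have h1 : (H.w 0 * H.w 2)⁻¹ * K.pi v * (H.w 0 * H.w 2) ∈ H.M1 := by
    refine K.smul_e1_eq_iff.1 ?_
    rw [mul_assoc, mul_smul, ← mul_assoc (K.pi v), h, smul_smul, smul_smul]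
    simp [mul_assoc]
  have hb := H.w_inv_E (i := 1) (j := 2) (k := 0) (by decide) (by decide) (by decide) (a := 0)
    (b := 2) (by decide) (K.pb.mem v.1)
  rw [Equiv.swap_apply_of_ne_of_ne (by decide) (by decide), Equiv.swap_apply_right] at hb
  have hb' := H.w_inv_E (i := 0) (j := 1) (k := 2) (by decide) (by decide) (by decide) (a := 0)
    (b := 1) (by decide) hb
  rw [Equiv.swap_apply_left, Equiv.swap_apply_right] at hb'
  have hc := H.w_inv_E (i := 1) (j := 2) (k := 0) (by decide) (by decide) (by decide) (a := 1)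
    (b := 2) (by decide) (K.pc.mem v.2)
  rw [Equiv.swap_apply_left, Equiv.swap_apply_right] at hc
  have hc' := H.w_inv_E (i := 0) (j := 1) (k := 2) (by decide) (by decide) (by decide) (a := 2)
    (b := 1) (by decide) hc
  rw [Equiv.swap_apply_of_ne_of_ne (by decide) (by decide), Equiv.swap_apply_right] at hc'
  obtain ⟨e1, e2⟩ := H.col_inter_M1 hb' hc' (by
    rw [pi] at h1
    convert h1 using 1
    group)
  refine Prod.ext (K.pb.eq_one ?_) (K.pc.eq_one ?_)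
  · simpa [mul_assoc, inv_mul_eq_one, mul_eq_one_iff_eq_inv] using e1
  · simpa [mul_assoc, inv_mul_eq_one, mul_eq_one_iff_eq_inv] using e2

theorem pi_e3_ne_inf (v : F × F) {d : F × F} (hd : d ≠ 0) :
    K.pi v • K.e3 ≠ K.pt d.1 d.2 0 := by
  intro h
  obtain ⟨k, hk, r, -, -, hpt⟩ := K.exists_of_inf hd
  rw [← hpt] at h
  obtain ⟨u, hu⟩ := K.exists_pi_conj (inv_mem hk) (-v)
  have h1 : K.e3 = k • K.e1 := by
    have h2 : K.e3 = K.pi (-v) • k • K.e1 := by
      rw [← h, smul_smul, ← K.pi_add, neg_add_cancel, K.pi_zero, one_smul]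
    rw [h2, smul_smul, show K.pi (-v) * k = k * (k⁻¹ * K.pi (-v) * k⁻¹⁻¹) by group, hu, mul_smul,
      K.pi_e1]
  refine K.e3_ne ?_
  calc K.e3 = k⁻¹ • K.e3 := (K.fix_e3 (inv_mem hk)).symm
    _ = K.e1 := by rw [h1, inv_smul_smul]

/-- The points are distinct. -/
theorem pt_inj {x y z x' y' z' : F} (h : ¬(x = 0 ∧ y = 0 ∧ z = 0))
    (h' : ¬(x' = 0 ∧ y' = 0 ∧ z' = 0)) (he : K.pt x y z = K.pt x' y' z') :
    ∃ r : F, x' = r * x ∧ y' = r * y ∧ z' = r * z := by
  by_cases hz : z = 0 <;> by_cases hz' : z' = 0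
  · subst hz hz'
    by_cases hy : y = 0 <;> by_cases hy' : y' = 0
    · subst hy hy'
      have hx : x ≠ 0 := fun h0 => h ⟨h0, rfl, rfl⟩
      exact ⟨x' / x, by field_simp, by simp, by simp⟩
    · exfalso
      subst hy
      simp only [pt, if_pos, if_neg hy'] at he
      exact K.e2_ne (by
        rw [← K.a_e1 (x' / y')] at he
        exact (MulAction.injective _ he).symm)
    · exfalso
      subst hy'
      simp only [pt, if_pos, if_neg hy] at he
      exact K.e2_ne (by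
        rw [← K.a_e1 (x / y)] at he
        exact MulAction.injective _ he)
    · simp only [pt, if_pos, if_neg hy, if_neg hy'] at he
      have h1 : K.a (x / y - x' / y') • K.e2 = K.e2 := by
        rw [sub_eq_neg_add, K.pa.add, mul_smul, he, smul_smul, ← K.pa.add, neg_add_cancel,
          K.pa.zero, one_smul]
      have h2 := sub_eq_zero.1 (K.a_e2_eq h1)
      refine ⟨y' / y, ?_, by field_simp, by simp⟩
      field_simp at h2 ⊢
      linear_combination -h2
  · exfalso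
    subst hz
    have hd : ((x, y) : F × F) ≠ 0 := fun h0 =>
      h ⟨congrArg Prod.fst h0, congrArg Prod.snd h0, rfl⟩
    refine K.pi_e3_ne_inf (x' / z', y' / z') hd ?_
    rw [he]; simp [pt, hz']
  · exfalso
    subst hz'
    have hd : ((x', y') : F × F) ≠ 0 := fun h0 =>
      h' ⟨congrArg Prod.fst h0, congrArg Prod.snd h0, rfl⟩
    refine K.pi_e3_ne_inf (x / z, y / z) hd ?_
    rw [← he]; simp [pt, hz]
  · simp only [pt, if_neg hz, if_neg hz'] at he
    have h1 : K.pi (-(x' / z', y' / z') + (x / z, y / z)) • K.e3 = K.e3 := by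
      rw [K.pi_add, mul_smul, he, smul_smul, ← K.pi_add, neg_add_cancel, K.pi_zero, one_smul]
    have h2 := neg_add_eq_zero.1 (K.pi_e3_eq h1)
    obtain ⟨e1, e2⟩ := Prod.ext_iff.1 h2
    simp only at e1 e2
    refine ⟨z' / z, ?_, ?_, by field_simp⟩
    · field_simp at e1 ⊢
      linear_combination e1
    · field_simp at e2 ⊢
      linear_combination e2

end Coord

end Hex

end CfsgLib.ABG.Recog
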