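import Mathlib.LinearAlgebra.Projectivization.Action
import Mathlib.RingTheory.IntegralDomain
import Mathlib.GroupTheory.Commutator.Basic
import Mathlib.GroupTheory.Abelianization.Defs
import Mathlib.GroupTheory.Subgroup.Simple
import Cfsg.Agent.Classical.Transvections

/-!
# Semilinear permutations of a projective plane

An additive bijection of `F × F` that maps lines to lines is semilinear; a simple non-abelian group
of semilinear permutations of the plane which contains the root elements is `PSL₃`.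
-/

set_option autoImplicit false

namespace CfsgLib.ABG.Recog.Semi

open Matrix LinearAlgebra.Projectivization
open scoped commutatorElement LinearAlgebra.Projectivization

variable {F : Type*} [Field F]

theorem eq_of_smul_add_smul {u w : F × F} (hu : u ≠ 0) (hind : ∀ k : F, w ≠ k • u) {a b a' b' : F}
    (h : a • u + b • w = a' • u + b' • w) : a = a' ∧ b = b' := by
  have h' : (b - b') • w = (a' - a) • u := by
    rw [sub_smul, sub_smul, sub_eq_sub_iff_add_eq_add, add_comm, h]
  have hb : b = b' := by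
    by_contra hne
    refine hind ((b - b')⁻¹ * (a' - a)) ?_
    rw [mul_smul, ← h', inv_smul_smul₀ (sub_ne_zero.2 hne)]
  refine ⟨?_, hb⟩
  rw [hb, sub_self, zero_smul, eq_comm, smul_eq_zero] at h'
  exact (sub_eq_zero.1 (h'.resolve_right hu)).symm

/-- An additive bijection of `F × F` mapping lines to lines is semilinear. -/
theorem exists_ringEquiv_of_lines [Finite F] (f : F × F →+ F × F) (hf : Function.Bijective f)
    (hl : ∀ (v : F × F) (r : F), ∃ s : F, f (r • v) = s • f v) :
    ∃ σ : F ≃+* F, ∀ (r : F) (v : F × F), f (r • v) = σ r • f v := by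
  set u := f (1, 0) with hudef
  set w := f (0, 1) with hwdef
  choose s hs using fun a => hl (1, 0) a
  choose t ht using fun a => hl (0, 1) a
  have hfs : ∀ a b, f (a, b) = s a • u + t b • w := fun a b => by
    rw [← hs, ← ht, ← map_add]; simp
  have hu : u ≠ 0 := fun h => by
    have : ((1 : F), (0 : F)) = 0 := hf.1 (h.trans (map_zero f).symm)
    exact one_ne_zero (congrArg Prod.fst this)
  have hind : ∀ k : F, w ≠ k • u := by
    classical
    intro k hk
    obtain ⟨⟨a, b⟩, hab⟩ := hf.2 (if u.1 = 0 then (1, 0) else (0, 1))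
    rw [hfs, hk, smul_smul, ← add_smul] at hab
    split_ifs at hab with h1
    · have := congrArg Prod.fst hab
      simp [h1] at this
    · have e1 := congrArg Prod.fst hab
      have e2 := congrArg Prod.snd hab
      simp only [Prod.smul_fst, Prod.smul_snd, smul_eq_mul, mul_eq_zero, h1, or_false] at e1 e2
      rw [e1, zero_mul] at e2
      exact zero_ne_one e2
  have hst : ∀ a, s a = t a := by
    intro a
    obtain ⟨r, hr⟩ := hl (1, 1) a
    rw [show a • ((1 : F), (1 : F)) = (a, a) by simp, hfs, hfs 1 1] at hr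
    have h1 : s 1 • u = u := by rw [← hs]; simp [hudef]
    have h2 : t 1 • w = w := by rw [← ht]; simp [hwdef]
    rw [h1, h2, smul_add] at hr
    obtain ⟨e1, e2⟩ := eq_of_smul_add_smul hu hind hr
    rw [e1, e2]
  have huniq : ∀ a b a' b', s a • u + t b • w = a' • u + b' • w → s a = a' ∧ t b = b' :=
    fun a b a' b' h => eq_of_smul_add_smul hu hind h
  have hadd : ∀ a b, s (a + b) = s a + s b := by
    intro a b
    have h : f (a + b, 0) = f (a, 0) + f (b, 0) := by rw [← map_add]; simp
    rw [hfs, hfs, hfs] at h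
    have h0 : t 0 = 0 := by
      have : t 0 • w = (0 : F) • w := by rw [← ht, zero_smul, map_zero, zero_smul]
      exact smul_left_injective F (fun hw => hind 0 (by rw [hw, zero_smul])) this
    rw [h0, zero_smul, add_zero, add_zero, add_zero, ← add_smul] at h
    exact smul_left_injective F hu h
  have hone : s 1 = 1 := by
    apply smul_left_injective F hu
    change s 1 • u = (1 : F) • u
    rw [← hs, one_smul]
    simp [hudef]
  have hmul : ∀ a b, s (a * b) = s a * s b := by
    intro a b
    obtain ⟨k, hk⟩ := hl (a, 1) b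
    rw [show b • ((a : F), (1 : F)) = (b * a, b) by simp, hfs, hfs, smul_add, smul_smul,
      smul_smul] at hk
    obtain ⟨e1, e2⟩ := huniq _ _ _ _ hk
    rw [← hst 1, hone, mul_one, ← hst] at e2
    rw [mul_comm a b, e1, ← e2, mul_comm]
  have h0 : s 0 = 0 := by
    have := hadd 0 0
    simpa using this
  let φ : F →+* F :=
    { toFun := s, map_one' := hone, map_mul' := hmul, map_zero' := h0, map_add' := hadd }
  have hbij : Function.Bijective φ := ⟨φ.injective, Finite.injective_iff_surjective.1 φ.injective⟩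
  refine ⟨RingEquiv.ofBijective φ hbij, fun r v => ?_⟩
  obtain ⟨a, b⟩ := v
  change f (r * a, r * b) = s r • f (a, b)
  rw [hfs, hfs, ← hst, ← hst, hmul, hmul, smul_add, smul_smul, smul_smul]

theorem ringEquiv_comm [Finite F] (σ τ : F ≃+* F) (x : F) : σ (τ x) = τ (σ x) := by
  rcases eq_or_ne x 0 with rfl | hx
  · simp
  obtain ⟨g, hg⟩ := IsCyclic.exists_zpow_surjective (G := Fˣ)
  obtain ⟨a, ha⟩ := hg (Units.map (σ : F →* F) g)
  obtain ⟨b, hb⟩ := hg (Units.map (τ : F →* F) g)
  obtain ⟨n, hn⟩ := hg (Units.mk0 x hx)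
  have h : Units.map (σ : F →* F) (Units.map (τ : F →* F) (Units.mk0 x hx)) =
      Units.map (τ : F →* F) (Units.map (σ : F →* F) (Units.mk0 x hx)) := by
    rw [← hn]
    simp only [map_zpow]
    dsimp only at ha hb hn ⊢
    rw [← hb, map_zpow, ← ha, map_zpow, ← hb]
    simp only [← zpow_mul]
    congr 1
    ring
  exact congrArg Units.val h

/-- The projective plane. -/
abbrev PT (F : Type*) [Field F] := ℙ F (Fin 3 → F)

theorem app_ne_zero (M : GL (Fin 3) F) (σ : F ≃+* F) {v : Fin 3 → F} (hv : v ≠ 0) :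
    (M : Matrix (Fin 3) (Fin 3) F) *ᵥ (fun i => σ (v i)) ≠ 0 := by
  intro h
  apply hv
  have h1 : (fun i => σ (v i)) = 0 := by
    rw [← Matrix.one_mulVec (fun i => σ (v i)), ← Units.inv_mul M, ← Matrix.mulVec_mulVec, h,
      Matrix.mulVec_zero]
  funext i
  exact (map_eq_zero σ).1 (congrFun h1 i)

/-- `f` is induced by a semilinear map with field part `σ`. -/
def Rep (σ : F ≃+* F) (f : Equiv.Perm (PT F)) : Prop :=
  ∃ M : GL (Fin 3) F, ∀ (v : Fin 3 → F) (hv : v ≠ 0),
    f (Projectivization.mk F v hv) = Projectivization.mk F _ (app_ne_zero M σ hv)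

theorem mk_congr {v w : Fin 3 → F} (h : v = w) (hv : v ≠ 0) (hw : w ≠ 0) :
    Projectivization.mk F v hv = Projectivization.mk F w hw := by subst h; rfl

theorem Rep.one : Rep (RingEquiv.refl F) (1 : Equiv.Perm (PT F)) :=
  ⟨1, fun v hv => mk_congr (by simp) _ _⟩

theorem Rep.mul {σ τ : F ≃+* F} {f g : Equiv.Perm (PT F)} (hf : Rep σ f) (hg : Rep τ g) :
    Rep (τ.trans σ) (f * g) := by
  obtain ⟨M, hM⟩ := hf
  obtain ⟨N, hN⟩ := hg
  refine ⟨M * Matrix.GeneralLinearGroup.map (σ : F →+* F) N, fun v hv => ?_⟩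
  rw [Equiv.Perm.mul_apply, hN v hv, hM]
  refine mk_congr ?_ _ _
  rw [Units.val_mul, ← Matrix.mulVec_mulVec]
  congr 1
  funext i
  exact RingHom.map_mulVec (σ : F →+* F) _ _ i

theorem Rep.inv {σ : F ≃+* F} {f : Equiv.Perm (PT F)} (hf : Rep σ f) : Rep σ.symm f⁻¹ := by
  obtain ⟨M, hM⟩ := hf
  refine ⟨Matrix.GeneralLinearGroup.map (σ.symm : F →+* F) M⁻¹, fun v hv => ?_⟩
  rw [Equiv.Perm.inv_def, Equiv.symm_apply_eq, hM]
  refine mk_congr ?_ _ _
  have : (fun i => σ (((Matrix.GeneralLinearGroup.map (σ.symm : F →+* F) M⁻¹ : GL (Fin 3) F) :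
      Matrix (Fin 3) (Fin 3) F).mulVec (fun j => σ.symm (v j)) i)) =
      ((M⁻¹ : GL (Fin 3) F) : Matrix (Fin 3) (Fin 3) F) *ᵥ v := by
    funext i
    have e := RingHom.map_mulVec (σ.symm : F →+* F) ((M⁻¹ : GL (Fin 3) F) : Matrix _ _ F) v i
    change σ _ = _
    rw [← σ.apply_symm_apply ((((M⁻¹ : GL (Fin 3) F) : Matrix _ _ F) *ᵥ v) i)]
    exact congrArg σ e.symm
  rw [this, Matrix.mulVec_mulVec, ← Units.val_mul, mul_inv_cancel, Units.val_one,
    Matrix.one_mulVec]

/-- The linear permutations. -/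
def lin (F : Type*) [Field F] : Subgroup (Equiv.Perm (PT F)) :=
  (MulAction.toPermHom (GL (Fin 3) F) (PT F)).range

/-- The permutations of determinant one. -/
def slin (F : Type*) [Field F] : Subgroup (Equiv.Perm (PT F)) :=
  (MulAction.toPermHom (Matrix.SpecialLinearGroup (Fin 3) F) (PT F)).range

theorem mem_lin_of_rep {σ : F ≃+* F} (hσ : ∀ x, σ x = x) {f : Equiv.Perm (PT F)} (hf : Rep σ f) :
    f ∈ lin F := by
  obtain ⟨M, hM⟩ := hf
  refine ⟨M, Equiv.ext fun x => ?_⟩
  induction x using Projectivization.ind with | _ v hv =>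
  rw [hM, MulAction.toPermHom_apply, MulAction.toPerm_apply, Projectivization.smul_mk]
  refine mk_congr ?_ _ _
  simp only [hσ]
  rfl

theorem commutator_lin_le : ⁅lin F, lin F⁆ ≤ slin F := by
  rw [Subgroup.commutator_le]
  rintro _ ⟨M, rfl⟩ _ ⟨N, rfl⟩
  rw [← map_commutatorElement]
  have hdet : Matrix.det ((⁅M, N⁆ : GL (Fin 3) F) : Matrix (Fin 3) (Fin 3) F) = 1 := by
    have : Matrix.GeneralLinearGroup.det ⁅M, N⁆ = 1 := by
      rw [map_commutatorElement, commutatorElement_eq_one_iff_mul_comm]
      exact mul_comm _ _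
    exact congrArg Units.val this
  refine ⟨⟨_, hdet⟩, Equiv.ext fun x => ?_⟩
  induction x using Projectivization.ind with | _ v hv =>
  let g : Matrix.SpecialLinearGroup (Fin 3) F := ⟨_, hdet⟩
  change g • Projectivization.mk F v hv = (⁅M, N⁆ : GL (Fin 3) F) • Projectivization.mk F v hv
  rw [Projectivization.smul_mk, Projectivization.smul_mk]
  exact mk_congr rfl _ _

/-- A faithful semilinear action of a simple non-abelian group containing all root elements. -/
theorem exists_mulEquiv {G : Type*} [Group G] [IsSimpleGroup G] [Finite F]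
    (hna : ∃ a b : G, a * b ≠ b * a) (φ : G →* Equiv.Perm (PT F)) (hφ : Function.Injective φ)
    (hs : ∀ g, ∃ σ, Rep σ (φ g))
    (ht : ∀ (i j : Fin 3) (h : i ≠ j) (c : F),
      MulAction.toPerm (Matrix.SpecialLinearGroup.transvection h c) ∈ φ.range) :
    Nonempty (G ≃* Matrix.ProjectiveSpecialLinearGroup (Fin 3) F) := by
  have hperf : commutator G = ⊤ := by
    refine (Subgroup.Normal.eq_bot_or_eq_top inferInstance).resolve_left fun h => ?_
    obtain ⟨a, b, hab⟩ := hna
    have hm : ⁅a, b⁆ ∈ commutator G :=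
      Subgroup.commutator_mem_commutator (Subgroup.mem_top a) (Subgroup.mem_top b)
    rw [h, Subgroup.mem_bot, commutatorElement_eq_one_iff_mul_comm] at hm
    exact hab hm
  have h1 : φ.range ≤ lin F := by
    rw [MonoidHom.range_eq_map, ← hperf, Subgroup.map_le_iff_le_comap, commutator_def,
      Subgroup.commutator_le]
    intro a _ b _
    obtain ⟨σ, hσ⟩ := hs a
    obtain ⟨τ, hτ⟩ := hs b
    rw [Subgroup.mem_comap, map_commutatorElement, commutatorElement_def]
    refine mem_lin_of_rep (fun x => ?_) (((hσ.mul hτ).mul hσ.inv).mul hτ.inv)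
    simp only [RingEquiv.trans_apply]
    rw [ringEquiv_comm σ τ, σ.apply_symm_apply, τ.apply_symm_apply]
  have h2 : φ.range ≤ slin F := by
    refine le_trans ?_ (commutator_lin_le (F := F))
    conv_lhs => rw [MonoidHom.range_eq_map, ← hperf, commutator_def, Subgroup.map_commutator,
      ← MonoidHom.range_eq_map]
    exact Subgroup.commutator_mono h1 h1
  have h3 : slin F ≤ φ.range := by
    rintro _ ⟨g, rfl⟩
    refine CfsgLib.Linear.transvection_induction
      (fun g => MulAction.toPermHom (Matrix.SpecialLinearGroup (Fin 3) F) (PT F) g ∈ φ.range)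
      ht (fun A B hA hB => ?_) g
    rw [map_mul]
    exact mul_mem hA hB
  have heq : φ.range = (Projectivization.PSLAction.toPermHom (K := F) (ι := Fin 3)).range := by
    rw [le_antisymm h2 h3]
    ext x
    constructor
    · rintro ⟨g, rfl⟩
      exact ⟨g, rfl⟩
    · rintro ⟨g, rfl⟩
      obtain ⟨g', rfl⟩ := QuotientGroup.mk_surjective g
      exact ⟨g', rfl⟩
  exact ⟨(MonoidHom.ofInjective hφ).trans ((MulEquiv.subgroupCongr heq).trans
    (MonoidHom.ofInjective
      Matrix.ProjectiveSpecialLinearGroup.toPermHom_injective).symm)⟩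

end CfsgLib.ABG.Recog.Semi
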