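import Cfsg.Agent.ABG.Recog.HexCoords
import Cfsg.Agent.ABG.Recog.HexSemi
import Mathlib.GroupTheory.GroupAction.Quotient

/-!
# Hexagons of root groups: the projective plane on the cosets of the parabolic subgroup
-/

set_option autoImplicit false

namespace CfsgLib.ABG.Recog

namespace Hex

open scoped commutatorElement
open Matrix

universe u

variable {G : Type u} [Group G] [Finite G] {p q : ℕ} (H : Hex G p q)

abbrev M1 : Subgroup G :=
  H.para (i := 0) (j := 1) (k := 2) (by decide) (by decide) (by decide)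

namespace Coord

variable {H} {F : Type} [Field F] (K : H.Coord F)

/-- The column group in coordinates. -/
def pi (v : F × F) : G := K.b v.1 * K.c v.2

theorem bc_comm (x y : F) : K.b x * K.c y = K.c y * K.b x :=
  H.comm_col 0 1 2 (by decide) (by decide) (by decide) _ (K.pb.mem x) _ (K.pc.mem y)

theorem ab_comm (x y : F) : K.a x * K.b y = K.b y * K.a x :=
  H.comm_row 0 1 2 (by decide) (by decide) (by decide) _ (K.pa.mem x) _ (K.pb.mem y)

theorem ad_comm (x y : F) : K.a x * K.d y = K.d y * K.a x :=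
  H.comm_col 0 2 1 (by decide) (by decide) (by decide) _ (K.pa.mem x) _ (K.pd.mem y)

theorem pi_add (v w : F × F) : K.pi (v + w) = K.pi v * K.pi w := by
  simp only [pi, Prod.fst_add, Prod.snd_add, K.pb.add, K.pc.add]
  exact Commute.mul_mul_mul_comm (K.bc_comm w.1 v.2) _ _

theorem pi_zero : K.pi 0 = 1 := by simp [pi, K.pb.zero, K.pc.zero]

theorem pi_fst (x : F) : K.pi (x, 0) = K.b x := by simp [pi, K.pc.zero]

theorem pi_snd (y : F) : K.pi (0, y) = K.c y := by simp [pi, K.pb.zero]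

theorem pi_inj : Function.Injective K.pi := by
  intro v w h
  have h1 : (K.b w.1)⁻¹ * K.b v.1 = K.c w.2 * (K.c v.2)⁻¹ := by
    rw [inv_mul_eq_iff_eq_mul, ← mul_assoc, eq_mul_inv_iff_mul_eq]
    exact h
  have h2 := inv_mul_eq_one.1 (H.inter_col (i := 0) (j := 1) (k := 2) (by decide) (by decide)
    (by decide) (mul_mem (inv_mem (K.pb.mem _)) (K.pb.mem _))
    (h1 ▸ mul_mem (K.pc.mem _) (inv_mem (K.pc.mem _))))
  refine Prod.ext (K.pb.inj h2.symm) ?_
  rw [pi, pi, ← h2] at h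
  exact K.pc.inj (mul_left_cancel h)

theorem ac (x y : F) : K.a x * K.c y * (K.a x)⁻¹ = K.b (x * y) * K.c y := by
  rw [← K.rel_c, commutatorElement_def]; group

theorem ca (x y : F) : K.c y * K.a x * (K.c y)⁻¹ = K.b (-(x * y)) * K.a x := by
  rw [K.pb.neg, ← K.rel_c, commutatorElement_def]; group

theorem cb (x y : F) : K.c y * K.b x * (K.c y)⁻¹ = K.b x := by
  rw [← K.bc_comm, mul_inv_cancel_right]

theorem ab (x y : F) : K.a x * K.b y * (K.a x)⁻¹ = K.b y := by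
  rw [K.ab_comm, mul_inv_cancel_right]

theorem da (x y : F) : K.d y * K.a x * (K.d y)⁻¹ = K.a x := by
  rw [← K.ad_comm, mul_inv_cancel_right]

theorem db (x y : F) : K.d y * K.b x * (K.d y)⁻¹ = K.a (-(x * y)) * K.b x := by
  rw [K.pa.neg, ← K.rel_d, commutatorElement_def]; group

theorem a_mem_C (x : F) : K.a x ∈ H.C 2 :=
  H.E_le 0 1 2 (by decide) (by decide) (by decide) (K.pa.mem x)

theorem c_mem_C (x : F) : K.c x ∈ H.C 0 :=
  H.E_le 1 2 0 (by decide) (by decide) (by decide) (K.pc.mem x)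

theorem d_mem_C (x : F) : K.d x ∈ H.C 0 :=
  H.E_le 2 1 0 (by decide) (by decide) (by decide) (K.pd.mem x)

theorem exists_pi_conj {g : G} (hg : g ∈ H.C 2) (v : F × F) :
    ∃ w, g * K.pi v * g⁻¹ = K.pi w := by
  obtain ⟨x, hx, y, hy, he⟩ := H.transp.row_norm (i := 2) (j := 0) (k := 1) (by decide) (by decide)
    (by decide) hg (r := K.pi v) ⟨_, K.pb.mem v.1, _, K.pc.mem v.2, rfl⟩
  obtain ⟨x', rfl⟩ := K.pb.surj x hx
  obtain ⟨y', rfl⟩ := K.pc.surj y hy
  exact ⟨(x', y'), he⟩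

/-- The image of the point `(1,0)` at infinity under `C 2`. -/
theorem conj_b_cases {g : G} (hg : g ∈ H.C 2) :
    (∃ α, ∃ t ∈ H.T, g = K.a α * t ∧ ∀ r, ∃ s, g * K.b r * g⁻¹ = K.pi (s, 0)) ∨
    ∃ α β, ∃ t ∈ H.T, g = K.a α * H.w 2 * K.a β * t ∧
      ∀ r, ∃ s, g * K.b r * g⁻¹ = K.pi (α * s, s) := by
  rcases H.bruhat 0 1 2 (by decide) (by decide) (by decide) g hg with
    ⟨x, hx, t, ht, rfl⟩ | ⟨x, hx, y, hy, t, ht, rfl⟩
  · obtain ⟨α, rfl⟩ := K.pa.surj x hx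
    refine Or.inl ⟨α, t, ht, rfl, fun r => ?_⟩
    obtain ⟨s, hs⟩ := K.pb.surj _ (H.T_norm 0 2 (by decide) t ht _ (K.pb.mem r))
    exact ⟨s, by rw [K.pi_fst, show K.a α * t * K.b r * (K.a α * t)⁻¹ =
      K.a α * (t * K.b r * t⁻¹) * (K.a α)⁻¹ by group, ← hs, K.ab]⟩
  · obtain ⟨α, rfl⟩ := K.pa.surj x hx
    obtain ⟨β, rfl⟩ := K.pa.surj y hy
    refine Or.inr ⟨α, β, t, ht, rfl, fun r => ?_⟩
    obtain ⟨s', hs'⟩ := K.pb.surj _ (H.T_norm 0 2 (by decide) t ht _ (K.pb.mem r))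
    have hw := H.w_E (i := 0) (j := 1) (k := 2) (by decide) (by decide) (by decide)
      (a := 0) (b := 2) (by decide) (K.pb.mem s')
    rw [Equiv.swap_apply_left, Equiv.swap_apply_of_ne_of_ne (by decide) (by decide)] at hw
    obtain ⟨s, hs⟩ := K.pc.surj _ hw
    refine ⟨s, ?_⟩
    rw [show K.a α * H.w 2 * K.a β * t * K.b r * (K.a α * H.w 2 * K.a β * t)⁻¹ =
      K.a α * (H.w 2 * (K.a β * (t * K.b r * t⁻¹) * (K.a β)⁻¹) * (H.w 2)⁻¹) * (K.a α)⁻¹ by group,
      ← hs', K.ab, ← hs, K.ac]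
    rfl

theorem exists_line {g : G} (hg : g ∈ H.C 2) :
    ∃ d : F × F, ∀ r, ∃ s : F, g * K.b r * g⁻¹ = K.pi (s • d) := by
  rcases K.conj_b_cases hg with ⟨α, t, _, _, h⟩ | ⟨α, β, t, _, _, h⟩
  · exact ⟨(1, 0), fun r => by obtain ⟨s, hs⟩ := h r; exact ⟨s, by simpa using hs⟩⟩
  · exact ⟨(α, 1), fun r => by obtain ⟨s, hs⟩ := h r; exact ⟨s, by simpa [mul_comm] using hs⟩⟩

/-- Every line of the column group comes from `E 0 2`. -/
theorem exists_h (v : F × F) :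
    ∃ h ∈ H.C 2, ∀ r : F, ∃ r', K.pi (r • v) = h * K.b r' * h⁻¹ := by
  obtain ⟨x, y⟩ := v
  by_cases hy : y = 0
  · subst hy
    exact ⟨1, one_mem _, fun r => ⟨r * x, by simp [pi, K.pc.zero]⟩⟩
  · refine ⟨K.a (x / y) * H.w 2, mul_mem (K.a_mem_C _) (H.w_mem 2), fun r => ?_⟩
    have hw := H.w_inv_E (i := 0) (j := 1) (k := 2) (by decide) (by decide) (by decide)
      (a := 1) (b := 2) (by decide) (K.pc.mem (r * y))
    rw [Equiv.swap_apply_right, Equiv.swap_apply_of_ne_of_ne (by decide) (by decide)] at hw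
    obtain ⟨r', hr'⟩ := K.pb.surj _ hw
    refine ⟨r', ?_⟩
    rw [show K.a (x / y) * H.w 2 * K.b r' * (K.a (x / y) * H.w 2)⁻¹ =
      K.a (x / y) * (H.w 2 * K.b r' * (H.w 2)⁻¹) * (K.a (x / y))⁻¹ by group, hr',
      show H.w 2 * ((H.w 2)⁻¹ * K.c (r * y) * H.w 2) * (H.w 2)⁻¹ = K.c (r * y) by group, K.ac]
    simp only [pi, Prod.smul_mk, smul_eq_mul]
    congr 2
    field_simp

/-- `C 2` acts semilinearly on the column group. -/
theorem exists_semi [Finite F] {g : G} (hg : g ∈ H.C 2) :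
    ∃ (σ : F ≃+* F) (u w : F × F), u.1 * w.2 - w.1 * u.2 ≠ 0 ∧
      ∀ v : F × F, g * K.pi v * g⁻¹ = K.pi (σ v.1 • u + σ v.2 • w) := by
  choose f hf using K.exists_pi_conj hg
  have hadd : ∀ v w, f (v + w) = f v + f w := fun v w => K.pi_inj <| by
    rw [← hf, K.pi_add, K.pi_add, ← hf, ← hf]; group
  let f' : F × F →+ F × F := AddMonoidHom.mk' f hadd
  have hinj : Function.Injective f' := fun v w h => K.pi_inj <| by
    have h1 := hf v
    rw [show f v = f w from h, ← hf w] at h1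
    exact mul_left_cancel (mul_right_cancel h1)
  have hbij : Function.Bijective f' := ⟨hinj, Finite.injective_iff_surjective.1 hinj⟩
  obtain ⟨σ, hσ⟩ := Semi.exists_ringEquiv_of_lines f' hbij (fun v r => by
    obtain ⟨h, hh, hr⟩ := K.exists_h v
    obtain ⟨d, hd⟩ := K.exists_line (mul_mem hg hh)
    have key : ∀ r, ∃ s : F, f (r • v) = s • d := fun r => by
      obtain ⟨r', hr'⟩ := hr r
      obtain ⟨s, hs⟩ := hd r'
      exact ⟨s, K.pi_inj (by rw [← hs, ← hf, hr']; group)⟩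
    obtain ⟨s, hs⟩ := key r
    obtain ⟨s1, hs1⟩ := key 1
    rw [one_smul] at hs1
    by_cases h1 : s1 = 0
    · rw [h1, zero_smul] at hs1
      have hv : v = 0 := hinj (hs1.trans (map_zero f').symm)
      exact ⟨0, by rw [hv, smul_zero, map_zero, zero_smul]⟩
    · refine ⟨s / s1, ?_⟩
      change f (r • v) = (s / s1) • f v
      rw [hs, hs1, smul_smul, div_mul_cancel₀ _ h1])
  have hval : ∀ v : F × F, f' v = σ v.1 • f' (1, 0) + σ v.2 • f' (0, 1) := fun v => by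
    rw [← hσ, ← hσ, ← map_add]
    simp
  refine ⟨σ, f' (1, 0), f' (0, 1), fun hdet => ?_, fun v => by rw [hf, ← hval]; rfl⟩
  set u := f' (1, 0) with hu
  set w := f' (0, 1) with hw
  have hu0 : u ≠ 0 := fun h => by
    have : ((1 : F), (0 : F)) = 0 := hinj (h.trans (map_zero f').symm)
    exact one_ne_zero (congrArg Prod.fst this)
  obtain ⟨k, hk⟩ : ∃ k : F, w = k • u := by
    by_cases h1 : u.1 = 0
    · have h2 : u.2 ≠ 0 := fun h2 => hu0 (Prod.ext h1 h2)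
      refine ⟨w.2 / u.2, Prod.ext ?_ ?_⟩
      · rw [h1, zero_mul, zero_sub, neg_eq_zero, mul_eq_zero] at hdet
        simp [h1, hdet.resolve_right h2]
      · simp [div_mul_cancel₀ _ h2]
    · refine ⟨w.1 / u.1, Prod.ext ?_ ?_⟩
      · simp [div_mul_cancel₀ _ h1]
      · rw [sub_eq_zero] at hdet
        rw [Prod.smul_snd, smul_eq_mul, div_mul_eq_mul_div, ← hdet, mul_div_assoc, mul_div_cancel₀]
        exact h1
  have h3 : f' (0, 1) = f' (σ.symm k, 0) := by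
    rw [← hw, hk, hval (σ.symm k, 0)]
    simp [hu]
  exact one_ne_zero (congrArg Prod.snd (hinj h3))

/-! ### The points -/

/-- The first point. -/
def e1 (_K : H.Coord F) : G ⧸ H.M1 := QuotientGroup.mk 1

/-- The second point. -/
def e2 : G ⧸ H.M1 := H.w 2 • K.e1

/-- The third point. -/
def e3 : G ⧸ H.M1 := H.w 0 • K.e2

theorem smul_e1_eq_iff {g : G} : g • K.e1 = K.e1 ↔ g ∈ H.M1 := by
  rw [e1, MulAction.Quotient.smul_mk, smul_eq_mul, mul_one, eq_comm, QuotientGroup.eq, inv_one,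
    one_mul]

theorem fix_e1 {g : G} (hg : g ∈ H.C 0) : g • K.e1 = K.e1 :=
  K.smul_e1_eq_iff.2 ⟨1, one_mem _, g, hg, (one_mul g).symm⟩

theorem row_fix_e1 {g : G}
    (hg : g ∈ H.row 0 1 2 (by decide) (by decide) (by decide)) : g • K.e1 = K.e1 :=
  K.smul_e1_eq_iff.2 ⟨g, hg, 1, one_mem _, (mul_one g).symm⟩

theorem a_e1 (x : F) : K.a x • K.e1 = K.e1 :=
  K.row_fix_e1 (H.mem_row_l _ _ _ (K.pa.mem x))

theorem b_e1 (x : F) : K.b x • K.e1 = K.e1 :=
  K.row_fix_e1 (H.mem_row_r _ _ _ (K.pb.mem x))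

theorem pi_e1 (v : F × F) : K.pi v • K.e1 = K.e1 := by
  rw [pi, mul_smul, K.fix_e1 (K.c_mem_C _), K.b_e1]

theorem fix_e2 {g : G} (hg : g ∈ H.C 1) : g • K.e2 = K.e2 := by
  have h := H.w_C (i := 0) (j := 1) (m := 2) (by decide) (by decide) (by decide) 1 hg
  rw [Equiv.swap_apply_right] at h
  calc g • K.e2 = (H.w 2 * ((H.w 2)⁻¹ * g * H.w 2)) • K.e1 := by
        rw [e2, smul_smul]; congr 1; group
    _ = K.e2 := by rw [mul_smul, K.fix_e1 h, e2]

theorem T_e1 {t : G} (ht : t ∈ H.T) : t • K.e1 = K.e1 := K.fix_e1 (H.T_le_C 0 ht)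

theorem T_e2 {t : G} (ht : t ∈ H.T) : t • K.e2 = K.e2 := K.fix_e2 (H.T_le_C 1 ht)

theorem pi_e2 (v : F × F) : K.pi v • K.e2 = K.e2 := by
  have hb : K.b v.1 • K.e2 = K.e2 :=
    K.fix_e2 (H.E_le 0 2 1 (by decide) (by decide) (by decide) (K.pb.mem _))
  have hc' := H.w_inv_E (i := 0) (j := 1) (k := 2) (by decide) (by decide) (by decide)
      (a := 1) (b := 2) (by decide) (K.pc.mem v.2)
  rw [Equiv.swap_apply_right, Equiv.swap_apply_of_ne_of_ne (by decide) (by decide)] at hc'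
  obtain ⟨s, hs⟩ := K.pb.surj _ hc'
  have hc : K.c v.2 • K.e2 = K.e2 := by
    calc K.c v.2 • K.e2 = (H.w 2 * ((H.w 2)⁻¹ * K.c v.2 * H.w 2)) • K.e1 := by
          rw [e2, smul_smul]; congr 1; group
      _ = K.e2 := by rw [mul_smul, ← hs, K.b_e1, e2]
  rw [pi, mul_smul, hc, hb]

theorem fix_e3 {g : G} (hg : g ∈ H.C 2) : g • K.e3 = K.e3 := by
  have h := H.w_C (i := 1) (j := 2) (m := 0) (by decide) (by decide) (by decide) 2 hg
  rw [Equiv.swap_apply_right] at h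
  calc g • K.e3 = (H.w 0 * ((H.w 0)⁻¹ * g * H.w 0)) • K.e2 := by
        rw [e3, smul_smul]; congr 1; group
    _ = K.e3 := by rw [mul_smul, K.fix_e2 h, e3]

variable [DecidableEq F]

/-- The point with homogeneous coordinates `(x, y, z)`. -/
def pt (x y z : F) : G ⧸ H.M1 :=
  if z = 0 then (if y = 0 then K.e1 else K.a (x / y) • K.e2) else K.pi (x / z, y / z) • K.e3

theorem pt_smul {r : F} (hr : r ≠ 0) (x y z : F) :
    K.pt (r * x) (r * y) (r * z) = K.pt x y z := by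
  simp only [pt, mul_eq_zero, hr, false_or, mul_div_mul_left _ _ hr]

theorem pt_aff (x y : F) : K.pt x y 1 = K.pi (x, y) • K.e3 := by simp [pt]

theorem pt_inf (x : F) : K.pt x 1 0 = K.a x • K.e2 := by simp [pt]

theorem pt_base {x : F} : K.pt x 0 0 = K.e1 := by simp [pt]

theorem pt_of_line {g : G} (hg : g ∈ H.C 2) {r : F} (hr : r ≠ 0) {d : F × F}
    (h : g * K.b r * g⁻¹ = K.pi d) : g • K.e1 = K.pt d.1 d.2 0 := by
  have hd : d ≠ 0 := by
    rintro rfl
    rw [K.pi_zero, conj_eq_one_iff] at h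
    exact hr (K.pb.eq_one h)
  rcases K.conj_b_cases hg with ⟨α, t, ht, rfl, hs⟩ | ⟨α, β, t, ht, rfl, hs⟩
  · obtain ⟨s, hs⟩ := hs r
    obtain rfl := K.pi_inj (h.symm.trans hs)
    rw [mul_smul, K.T_e1 ht, K.a_e1, pt_base]
  · obtain ⟨s, hs⟩ := hs r
    obtain rfl := K.pi_inj (h.symm.trans hs)
    have hs0 : s ≠ 0 := by
      rintro rfl
      exact hd (by simp)
    rw [mul_smul, mul_smul, mul_smul, K.T_e1 ht, K.a_e1, ← e2]
    simp [pt, hs0]

theorem exists_of_inf {d : F × F} (hd : d ≠ 0) :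
    ∃ h ∈ H.C 2, ∃ r : F, r ≠ 0 ∧ h * K.b r * h⁻¹ = K.pi d ∧ h • K.e1 = K.pt d.1 d.2 0 := by
  obtain ⟨h, hh, hr⟩ := K.exists_h d
  obtain ⟨r, hr⟩ := hr 1
  rw [one_smul] at hr
  have hr0 : r ≠ 0 := by
    rintro rfl
    rw [K.pb.zero, mul_one, mul_inv_cancel] at hr
    exact hd (K.pi_inj (hr.trans K.pi_zero.symm))
  exact ⟨h, hh, r, hr0, hr.symm, K.pt_of_line hh hr0 hr.symm⟩

/-! ### The actions -/

theorem pi_act (v : F × F) (x y z : F) :
    K.pi v • K.pt x y z = K.pt (x + v.1 * z) (y + v.2 * z) z := by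
  by_cases hz : z = 0
  · subst hz
    simp only [mul_zero, add_zero]
    rw [pt, if_pos rfl]
    split_ifs
    · exact K.pi_e1 v
    · obtain ⟨w, hw⟩ := K.exists_pi_conj (inv_mem (K.a_mem_C (x / y))) v
      rw [smul_smul, show K.pi v * K.a (x / y) = K.a (x / y) * ((K.a (x / y))⁻¹ * K.pi v *
        ((K.a (x / y))⁻¹)⁻¹) by group, hw, mul_smul, K.pi_e2]
  · simp only [pt, if_neg hz, smul_smul, ← K.pi_add]
    congr 2
    refine Prod.ext ?_ ?_ <;> simp only [Prod.fst_add, Prod.snd_add] <;> field_simp <;> ring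

theorem C2_act {g : G} (hg : g ∈ H.C 2) {σ : F ≃+* F} {u w : F × F}
    (h : ∀ v : F × F, g * K.pi v * g⁻¹ = K.pi (σ v.1 • u + σ v.2 • w)) {x y z : F}
    (hne : ¬(x = 0 ∧ y = 0 ∧ z = 0)) :
    g • K.pt x y z =
      K.pt (σ x * u.1 + σ y * w.1) (σ x * u.2 + σ y * w.2) (σ z) := by
  by_cases hz : z = 0
  · subst hz
    have hd : ((x, y) : F × F) ≠ 0 := fun h0 =>
      hne ⟨congrArg Prod.fst h0, congrArg Prod.snd h0, rfl⟩
    obtain ⟨k, hk, r, hr, hconj, hpt⟩ := K.exists_of_inf hd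
    rw [← hpt, smul_smul, map_zero]
    refine K.pt_of_line (d := (σ x * u.1 + σ y * w.1, σ x * u.2 + σ y * w.2)) (mul_mem hg hk) hr ?_
    rw [show g * k * K.b r * (g * k)⁻¹ = g * (k * K.b r * k⁻¹) * g⁻¹ by group, hconj, h]
    rfl
  · have hσz : σ z ≠ 0 := fun h0 => hz ((map_eq_zero σ).1 h0)
    simp only [pt, if_neg hz, if_neg hσz]
    rw [smul_smul, show g * K.pi (x / z, y / z) = g * K.pi (x / z, y / z) * g⁻¹ * g by group, h,
      mul_smul, K.fix_e3 hg]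
    congr 2
    refine Prod.ext ?_ ?_ <;>
      simp only [Prod.fst_add, Prod.snd_add, Prod.smul_fst, Prod.smul_snd, smul_eq_mul, map_div₀] <;>
      field_simp <;> ring

end Coord

end Hex

end CfsgLib.ABG.Recog
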