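import Cfsg.Agent.ABG.Recog.RootsDef
import Cfsg.Agent.ABG.Recog.FieldPart
import Cfsg.Agent.Criterion.TypePair
import Cfsg.Agent.Solvable.Basics
import Cfsg.Agent.SL2C.Table

/-!
# Alperin-Brauer-Gorenstein, recognition half: the centraliser of a root group

In the linear type the centraliser of a root group has a cyclic Sylow 2-subgroup and so an odd
normal complement `X`; the normaliser of the root group shows that a Sylow p-subgroup of `X` is
larger than the root group.
-/

set_option autoImplicit false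
set_option linter.unusedSectionVars false

namespace CfsgLib.ABG.Recog.Loc

open Matrix Subgroup CfsgLib.SL2C CfsgLib.AutPSL

universe u

variable {G : Type u} [Group G] {F : Type} [Field F] [Fintype F] (D : Loc G F)

theorem card_baseRoot : Nat.card D.baseRoot = Fintype.card F := by
  have hinj : Function.Injective (D.e.comp upHom) := fun a b h =>
    Multiplicative.toAdd.injective (up_inj (D.e_inj h))
  exact (Nat.card_congr (MonoidHom.ofInjective hinj).toEquiv).symm.trans
    (by rw [Nat.card_eq_fintype_card]; exact Fintype.card_congr Multiplicative.toAdd)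

theorem baseRoot_le : D.baseRoot ≤ D.C := fun x hx => by
  obtain ⟨b, rfl⟩ := D.mem_baseRoot.1 hx
  exact D.e_mem _

theorem baseRoot_comm {x y : G} (hx : x ∈ D.baseRoot) (hy : y ∈ D.baseRoot) : x * y = y * x := by
  obtain ⟨a, rfl⟩ := D.mem_baseRoot.1 hx
  obtain ⟨b, rfl⟩ := D.mem_baseRoot.1 hy
  rw [← map_mul, ← map_mul, up_add, up_add, add_comm]

theorem z_comm_baseRoot {x : G} (hx : x ∈ D.baseRoot) : D.z * x = x * D.z :=
  (D.mem_C.1 (D.baseRoot_le hx)).symm

/-- The centraliser of the component. -/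
abbrev cenL : Subgroup G := Subgroup.centralizer (D.L : Set G)

theorem mem_cenL {y : G} : y ∈ D.cenL ↔ ∀ x, y * D.e x = D.e x * y := by
  rw [mem_centralizer_iff]
  exact ⟨fun h x => (h _ ⟨x, rfl⟩).symm, by rintro h _ ⟨x, rfl⟩; exact (h x).symm⟩

theorem cenL_le_C : D.cenL ≤ D.C := fun y hy => D.mem_C.2 (by rw [← D.e_neg]; exact D.mem_cenL.1 hy _)

theorem baseRoot_inf_cenL {b : F} (h : D.e (up b) ∈ D.cenL) : b = 0 := by
  have h1 := D.mem_cenL.1 h (low 1)
  rw [← map_mul, ← map_mul] at h1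
  have h00 := congrFun (congrFun (congrArg SL2C.mt (D.e_inj h1)) 0) 0
  rw [mt_mul, mt_mul] at h00
  simpa [up, low, Matrix.mul_apply, Fin.sum_univ_two] using h00

variable {D} (hM : D.M = dM)
include hM

theorem baseRoot_inf_T {b : F} (h : D.e (CfsgLib.ABG.Recog.up b) ∈ D.T) : b = 0 := by
  have h1 := z₁_up hM b
  rw [conj_of_comm (D.mem_T.1 h).2.symm] at h1
  have h2 := up_inj (D.e_inj h1)
  have : (2 : F) * b = 0 := by linear_combination h2
  exact (mul_eq_zero.1 this).resolve_left (two_ne_zero_of_odd D.odd_q)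

theorem cenL_le_T : D.cenL ≤ D.T := fun _ hy => mem_T_of_cen hM (D.mem_cenL.1 hy)

theorem T_norm_baseRoot : D.T ≤ normalizer (D.baseRoot : Set G) := by
  have key : ∀ t ∈ D.T, ∀ x ∈ D.baseRoot, t * x * t⁻¹ ∈ D.baseRoot := by
    intro t ht x hx
    obtain ⟨b, rfl⟩ := D.mem_baseRoot.1 hx
    obtain ⟨a, σ, ha⟩ := exists_acts hM ht
    exact D.mem_baseRoot.2 ⟨_, ha.up b⟩
  intro t ht
  refine mem_normalizer_iff.2 fun x => ⟨key t ht x, fun hx => ?_⟩
  have := key t⁻¹ (inv_mem ht) _ hx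
  rwa [inv_inv, show t⁻¹ * (t * x * t⁻¹) * t = x by group] at this

/-- The elements of `C` normalising the root group. -/
theorem norm_baseRoot_inf_C {c : G} (hc : c ∈ D.C) (hn : ∀ x ∈ D.baseRoot, c * x * c⁻¹ ∈ D.baseRoot) :
    ∃ b, ∃ t ∈ D.T, c = D.e (CfsgLib.ABG.Recog.up b) * t := by
  obtain ⟨x, t, ht, rfl⟩ := D.exists_decomp hc
  obtain ⟨a, σ, ha⟩ := exists_acts hM ht
  obtain ⟨d, hd⟩ := D.mem_baseRoot.1 (hn _ (D.mem_baseRoot.2 ⟨σ.symm ((a⁻¹ : Fˣ) : F), rfl⟩))
  have he : D.e x * t * D.e (CfsgLib.ABG.Recog.up (σ.symm ((a⁻¹ : Fˣ) : F))) * (D.e x * t)⁻¹ =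
      D.e (x * CfsgLib.ABG.Recog.up 1 * x⁻¹) := by
    rw [map_mul, map_mul, map_inv]
    calc _ = D.e x * (t * D.e (CfsgLib.ABG.Recog.up (σ.symm ((a⁻¹ : Fˣ) : F))) * t⁻¹) * (D.e x)⁻¹ := by group
      _ = _ := by rw [ha.up, RingEquiv.apply_symm_apply, Units.mul_inv]
  have h1 := mul_inv_eq_iff_eq_mul.1 (D.e_inj (he.symm.trans hd))
  have h10 := congrFun (congrFun (congrArg SL2C.mt h1) 1) 1
  rw [mt_mul, mt_mul] at h10
  simp [CfsgLib.ABG.Recog.up, Matrix.mul_apply, Fin.sum_univ_two] at h10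
  obtain ⟨α, β, rfl⟩ := exists_bor_of_apply h10
  have hb : bor α β = CfsgLib.ABG.Recog.up (β * α) * dg α := mt_injective (by
    rw [mt_mul, mt_bor, mt_dg]
    ext i j; fin_cases i <;> fin_cases j <;> simp [CfsgLib.ABG.Recog.up, Matrix.mul_apply, Fin.sum_univ_two])
  exact ⟨_, _, mul_mem (dg_mem_T hM α) ht, by rw [hb, map_mul, mul_assoc]⟩

/-- The elements of `C` centralising the root group. -/
theorem cen_baseRoot_inf_C {c : G} (hc : c ∈ D.C) (hn : ∀ x ∈ D.baseRoot, c * x = x * c) :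
    ∃ b, ∃ y ∈ D.cenL, c = D.e (CfsgLib.ABG.Recog.up b) * y := by
  obtain ⟨b, t, ht, rfl⟩ := norm_baseRoot_inf_C hM hc fun x hx => by rwa [hn x hx, mul_inv_cancel_right]
  refine ⟨b, t, D.mem_cenL.2 ((cen_up_iff hM ht).1 fun d => ?_), rfl⟩
  have := hn _ (D.mem_baseRoot.2 ⟨d, rfl⟩)
  rw [← mul_assoc (D.e (CfsgLib.ABG.Recog.up d)), D.baseRoot_comm (D.mem_baseRoot.2 ⟨d, rfl⟩)
    (D.mem_baseRoot.2 ⟨b, rfl⟩), mul_assoc, mul_assoc] at this
  exact mul_left_cancel this

theorem lin_card_C : Nat.card D.C = Fintype.card F * (Fintype.card F + 1) * Nat.card D.T := by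
  classical
  have hdec : D.L ⊔ D.T = D.C := le_antisymm (sup_le D.e_le D.T_le) fun c hc => by
    obtain ⟨x, t, ht, rfl⟩ := D.exists_decomp hc
    exact mul_mem_sup ⟨x, rfl⟩ ht
  have hTn : D.T ≤ normalizer (D.L : Set G) := fun t ht => by
    refine mem_normalizer_iff.2 fun y => ⟨?_, fun hy => ?_⟩
    · rintro ⟨x, rfl⟩
      exact D.e_normal t (D.T_le ht) x
    · obtain ⟨x, hx⟩ := hy
      have := D.e_normal t⁻¹ (inv_mem (D.T_le ht)) x
      rwa [hx, inv_inv, show t⁻¹ * (t * y * t⁻¹) * t = y by group] at this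
  have hinf : D.T ⊓ D.L = (splitTorus F).map D.e := by
    refine le_antisymm ?_ ?_
    · rintro _ ⟨ht, x, rfl⟩
      refine mem_map_of_mem _ (mem_splitTorus.2 ?_)
      have h := D.z₁_act x
      rw [conj_of_comm (D.mem_T.1 ht).2.symm, hM] at h
      have hm : SL2C.mt x = SL2C.mt (semiSL dM (RingEquiv.refl F) x) := congrArg SL2C.mt (D.e_inj h)
      rw [dM_conj] at hm
      have h2 := two_ne_zero_of_odd D.odd_q
      have h01 : SL2C.mt x 0 1 = -SL2C.mt x 0 1 := by simpa using congrFun (congrFun hm 0) 1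
      have h10 : SL2C.mt x 1 0 = -SL2C.mt x 1 0 := by simpa using congrFun (congrFun hm 1) 0
      exact ⟨(mul_eq_zero.1 (show (2 : F) * SL2C.mt x 0 1 = 0 by linear_combination h01)).resolve_left h2,
        (mul_eq_zero.1 (show (2 : F) * SL2C.mt x 1 0 = 0 by linear_combination h10)).resolve_left h2⟩
    · rintro _ ⟨x, ⟨a, rfl⟩, rfl⟩
      exact ⟨dg_mem_T hM a, ⟨_, rfl⟩⟩
  have h := CfsgLib.Solvable.card_sup_mul_card_inf hTn
  rw [sup_comm, hdec, hinf, card_map_of_injective D.e_inj, card_splitTorus,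
    ← Nat.card_congr (MonoidHom.ofInjective D.e_inj).toEquiv, Nat.card_eq_fintype_card (α := SL F)] at h
  have hq : 2 ≤ Fintype.card F := Fintype.one_lt_card
  have hSL : Fintype.card (SL F) = Fintype.card F * (Fintype.card F + 1) * (Fintype.card F - 1) := by
    rw [← Nat.card_eq_fintype_card, CfsgLib.SL2C.card_SL2_mul]
    zify [show 1 ≤ Fintype.card F by omega, show 1 ≤ Fintype.card F ^ 2 from Nat.one_le_pow _ _ (by omega)]
    ring
  rw [hSL] at h
  refine Nat.eq_of_mul_eq_mul_right (show 0 < Fintype.card F - 1 by omega) ?_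
  rw [h]; ring

theorem lin_card_G [Finite G] (hl : D.IsLinear) : Nat.card G =
    Fintype.card F ^ 3 * (Fintype.card F + 1) * Nat.card D.T * (Fintype.card F ^ 2 + Fintype.card F + 1) := by
  have h := D.card_linear hl
  rw [show Nat.card (Subgroup.centralizer ({D.z} : Set G)) = _ from lin_card_C hM] at h
  refine Nat.eq_of_mul_eq_mul_right (show 0 < Nat.card D.T ^ 2 * (Fintype.card F + 1) ^ 2 from
    Nat.mul_pos (pow_pos Nat.card_pos 2) (pow_pos (Nat.succ_pos _) 2)) ?_
  rw [← mul_assoc, h]; ring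

omit hM in
theorem isLinear_of_dM (h : D.M = dM) : D.IsLinear := by
  refine ⟨1, ?_⟩
  rw [h, coe_dM, det_fin_two_of]
  ring

variable [Finite G] [IsSimpleGroup G]

/-- The centraliser of the root group has cyclic Sylow 2-subgroups. -/
theorem exists_complement :
    ∃ X : Subgroup G, Odd (Nat.card X) ∧ X ≤ Subgroup.centralizer (D.baseRoot : Set G) ∧
      (∀ c ∈ Subgroup.centralizer (D.baseRoot : Set G), Odd (orderOf c) → c ∈ X) ∧
      (∀ c ∈ normalizer (D.baseRoot : Set G), c ∈ normalizer (X : Set G)) ∧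
      ∀ i ∈ Subgroup.centralizer (D.baseRoot : Set G), orderOf i = 2 →
        ∃ c ∈ Subgroup.centralizer (D.baseRoot : Set G), c * D.z * c⁻¹ = i := by
  classical
  haveI : Fact (Nat.Prime 2) := ⟨Nat.prime_two⟩
  set K := Subgroup.centralizer (D.baseRoot : Set G) with hK
  have hzK : D.z ∈ K := mem_centralizer_iff.2 fun x hx => (D.z_comm_baseRoot hx).symm
  have hzp : IsPGroup 2 (zpowers (⟨D.z, hzK⟩ : K)) := IsPGroup.of_card (n := 1) (by
    rw [Nat.card_zpowers, orderOf_mk, D.order_z, pow_one])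
  obtain ⟨S, hS⟩ := hzp.exists_le_sylow
  have hzS : (⟨D.z, hzK⟩ : K) ∈ (S : Subgroup K) := hS (mem_zpowers _)
  have hz_ne : Nat.card (S : Subgroup K) ≠ 1 := fun e => by
    rw [card_eq_one] at e
    rw [e, mem_bot] at hzS
    exact Invol.ne_one D.order_z (congrArg Subtype.val hzS)
  obtain ⟨ρ, h0, h1⟩ := D.exists_rho
  -- the central involution of `S` is `z`
  have hS_le : ∀ s : (S : Subgroup K), ((s : K) : G) ∈ D.C := by
    haveI : Nontrivial (S : Subgroup K) := Finite.one_lt_card_iff_nontrivial.1 (by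
      have := Nat.card_pos (α := (S : Subgroup K)); omega)
    haveI := S.2.center_nontrivial
    obtain ⟨n, hn⟩ := IsPGroup.iff_card.1 (S.2.to_subgroup (center (S : Subgroup K)))
    have hn0 : n ≠ 0 := fun e => by
      have := Finite.one_lt_card (α := center (S : Subgroup K))
      rw [hn, e, pow_zero] at this
      omega
    obtain ⟨v, hv⟩ := exists_prime_orderOf_dvd_card' 2 (by rw [hn]; exact dvd_pow_self 2 hn0 :
      2 ∣ Nat.card (center (S : Subgroup K)))
    obtain ⟨u, hu⟩ : ∃ u, u = (((v : (S : Subgroup K)) : K) : G) := ⟨_, rfl⟩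
    have hu2 : orderOf u = 2 := by rw [hu, orderOf_coe, orderOf_coe, orderOf_coe, hv]
    have huC : u ∈ D.C := D.mem_C.2 (by
      rw [hu]
      exact congrArg (fun x : (S : Subgroup K) => ((x : K) : G))
        (mem_center_iff.1 v.2 ⟨_, hzS⟩).symm)
    have huK : u ∈ K := hu ▸ ((v : (S : Subgroup K)) : K).2
    obtain ⟨b, y, hy, e⟩ := cen_baseRoot_inf_C hM huC fun x hx => (mem_centralizer_iff.1 huK x hx).symm
    have hyb : D.e (CfsgLib.ABG.Recog.up b) * y = y * D.e (CfsgLib.ABG.Recog.up b) := (D.mem_cenL.1 hy _).symm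
    have hsq : D.e (CfsgLib.ABG.Recog.up (b + b)) * (y * y) = 1 := by
      rw [← up_add, map_mul, ← Invol.mul_self_eq_one hu2, e]
      calc D.e (CfsgLib.ABG.Recog.up b) * D.e (CfsgLib.ABG.Recog.up b) * (y * y)
          = D.e (CfsgLib.ABG.Recog.up b) * (D.e (CfsgLib.ABG.Recog.up b) * y) * y := by group
        _ = D.e (CfsgLib.ABG.Recog.up b) * (y * D.e (CfsgLib.ABG.Recog.up b)) * y := by rw [hyb]
        _ = _ := by group
    have hbb : b + b = 0 := D.baseRoot_inf_cenL (by
      rw [eq_inv_of_mul_eq_one_left hsq]; exact inv_mem (mul_mem hy hy))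
    have hb : b = 0 := (mul_eq_zero.1 (show (2 : F) * b = 0 by linear_combination hbb)).resolve_left
      (two_ne_zero_of_odd D.odd_q)
    rw [hb, up_zero, map_one, one_mul] at e
    have huz : u = D.z := D.invol_cen_eq huC hu2 fun x => D.mem_cenL.1 (e ▸ hy) x
    intro s
    refine D.mem_C.2 ?_
    rw [← huz, hu]
    exact congrArg (fun x : (S : Subgroup K) => ((x : K) : G)) (mem_center_iff.1 v.2 s)
  have hdec : ∀ s : (S : Subgroup K), ∃ b, ∃ y ∈ D.cenL, ((s : K) : G) = D.e (CfsgLib.ABG.Recog.up b) * y :=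
    fun s => cen_baseRoot_inf_C hM (hS_le s) fun x hx => (mem_centralizer_iff.1 (s : K).2 x hx).symm
  choose B Y hY hBY using hdec
  have huniq : ∀ b b' y y', y ∈ D.cenL → y' ∈ D.cenL →
      D.e (CfsgLib.ABG.Recog.up b) * y = D.e (CfsgLib.ABG.Recog.up b') * y' → b = b' ∧ y = y' := by
    intro b b' y y' hy hy' e
    have h2 : b = b' := sub_eq_zero.1 (D.baseRoot_inf_cenL (by
      rw [show D.e (CfsgLib.ABG.Recog.up (b - b')) = y' * y⁻¹ from ?_]
      · exact mul_mem hy' (inv_mem hy)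
      · rw [sub_eq_neg_add, ← up_add, map_mul, ← up_inv, map_inv, eq_mul_inv_iff_mul_eq, mul_assoc, e,
          inv_mul_cancel_left]))
    exact ⟨h2, by rw [h2] at e; exact mul_left_cancel e⟩
  let π : (S : Subgroup K) →* D.cenL := MonoidHom.mk' (fun s => ⟨Y s, hY s⟩) fun s t => Subtype.ext (by
    refine (huniq (B (s * t)) (B s + B t) _ _ (hY _) (mul_mem (hY s) (hY t)) ?_).2
    rw [← hBY]
    show ((s : K) : G) * ((t : K) : G) = _
    rw [hBY, hBY, ← up_add, map_mul]
    calc D.e (CfsgLib.ABG.Recog.up (B s)) * Y s * (D.e (CfsgLib.ABG.Recog.up (B t)) * Y t)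
        = D.e (CfsgLib.ABG.Recog.up (B s)) * (Y s * D.e (CfsgLib.ABG.Recog.up (B t))) * Y t := by group
      _ = _ := by rw [D.mem_cenL.1 (hY s)]; group)
  haveI hcyc : IsCyclic (S : Subgroup K) := by
    haveI := (cen_L hM h0 h1).1
    refine isCyclic_of_injective π ((injective_iff_map_eq_one π).2 fun s hs => ?_)
    have hY1 : Y s = 1 := congrArg Subtype.val hs
    obtain ⟨k, hk⟩ := S.2 s
    have e : ((s : K) : G) = D.e (CfsgLib.ABG.Recog.up (B s)) := by rw [hBY, hY1, mul_one]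
    have h2 : CfsgLib.ABG.Recog.up (B s) ^ (2 ^ k) = 1 := D.e_inj (by
      rw [map_pow, map_one, ← e]
      exact congrArg (fun x : (S : Subgroup K) => ((x : K) : G)) hk)
    rw [up_pow, ← up_zero] at h2
    have hb := (mul_eq_zero.1 (up_inj h2)).resolve_left (by
      push_cast; exact pow_ne_zero _ (two_ne_zero_of_odd D.odd_q))
    refine Subtype.ext (Subtype.ext ?_)
    rw [e, hb, up_zero, map_one]
    rfl
  have hmin : (Nat.card K).minFac = 2 := (Nat.minFac_eq_two_iff _).2 (by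
    rw [← D.order_z, ← orderOf_mk D.z hzK]; exact orderOf_dvd_natCard _)
  obtain ⟨N, hNn, hNodd, hNS⟩ := CfsgLib.Criterion.exists_normal_complement S
    (IsCyclic.normalizer_le_centralizer hmin hcyc)
  have hXK : N.map K.subtype ≤ K := map_subtype_le _
  have hmemX : ∀ c ∈ K, Odd (orderOf c) → c ∈ N.map K.subtype := by
    intro c hc hodd
    obtain ⟨n, hn, s, hs, e⟩ := hNS ⟨c, hc⟩
    obtain ⟨k, hk⟩ := S.2 ⟨s, hs⟩
    have hq1 : (QuotientGroup.mk' N) ⟨c, hc⟩ ^ (2 ^ k) = 1 := by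
      rw [← e, map_mul, QuotientGroup.mk'_apply N n, (QuotientGroup.eq_one_iff n).2 hn, one_mul, ← map_pow]
      have : s ^ (2 ^ k) = 1 := congrArg Subtype.val hk
      rw [this, map_one]
    have hd1 : orderOf ((QuotientGroup.mk' N) ⟨c, hc⟩) ∣ orderOf c := by
      rw [← orderOf_mk c hc]; exact orderOf_map_dvd _ _
    have h1' := Nat.eq_one_of_dvd_coprimes ((Nat.coprime_two_right.2 hodd).pow_right k) hd1
      (orderOf_dvd_of_pow_eq_one hq1)
    exact ⟨⟨c, hc⟩, (QuotientGroup.eq_one_iff _).1 (orderOf_eq_one_iff.1 h1'), rfl⟩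
  have hXodd : Odd (Nat.card (N.map K.subtype)) := by rwa [card_map_of_injective K.subtype_injective]
  refine ⟨N.map K.subtype, hXodd, hXK, hmemX, ?_, ?_⟩
  · have key : ∀ c ∈ normalizer (D.baseRoot : Set G), ∀ x ∈ N.map K.subtype, c * x * c⁻¹ ∈ N.map K.subtype := by
      intro c hc x hx
      refine hmemX _ (mem_centralizer_iff.2 fun e he => ?_) ?_
      · have hy : c⁻¹ * e * c ∈ D.baseRoot := by
          simpa using (mem_normalizer_iff.1 (inv_mem hc) e).1 he
        have hcm := mem_centralizer_iff.1 (hXK hx) _ hy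
        calc e * (c * x * c⁻¹) = c * ((c⁻¹ * e * c) * x) * c⁻¹ := by group
          _ = c * (x * (c⁻¹ * e * c)) * c⁻¹ := by rw [hcm]
          _ = c * x * c⁻¹ * e := by group
      · rw [Invol.orderOf_conj_eq]
        exact hXodd.of_dvd_nat (orderOf_mk x hx ▸ orderOf_dvd_natCard _)
    intro c hc
    refine mem_normalizer_iff.2 fun x => ⟨key c hc x, fun hx => ?_⟩
    have := key c⁻¹ (inv_mem hc) _ hx
    rwa [inv_inv, show c⁻¹ * (c * x * c⁻¹) * c = x by group] at this
  · intro i hi hi2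
    have hip : IsPGroup 2 (zpowers (⟨i, hi⟩ : K)) := IsPGroup.of_card (n := 1) (by
      rw [Nat.card_zpowers, orderOf_mk, hi2, pow_one])
    obtain ⟨S', hS'⟩ := hip.exists_le_sylow
    obtain ⟨k, hk⟩ := MulAction.exists_smul_eq K S S'
    have hmem : k⁻¹ * ⟨i, hi⟩ * k ∈ (S : Subgroup K) := by
      have h := hS' (mem_zpowers (⟨i, hi⟩ : K))
      rw [← hk, Sylow.coe_subgroup_smul, Subgroup.mem_pointwise_smul_iff_inv_smul_mem] at h
      simpa using h
    have huni : ∀ a b : (S : Subgroup K), orderOf a = 2 → orderOf b = 2 → a = b := by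
      intro a b ha hb
      classical
      haveI := Fintype.ofFinite (S : Subgroup K)
      by_contra hne
      have hle := IsCyclic.card_pow_eq_one_le (α := (S : Subgroup K)) (n := 2) two_pos
      have hsub : ({1, a, b} : Finset (S : Subgroup K)) ⊆ Finset.univ.filter fun x => x ^ 2 = 1 := by
        intro x hx
        simp only [Finset.mem_insert, Finset.mem_singleton] at hx
        rcases hx with rfl | rfl | rfl
        · simp
        · simp [← ha, pow_orderOf_eq_one]
        · simp [← hb, pow_orderOf_eq_one]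
      have h4 := (Finset.card_le_card hsub).trans hle
      rw [Finset.card_insert_of_notMem (by simp [(Invol.ne_one ha).symm, (Invol.ne_one hb).symm]),
        Finset.card_pair hne] at h4
      omega
    have e := huni ⟨_, hzS⟩ ⟨_, hmem⟩ (by rw [orderOf_mk, orderOf_mk, D.order_z]) (by
      rw [orderOf_mk, show k⁻¹ * (⟨i, hi⟩ : K) * k = k⁻¹ * ⟨i, hi⟩ * k⁻¹⁻¹ by group, Invol.orderOf_conj_eq,
        orderOf_mk, hi2])
    refine ⟨k, k.2, ?_⟩
    have e' := congrArg (fun x : (S : Subgroup K) => ((x : K) : G)) e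
    simp only [Subgroup.coe_mul, Subgroup.coe_inv] at e'
    rw [e']; group

end CfsgLib.ABG.Recog.Loc
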