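import Cfsg.Agent.ABG.Recog.LinRel
import Cfsg.Agent.ABG.Recog.DiagInv
import Mathlib.GroupTheory.PGroup
import Mathlib.Data.ZMod.Basic

/-!
# Alperin-Brauer-Gorenstein, recognition half: the root groups of a row commute only with more

If `root 0 1` commutes with `root 0 2` and with no other of the four root groups at the other two
involutions, the group they generate has a normaliser with too small a p-part.
-/

set_option autoImplicit false
set_option linter.unusedSectionVars false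

namespace CfsgLib.ABG.Recog

open Matrix Subgroup CfsgLib.SL2C CfsgLib.AutPSL

universe u

/-- An involution on a finite set with an even number of points fixes an even number. -/
theorem even_filter_fixed {α : Type*} [DecidableEq α] (s : Finset α) (f : α → α)
    (hs : ∀ a ∈ s, f a ∈ s) (hf : ∀ a ∈ s, f (f a) = a) (heven : (s.card : ZMod 2) = 0) :
    ((s.filter fun a => f a = a).card : ZMod 2) = 0 := by
  have h0 : ∑ _a ∈ s.filter (fun a => ¬ f a = a), (1 : ZMod 2) = 0 := by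
    refine Finset.sum_involution (fun a _ => f a) (fun _ _ => by decide) (fun a ha _ => ?_)
      (fun a ha => ?_) (fun a ha => hf a (Finset.mem_filter.1 ha).1)
    · exact (Finset.mem_filter.1 ha).2
    · obtain ⟨h1, h2⟩ := Finset.mem_filter.1 ha
      exact Finset.mem_filter.2 ⟨hs a h1, fun e => h2 (by rw [hf a h1] at e; exact e.symm)⟩
  have h := Finset.card_filter_add_card_filter_not (s := s) (fun a => f a = a)
  rw [← h, Nat.cast_add] at heven
  simp only [Finset.sum_const, nsmul_eq_mul, mul_one] at h0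
  rwa [h0, add_zero] at heven

variable {G : Type u} [Group G]

/-- A subgroup of even order normalised by two commuting involutions has an involution centralised
by both. -/
theorem exists_fixed_invol [Finite G] {K : Subgroup G} (hK : Even (Nat.card K)) {u v : G}
    (hu : u * u = 1) (hv : v * v = 1) (huv : u * v = v * u) (hnu : ∀ x ∈ K, u * x * u⁻¹ ∈ K)
    (hnv : ∀ x ∈ K, v * x * v⁻¹ ∈ K) :
    ∃ i ∈ K, orderOf i = 2 ∧ u * i = i * u ∧ v * i = i * v := by
  classical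
  haveI := Fintype.ofFinite G
  obtain ⟨s0, hs0⟩ : ∃ s, s = Finset.univ.filter fun x : G => x ∈ K := ⟨_, rfl⟩
  have h0 : (s0.card : ZMod 2) = 0 := by
    have : s0.card = Nat.card K := by
      rw [hs0, Nat.card_eq_fintype_card, Fintype.card_subtype]
    rw [this, ZMod.natCast_eq_zero_iff_even]
    exact hK
  have h1 := even_filter_fixed s0 (·⁻¹) (fun a ha => by
      simp only [hs0, Finset.mem_filter, Finset.mem_univ, true_and] at ha ⊢; exact inv_mem ha)
    (fun a _ => inv_inv a) h0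
  have hcc : ∀ {w : G}, w * w = 1 → ∀ a, w * (w * a * w⁻¹) * w⁻¹ = a := fun {w} hw a => by
    rw [show w * (w * a * w⁻¹) * w⁻¹ = (w * w) * a * (w * w)⁻¹ by group, hw, one_mul, inv_one, mul_one]
  obtain ⟨s1, hs1⟩ : ∃ s, s = s0.filter fun a => a⁻¹ = a := ⟨_, rfl⟩
  rw [← hs1] at h1
  have hm1 : ∀ {a}, a ∈ s1 ↔ a ∈ K ∧ a⁻¹ = a := fun {a} => by simp [hs1, hs0]
  have hconj : ∀ {w : G}, (∀ x ∈ K, w * x * w⁻¹ ∈ K) → ∀ a ∈ s1, w * a * w⁻¹ ∈ s1 := fun {w} hw a ha => by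
    obtain ⟨ha1, ha2⟩ := hm1.1 ha
    exact hm1.2 ⟨hw a ha1, by rw [conj_inv, ha2]⟩
  have h2 := even_filter_fixed s1 (fun a => u * a * u⁻¹) (hconj hnu) (fun a _ => hcc hu a) h1
  have h3 := even_filter_fixed (s1.filter fun a => u * a * u⁻¹ = a) (fun a => v * a * v⁻¹)
    (fun a ha => by
      obtain ⟨ha1, ha2⟩ := Finset.mem_filter.1 ha
      refine Finset.mem_filter.2 ⟨hconj hnv a ha1, ?_⟩
      calc u * (v * a * v⁻¹) * u⁻¹ = (u * v) * a * (u * v)⁻¹ := by group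
        _ = v * (u * a * u⁻¹) * v⁻¹ := by rw [huv]; group
        _ = _ := by rw [ha2])
    (fun a _ => hcc hv a) h2
  obtain ⟨s3, hs3⟩ : ∃ s, s = (s1.filter fun a => u * a * u⁻¹ = a).filter fun a => v * a * v⁻¹ = a := ⟨_, rfl⟩
  rw [← hs3] at h3
  have hone : (1 : G) ∈ s3 := by simp [hs3, hm1, one_mem]
  have hc : 1 < s3.card := by
    rcases Nat.lt_or_ge 1 s3.card with h | h
    · exact h
    · exfalso
      have : s3.card = 1 := le_antisymm h (Finset.card_pos.2 ⟨1, hone⟩)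
      rw [this, Nat.cast_one] at h3
      exact one_ne_zero h3
  obtain ⟨i, hi, hi1⟩ := Finset.exists_mem_ne hc 1
  simp only [hs3, Finset.mem_filter, hm1] at hi
  obtain ⟨⟨⟨hiK, hii⟩, hiu⟩, hiv⟩ := hi
  exact ⟨i, hiK, orderOf_eq_prime (by rw [pow_two]; nth_rw 1 [← hii]; exact inv_mul_cancel i) hi1,
    comm_of_conj hiu, comm_of_conj hiv⟩

namespace Loc

variable {F : Type} [Field F] [Fintype F] {D : Loc G F} [Finite G] [IsSimpleGroup G] (hM : D.M = dM)
  {p : ℕ} [hp : Fact p.Prime] [CharP F p]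
include hM

/-- The part of the root group fixed by a non-trivial p-subgroup of the torus is small. -/
theorem fixed_small {P : Subgroup G} (hPT : P ≤ D.T) (hP : IsPGroup p P) (hne : P ≠ ⊥)
    {W : Subgroup G} (hW : W ≤ D.baseRoot) (hc : ∀ x ∈ W, ∀ t ∈ P, t * x = x * t) :
    ∃ q0 : ℕ, 2 ≤ q0 ∧ Fintype.card F = q0 ^ Nat.card P ∧ Nat.card P < q0 ^ (Nat.card P - 1) ∧
      Nat.card W ≤ q0 := by
  classical
  haveI : Finite (RingAut F) := Finite.of_injective (fun τ : F ≃+* F => (τ : F → F)) DFunLike.coe_injective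
  let φ : P →* RingAut F := D.fieldC.comp (Subgroup.inclusion (hPT.trans D.T_le))
  have hinj : Function.Injective φ := (injective_iff_map_eq_one φ).2 fun t ht => by
    obtain ⟨k, hk⟩ := hP t
    exact Subtype.ext (eq_one_of_fieldC hM (hPT t.2) ht (k := k) (congrArg Subtype.val hk))
  have hcard : Nat.card φ.range = Nat.card P := (Nat.card_congr (MonoidHom.ofInjective hinj).toEquiv).symm
  have hrne : φ.range ≠ ⊥ := fun e => hne (card_eq_one.1 (by rw [← hcard, e, card_bot]))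
  have hrange : φ.range = (P.subgroupOf D.C).map D.fieldC := by
    ext σ
    constructor
    · rintro ⟨x, rfl⟩; exact ⟨⟨x, D.T_le (hPT x.2)⟩, x.2, rfl⟩
    · rintro ⟨x, hx, rfl⟩; exact ⟨⟨x, hx⟩, rfl⟩
  obtain ⟨q0, hq0, hq, hlt, hq0'⟩ := fix_bound φ.range (hrange ▸ D.map_fieldC_odd _) hrne
  rw [hcard] at hq hlt
  refine ⟨q0, hq0, hq, hlt, ?_⟩
  choose β hβ using fun x : W => D.mem_baseRoot.1 (hW x.2)
  have hrel : ∀ t : P, ∃ a : Fˣ, ∀ x : W, (a : F) * φ t (β x) = β x := by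
    intro t
    obtain ⟨a, σ, ha⟩ := exists_acts hM (hPT t.2)
    refine ⟨a, fun x => ?_⟩
    rw [show φ t = σ from D.fieldC_eq (D.T_le (hPT t.2)) ha]
    exact up_inj (D.e_inj (by rw [← ha.up, ← hβ, hc x x.2 t t.2, mul_inv_cancel_right]))
  by_cases h0 : ∀ x, β x = 0
  · have : W = ⊥ := eq_bot_iff.2 fun x hx => by
      rw [mem_bot]
      have := hβ ⟨x, hx⟩
      rw [h0, up_zero, map_one] at this
      exact this
    rw [this, card_bot]; omega
  push Not at h0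
  obtain ⟨x0, hx0⟩ := h0
  let g : W → FixedPoints.subfield φ.range F := fun x => ⟨β x / β x0, fun m => by
    obtain ⟨σ, y, rfl⟩ := m
    obtain ⟨a, ha⟩ := hrel y
    show φ y (β x / β x0) = _
    rw [map_div₀]
    conv_rhs => rw [← ha x, ← ha x0, mul_div_mul_left _ _ a.ne_zero]⟩
  rw [hq0']
  refine Nat.card_le_card_of_injective g fun x x' h => Subtype.ext ?_
  rw [hβ, hβ, (div_left_inj' hx0).1 (congrArg Subtype.val h)]

omit [CharP F p] hp in
theorem eq_one_of_sq_root {i j : Fin 3} (h : i ≠ j) {x : G} (hx : x ∈ D.root i j) (h2 : x * x = 1) :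
    x = 1 := by
  obtain ⟨pi, pj⟩ := D.perm_spec hM h
  obtain ⟨b, rfl⟩ := (D.mem_root hM h pi pj).1 hx
  rw [conj_mul, conj_eq_one_iff, ← map_mul, up_add] at h2
  have hb : b + b = 0 := up_inj (D.e_inj (h2.trans (by rw [up_zero, map_one])))
  rw [(mul_eq_zero.1 (show (2 : F) * b = 0 by linear_combination hb)).resolve_left
    (two_ne_zero_of_odd D.odd_q), up_zero, map_one]
  group

/-- Facts on the group generated by the two root groups of a row. -/
theorem row_data (hrow : D.Rel 0 1 0 2) :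
    ∃ A : Subgroup G, D.root 0 1 ≤ A ∧ D.root 0 2 ≤ A ∧
      (∀ x ∈ A, ∃ a ∈ D.root 0 1, ∃ b ∈ D.root 0 2, x = a * b) ∧
      (∀ x ∈ A, ∀ y ∈ A, x * y = y * x) ∧ Nat.card A = Fintype.card F * Fintype.card F ∧
      (∀ x ∈ A, D.zz 0 * x * (D.zz 0)⁻¹ = x⁻¹) ∧ (∀ t ∈ D.T, ∀ x ∈ A, t * x * t⁻¹ ∈ A) ∧
      (∀ x ∈ A, x ∈ D.T → x = 1) ∧
      ∀ a ∈ D.root 0 1, ∀ a' ∈ D.root 0 1, ∀ b ∈ D.root 0 2, ∀ b' ∈ D.root 0 2,
        a * b = a' * b' → a = a' ∧ b = b' := by
  have h01 : (0 : Fin 3) ≠ 1 := by decide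
  have h02 : (0 : Fin 3) ≠ 2 := by decide
  have h12 : (1 : Fin 3) ≠ 2 := by decide
  have hz1 := fun x (hx : x ∈ D.root 0 1) => D.root_zz hM h01 h02 h12 hx
  have hz2 := fun x (hx : x ∈ D.root 0 2) => D.root_zz hM h02 h01 h12.symm hx
  have huniq : ∀ a ∈ D.root 0 1, ∀ a' ∈ D.root 0 1, ∀ b ∈ D.root 0 2, ∀ b' ∈ D.root 0 2,
      a * b = a' * b' → a = a' ∧ b = b' := by
    intro a ha a' ha' b hb b' hb' h
    have h1 : a'⁻¹ * a = b' * b⁻¹ := by
      rw [inv_mul_eq_iff_eq_mul, ← mul_assoc, eq_mul_inv_iff_mul_eq, h]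
    have hm := mul_mem (inv_mem ha') ha
    have hm' : a'⁻¹ * a ∈ D.root 0 2 := h1 ▸ mul_mem hb' (inv_mem hb)
    have e1 := (hz1 _ hm).1
    have e2 := (hz2 _ hm').2.2
    rw [← e1, mul_inv_cancel_right] at e2
    have h3 := inv_mul_eq_one.1 (eq_one_of_sq_root hM h01 hm (mul_eq_one_iff_eq_inv.2 e2))
    exact ⟨h3.symm, by rw [h3] at h; exact mul_left_cancel h⟩
  let A : Subgroup G :=
    { carrier := {g | ∃ a ∈ D.root 0 1, ∃ b ∈ D.root 0 2, g = a * b}
      one_mem' := ⟨1, one_mem _, 1, one_mem _, (one_mul 1).symm⟩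
      mul_mem' := by
        rintro _ _ ⟨x, hx, y, hy, rfl⟩ ⟨x', hx', y', hy', rfl⟩
        exact ⟨_, mul_mem hx hx', _, mul_mem hy hy',
          Commute.mul_mul_mul_comm (hrow x' hx' y hy).symm x y'⟩
      inv_mem' := by
        rintro _ ⟨x, hx, y, hy, rfl⟩
        exact ⟨x⁻¹, inv_mem hx, y⁻¹, inv_mem hy, by
          rw [_root_.mul_inv_rev]
          exact (hrow _ (inv_mem hx) _ (inv_mem hy)).symm⟩ }
  have hinv : ∀ x ∈ A, D.zz 0 * x * (D.zz 0)⁻¹ = x⁻¹ := by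
    rintro _ ⟨a, ha, b, hb, rfl⟩
    rw [conj_mul.symm, (hz1 a ha).2.1, (hz2 b hb).2.1, _root_.mul_inv_rev]
    exact hrow _ (inv_mem ha) _ (inv_mem hb)
  refine ⟨A, fun x hx => ⟨x, hx, 1, one_mem _, (mul_one x).symm⟩,
    fun x hx => ⟨1, one_mem _, x, hx, (one_mul x).symm⟩, fun x hx => hx, ?_, ?_, hinv, ?_, ?_, huniq⟩
  · rintro _ ⟨a, ha, b, hb, rfl⟩ _ ⟨a', ha', b', hb', rfl⟩
    rw [Commute.mul_mul_mul_comm (hrow a' ha' b hb).symm a b',
      Commute.mul_mul_mul_comm (hrow a ha b' hb').symm a' b, D.root_comm hM h01 ha ha',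
      D.root_comm hM h02 hb hb']
  · let f : D.root 0 1 × D.root 0 2 → A := fun a => ⟨a.1.1 * a.2.1, a.1.1, a.1.2, a.2.1, a.2.2, rfl⟩
    have hf : Function.Bijective f := by
      refine ⟨fun a b h => ?_, fun ⟨g, x, hx, y, hy, hg⟩ => ⟨(⟨x, hx⟩, ⟨y, hy⟩), Subtype.ext hg.symm⟩⟩
      obtain ⟨e1, e2⟩ := huniq _ a.1.2 _ b.1.2 _ a.2.2 _ b.2.2 (congrArg Subtype.val h)
      exact Prod.ext (Subtype.ext e1) (Subtype.ext e2)
    rw [← Nat.card_congr (Equiv.ofBijective f hf), Nat.card_prod, D.card_root hM h01, D.card_root hM h02]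
  · rintro t ht _ ⟨a, ha, b, hb, rfl⟩
    exact ⟨_, D.T_root hM h01 ht ha, _, D.T_root hM h02 ht hb, conj_mul.symm⟩
  · intro x hx hxT
    have h2 := hinv x hx
    rw [conj_of_comm (D.T_zz hxT 0).symm] at h2
    obtain ⟨a, ha, b, hb, rfl⟩ := hx
    have h3 : a * b * (a * b) = 1 := mul_eq_one_iff_eq_inv.2 h2
    rw [Commute.mul_mul_mul_comm (hrow a ha b hb).symm a b] at h3
    obtain ⟨ea, eb⟩ := huniq (a * a) (mul_mem ha ha) 1 (one_mem _) (b * b) (mul_mem hb hb) 1 (one_mem _)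
      (h3.trans (one_mul 1).symm)
    rw [eq_one_of_sq_root hM h01 ha ea, eq_one_of_sq_root hM h02 hb eb, one_mul]

/-- The row group is the only abelian subgroup of its order in its extension by p-elements of `T`. -/
theorem row_abelian_eq {A : Subgroup G}
    (hA1 : ∀ x ∈ A, ∃ a ∈ D.root 0 1, ∃ b ∈ D.root 0 2, x = a * b)
    (hAT : ∀ t ∈ D.T, ∀ x ∈ A, t * x * t⁻¹ ∈ A) (hAt : ∀ x ∈ A, x ∈ D.T → x = 1)
    (hAc : Nat.card A = Fintype.card F * Fintype.card F)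
    (hAcomm : ∀ x ∈ A, ∀ y ∈ A, x * y = y * x)
    (huniq : ∀ a ∈ D.root 0 1, ∀ a' ∈ D.root 0 1, ∀ b ∈ D.root 0 2, ∀ b' ∈ D.root 0 2,
      a * b = a' * b' → a = a' ∧ b = b')
    {P B : Subgroup G} (hP : IsPGroup p P) (hPT : P ≤ D.T) (hB : B ≤ A ⊔ P)
    (hcomm : ∀ x ∈ B, ∀ y ∈ B, x * y = y * x) (hcard : Nat.card B = Nat.card A) : B = A := by
  classical
  have hPn : P ≤ normalizer (A : Set G) := fun t ht => by
    refine mem_normalizer_iff.2 fun x => ⟨hAT t (hPT ht) x, fun hx => ?_⟩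
    have := hAT t⁻¹ (inv_mem (hPT ht)) _ hx
    rwa [inv_inv, show t⁻¹ * (t * x * t⁻¹) * t = x by group] at this
  have hdec : ∀ x : B, ∃ t : P, ∃ a ∈ A, (x : G) = a * t := by
    intro x
    have h := hB x.2
    rw [← SetLike.mem_coe, coe_mul_of_right_le_normalizer_left _ _ hPn] at h
    obtain ⟨a, ha, t, ht, e⟩ := Set.mem_mul.1 h
    exact ⟨⟨t, ht⟩, a, ha, e.symm⟩
  choose τ α hα hτ using hdec
  have htu : ∀ a ∈ A, ∀ a' ∈ A, ∀ t t' : P, a * t = a' * t' → t = t' := by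
    intro a ha a' ha' t t' h
    have h1 : a'⁻¹ * a = (t' : G) * (t : G)⁻¹ := by
      rw [inv_mul_eq_iff_eq_mul, ← mul_assoc, eq_mul_inv_iff_mul_eq, h]
    have h2 := hAt _ (mul_mem (inv_mem ha') ha) (h1 ▸ mul_mem (hPT t'.2) (inv_mem (hPT t.2)))
    exact Subtype.ext (mul_inv_eq_one.1 (h1.symm.trans h2)).symm
  let ψ : B →* P := MonoidHom.mk' τ fun x y => by
    refine htu (α (x * y)) (hα _) (α x * ((τ x : G) * α y * (τ x : G)⁻¹))
      (mul_mem (hα x) (hAT _ (hPT (τ x).2) _ (hα y))) _ _ ?_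
    rw [← hτ, Subgroup.coe_mul, hτ x, hτ y, Subgroup.coe_mul]
    group
  by_cases hne : ψ.range = ⊥
  · refine eq_of_le_of_card_ge (fun x hx => ?_) hcard.ge
    have h1 : ψ ⟨x, hx⟩ = 1 := mem_bot.1 (hne ▸ ⟨⟨x, hx⟩, rfl⟩ : ψ ⟨x, hx⟩ ∈ (⊥ : Subgroup P))
    have h2 := hτ ⟨x, hx⟩
    rw [show τ ⟨x, hx⟩ = 1 from h1, Subgroup.coe_one, mul_one] at h2
    show ((⟨x, hx⟩ : B) : G) ∈ A
    rw [h2]; exact hα _
  exfalso
  obtain ⟨P', hP'⟩ : ∃ P' : Subgroup G, P' = ψ.range.map P.subtype := ⟨_, rfl⟩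
  have hP'P : P' ≤ P := hP' ▸ map_subtype_le _
  have hP'c : Nat.card P' = Nat.card ψ.range := by
    rw [hP', card_map_of_injective P.subtype_injective]
  have hP'ne : P' ≠ ⊥ := fun e => hne (card_eq_one.1 (by rw [← hP'c, e, card_bot]))
  obtain ⟨W1, hW1⟩ : ∃ W : Subgroup G, W = D.root 0 1 ⊓ Subgroup.centralizer (P' : Set G) := ⟨_, rfl⟩
  obtain ⟨W2, hW2⟩ : ∃ W : Subgroup G, W = D.root 0 2 ⊓ Subgroup.centralizer (P' : Set G) := ⟨_, rfl⟩
  -- the kernel is fixed by the image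
  have hker : ∀ x : ψ.ker, ∃ a : W1, ∃ b : W2, ((x : B) : G) = (a : G) * b := by
    intro x
    have hxA : ((x : B) : G) ∈ A := by
      have h2 := hτ (x : B)
      rw [show τ (x : B) = 1 from x.2, Subgroup.coe_one, mul_one] at h2
      exact h2 ▸ hα _
    obtain ⟨a, ha, b, hb, e⟩ := hA1 _ hxA
    have hfix : ∀ t ∈ P', t * a = a * t ∧ t * b = b * t := by
      intro t ht
      rw [hP'] at ht
      obtain ⟨_, ⟨y, rfl⟩, rfl⟩ := ht
      have hyt := hcomm _ y.2 _ (x : B).2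
      rw [hτ y, mul_assoc, ← mul_assoc ((x : B) : G), hAcomm _ hxA _ (hα y), mul_assoc] at hyt
      have h1 : (τ y : G) * ((x : B) : G) * (τ y : G)⁻¹ = (x : B) := conj_of_comm (mul_left_cancel hyt)
      rw [e, conj_mul.symm] at h1
      obtain ⟨e1, e2⟩ := huniq _ (D.T_root hM (by decide) (hPT (τ y).2) ha) _ ha _
        (D.T_root hM (by decide) (hPT (τ y).2) hb) _ hb h1
      exact ⟨comm_of_conj e1, comm_of_conj e2⟩
    exact ⟨⟨a, hW1 ▸ ⟨ha, mem_centralizer_iff.2 fun t ht => (hfix t ht).1⟩⟩,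
      ⟨b, hW2 ▸ ⟨hb, mem_centralizer_iff.2 fun t ht => (hfix t ht).2⟩⟩, e⟩
  choose fa fb hf using hker
  have hkle : Nat.card ψ.ker ≤ Nat.card W1 * Nat.card W2 := by
    rw [← Nat.card_prod]
    refine Nat.card_le_card_of_injective (fun x => (fa x, fb x)) fun x x' h => ?_
    refine Subtype.ext (Subtype.ext ?_)
    rw [hf, hf]
    simp only [Prod.mk.injEq] at h
    rw [h.1, h.2]
  obtain ⟨q0, hq0, hq, hlt, hW1c⟩ := fixed_small hM (hP'P.trans hPT) (hP.to_le hP'P) hP'ne (W := W1)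
    (by rw [hW1, ← D.root_zero_one hM]; exact inf_le_left)
    (fun x hx t ht => by rw [hW1] at hx; exact mem_centralizer_iff.1 hx.2 t ht)
  obtain ⟨n, hn⟩ := D.exists_conj hM (Equiv.swap 1 2)
  obtain ⟨c, hc⟩ : ∃ c, c = (MulAut.conj n⁻¹).toMonoidHom := ⟨_, rfl⟩
  have hcinj : Function.Injective c := hc ▸ (MulAut.conj n⁻¹).injective
  have hcT : P'.map c ≤ D.T := by
    rintro _ ⟨t, ht, rfl⟩
    have hfix : ∀ a, n⁻¹ * t * n * D.zz a * (n⁻¹ * t * n)⁻¹ = D.zz a := fun a => by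
      calc _ = n⁻¹ * (t * (n * D.zz a * n⁻¹) * t⁻¹) * n := by group
        _ = _ := by rw [hn, conj_of_comm (D.T_zz (hPT (hP'P ht)) _), ← hn]; group
    rw [hc, MulEquiv.coe_toMonoidHom, MulAut.conj_apply, inv_inv]
    exact D.mem_T_of_fix (show (0 : Fin 3) ≠ 1 by decide) (hfix 0) (hfix 1)
  obtain ⟨q1, hq1, hq', -, hW2c⟩ := fixed_small hM hcT ((hP.to_le hP'P).map c)
    (fun e => hP'ne (card_eq_one.1 (by rw [← card_map_of_injective hcinj, e, card_bot]))) (W := W2.map c)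
    (by
      rintro _ ⟨x, hx, rfl⟩
      rw [hW2] at hx
      have h := hx.1
      rw [show D.root 0 2 = D.baseRoot.map (MulAut.conj n).toMonoidHom by
        rw [← D.root_zero_one hM, D.root_conj hM hn (show (0 : Fin 3) ≠ 1 by decide), Equiv.swap_apply_left,
          Equiv.swap_apply_of_ne_of_ne (show (0 : Fin 3) ≠ 1 by decide) (show (0 : Fin 3) ≠ 2 by decide)]] at h
      obtain ⟨y, hy, rfl⟩ := h
      rw [hc]
      simpa [mul_assoc] using hy)
    (by
      rintro _ ⟨x, hx, rfl⟩ _ ⟨t, ht, rfl⟩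
      rw [hW2] at hx
      rw [← map_mul, ← map_mul, mem_centralizer_iff.1 hx.2 t ht])
  rw [card_map_of_injective hcinj] at hq' hW2c
  obtain ⟨m, hm⟩ : ∃ m, Nat.card P' = m + 1 := ⟨Nat.card P' - 1, by
    have := Nat.card_pos (α := P'); omega⟩
  have hq10 : q1 = q0 := Nat.pow_left_injective (by omega : Nat.card P' ≠ 0) (hq'.symm.trans hq)
  rw [hq10] at hW2c
  have hprod : Nat.card ψ.ker * Nat.card P' = Nat.card B := by
    rw [hP'c, ← Subgroup.index_ker ψ, Subgroup.card_mul_index]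
  rw [hcard, hAc, hq] at hprod
  have h1 : q0 ^ Nat.card P' * q0 ^ Nat.card P' ≤ q0 * q0 * Nat.card P' := by
    rw [← hprod]
    exact Nat.mul_le_mul_right _ (hkle.trans (Nat.mul_le_mul hW1c hW2c))
  rw [hm, Nat.add_sub_cancel] at hlt
  rw [hm, pow_succ] at h1
  have h2' : q0 * q0 * (q0 ^ m * q0 ^ m) ≤ q0 * q0 * (m + 1) := by
    calc q0 * q0 * (q0 ^ m * q0 ^ m) = q0 ^ m * q0 * (q0 ^ m * q0) := by ring
      _ ≤ _ := h1
  have h2 : q0 ^ m * q0 ^ m ≤ m + 1 := Nat.le_of_mul_le_mul_left h2' (by positivity)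
  have h3 : q0 ^ m ≤ q0 ^ m * q0 ^ m := Nat.le_mul_of_pos_left _ (by positivity)
  omega

/-- `root 0 1` cannot commute with `root 0 2` only. -/
theorem no_row_aux (p : ℕ) [hp : Fact p.Prime] [CharP F p] (hrow : D.Rel 0 1 0 2) (hncol : ¬ D.Rel 0 1 2 1) (hn12 : ¬ D.Rel 0 1 1 2) : False := by
  classical
  have h01 : (0 : Fin 3) ≠ 1 := by decide
  have h02 : (0 : Fin 3) ≠ 2 := by decide
  have h12 : (1 : Fin 3) ≠ 2 := by decide
  obtain ⟨A, hA01, hA02, hA1, hAcomm, hAc, hAinv, hAT, hAt, huniq⟩ := row_data hM hrow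
  set q := Fintype.card F with hqdef
  obtain ⟨n, hpn, hn⟩ := FiniteField.card F p
  have hAp : IsPGroup p A := IsPGroup.of_card (n := (n : ℕ) + n) (by
    rw [hAc, hqdef, hn, pow_add])
  have hpodd : Odd p := hp.out.odd_of_ne_two (pos_p_odd D)
  set N := normalizer (A : Set G) with hN
  set K := Subgroup.centralizer (A : Set G) with hK
  have hTN : D.T ≤ N := fun t ht => by
    refine mem_normalizer_iff.2 fun x => ⟨hAT t ht x, fun hx => ?_⟩
    have := hAT t⁻¹ (inv_mem ht) _ hx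
    rwa [inv_inv, show t⁻¹ * (t * x * t⁻¹) * t = x by group] at this
  have hzN : ∀ a, D.zz a ∈ N := fun a => hTN (D.zz_mem_T a)
  have hKN : ∀ g ∈ N, ∀ c ∈ K, g * c * g⁻¹ ∈ K := by
    intro g hg c hc
    refine mem_centralizer_iff.2 fun e he => ?_
    have hy : g⁻¹ * e * g ∈ A := by simpa using (mem_normalizer_iff.1 (inv_mem hg) e).1 he
    have hcm := mem_centralizer_iff.1 hc _ hy
    calc e * (g * c * g⁻¹) = g * ((g⁻¹ * e * g) * c) * g⁻¹ := by group
      _ = g * (c * (g⁻¹ * e * g)) * g⁻¹ := by rw [hcm]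
      _ = g * c * g⁻¹ * e := by group
  have hKcb : ∀ {r}, r ∈ K → ∀ x ∈ D.baseRoot, r * x = x * r := fun {r} hr x hx =>
    (mem_centralizer_iff.1 hr x (hA01 (by rwa [D.root_zero_one hM]))).symm
  -- 1. the centraliser has odd order
  have hKodd : Odd (Nat.card K) := by
    rw [← Nat.not_even_iff_odd]
    intro he
    obtain ⟨i, hiK, hi2, hu, hv⟩ := exists_fixed_invol he (D.zz_sq 0) (D.zz_sq 2) (D.zz_comm 0 2)
      (hKN _ (hzN 0)) (hKN _ (hzN 2))
    have hiT : i ∈ D.T := D.mem_T.2 ⟨hv.symm, hu.symm⟩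
    have hiL := (cen_up_iff hM hiT).1 fun b => hKcb hiK _ (D.mem_baseRoot.2 ⟨b, rfl⟩)
    have hiz : i = D.z := D.invol_cen_eq (D.T_le hiT) hi2 hiL
    obtain ⟨pi, pj⟩ := D.perm_spec hM h02
    obtain ⟨x, hx⟩ : ∃ x, x = D.perm 0 2 * D.e (CfsgLib.ABG.Recog.up (1 : F)) * (D.perm 0 2)⁻¹ := ⟨_, rfl⟩
    have hxm : x ∈ D.root 0 2 := (D.mem_root hM h02 pi pj).2 ⟨1, hx⟩
    have e1 := (D.root_zz hM h02 h01 h12.symm hxm).2.2
    have e2 : x * D.zz 2 = D.zz 2 * x := by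
      have := mem_centralizer_iff.1 hiK x (hA02 hxm)
      rwa [hiz] at this
    rw [← e2, mul_inv_cancel_right] at e1
    have hx1 := eq_one_of_sq_root hM h02 hxm (mul_eq_one_iff_eq_inv.2 e1)
    rw [hx, conj_eq_one_iff, ← map_one D.e, ← up_zero] at hx1
    exact one_ne_zero (up_inj (D.e_inj hx1))
  -- 2. invariant p-subgroups of the centraliser lie in the row group
  have hsmall : ∀ R : Subgroup G, R ≤ K → IsPGroup p R → (∀ a, ∀ r ∈ R, D.zz a * r * (D.zz a)⁻¹ ∈ R) →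
      R ≤ A := by
    intro R hRK hRp hRn
    have hRodd : Odd (Nat.card R) := hKodd.of_dvd_nat (Subgroup.card_dvd_of_le hRK)
    have hfix2 : ∀ r ∈ R, r * D.zz 2 = D.zz 2 * r → r ∈ D.baseRoot := fun r hr h => by
      obtain ⟨k, hk⟩ := hRp ⟨r, hr⟩
      exact mem_of_cen hM (p := p) (D.mem_C.2 h) (hKcb (hRK hr)) (k := k) (congrArg Subtype.val hk)
    have hn' : ∀ a, ∀ r ∈ R, D.zz a * r * D.zz a ∈ R := fun a r hr => by
      have := hRn a r hr
      rwa [Invol.inv_eq_self (D.zz_order a)] at this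
    refine CfsgLib.Recog.le_of_fourGroup hRodd (D.zz_sq 2) (D.zz_sq 0) (D.zz_comm 2 0)
      (hn' 2) (hn' 0) ?_ ?_ ?_
    · exact fun r hr => hA01 (by rw [D.root_zero_one hM]; exact hfix2 r hr.1 (mem_cen_iff.1 hr.2))
    · intro r hr
      obtain ⟨Y, hY⟩ : ∃ Y, Y = R ⊓ Subgroup.centralizer ({D.zz 0} : Set G) := ⟨_, rfl⟩
      have hinv := inverted_of_fpf (Y := Y) (D.zz_sq 2) (fun y hy => by
          rw [hY] at hy ⊢
          refine ⟨hRn 2 y hy.1, mem_cen_iff.2 ?_⟩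
          have h1 := mem_cen_iff.1 hy.2
          calc D.zz 2 * y * (D.zz 2)⁻¹ * D.zz 0
              = D.zz 2 * y * (D.zz 2)⁻¹ * (D.zz 2 * D.zz 0 * (D.zz 2)⁻¹) := by
                rw [conj_of_comm (D.zz_comm 2 0)]
            _ = D.zz 2 * (y * D.zz 0) * (D.zz 2)⁻¹ := by group
            _ = D.zz 2 * D.zz 0 * (D.zz 2)⁻¹ * (D.zz 2 * y * (D.zz 2)⁻¹) := by rw [h1]; group
            _ = D.zz 0 * (D.zz 2 * y * (D.zz 2)⁻¹) := by rw [conj_of_comm (D.zz_comm 2 0)])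
        (fun y hy hyz => by
          rw [hY] at hy
          obtain ⟨b, rfl⟩ := D.mem_baseRoot.1 (hfix2 y hy.1 hyz.symm)
          have h2 : D.e (CfsgLib.ABG.Recog.up b) ∈ D.T := by
            rw [← D.zz_cen2 h02.symm]
            exact ⟨mem_cen_iff.2 hyz.symm, hy.2⟩
          rw [baseRoot_inf_T hM h2, up_zero, map_one]) (y := r) (hY ▸ hr)
      obtain ⟨k, hk⟩ := hRp ⟨r, hr.1⟩
      by_cases h1 : r = 1
      · rw [h1]; exact one_mem _
      exfalso
      have hc : ∀ x ∈ D.root 0 1, r * x = x * r := fun x hx =>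
        hKcb (hRK hr.1) x (by rwa [← D.root_zero_one hM])
      rcases mem_of_inverted hM (p := p) (i := 2) (j := 1) (k := 0) (by decide) (by decide) (by decide)
        (mem_cen_iff.1 hr.2) hinv (n := k) (congrArg Subtype.val hk) with hm | hm
      · exact hncol (rel_of_mem hM (by decide) (by decide) hm h1 hc).symm
      · exact hn12 (rel_of_mem hM (by decide) (by decide) hm h1 hc).symm
    · intro r hr
      obtain ⟨g, hg⟩ := D.exists_conj hM (Equiv.swap 1 2)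
      have hg2 := hg 2
      rw [Equiv.swap_apply_right] at hg2
      have hg02 := D.root_conj hM hg h01
      rw [Equiv.swap_apply_of_ne_of_ne h01 h02, Equiv.swap_apply_left] at hg02
      obtain ⟨k, hk⟩ := hRp ⟨r, hr.1⟩
      have hr1 : r * D.zz 1 = D.zz 1 * r := by
        have := mem_cen_iff.1 hr.2
        rwa [D.zz_mul h02.symm h12.symm h01] at this
      have hm : g⁻¹ * r * g ∈ D.baseRoot := by
        refine mem_of_cen hM (p := p) (D.mem_C.2 ?_) (fun x hx => ?_) (k := k) ?_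
        · show g⁻¹ * r * g * D.zz 2 = D.zz 2 * (g⁻¹ * r * g)
          calc g⁻¹ * r * g * D.zz 2 = g⁻¹ * (r * (g * D.zz 2 * g⁻¹)) * g := by group
            _ = _ := by rw [hg2, hr1, ← hg2]; group
        · have hx' : g * x * g⁻¹ ∈ D.root 0 2 := by
            rw [← hg02, D.root_zero_one hM]; exact ⟨x, hx, rfl⟩
          have h := mem_centralizer_iff.1 (hRK hr.1) _ (hA02 hx')
          calc g⁻¹ * r * g * x = g⁻¹ * (r * (g * x * g⁻¹)) * g := by group
            _ = _ := by rw [← h]; group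
        · rw [show g⁻¹ * r * g = g⁻¹ * r * g⁻¹⁻¹ by group, conj_pow,
            show r ^ p ^ k = 1 from congrArg Subtype.val hk]; group
      refine hA02 ?_
      rw [← hg02, D.root_zero_one hM]
      exact ⟨_, hm, by simp [mul_assoc]⟩
  -- the p-part of the centraliser
  have hKp : (Nat.card K).factorization p ≤ (n : ℕ) + n := by
    obtain ⟨U, hU⟩ : ∃ U : Subgroup G, U = zpowers (D.zz 2) ⊔ zpowers (D.zz 0) := ⟨_, rfl⟩
    have hz : ∀ a, IsPGroup 2 (zpowers (D.zz a)) := fun a =>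
      IsPGroup.of_card (n := 1) (by rw [Nat.card_zpowers, D.zz_order, pow_one])
    have hU2 : IsPGroup 2 U := hU ▸ IsPGroup.to_sup_of_normal_left' (hz 2) (hz 0) (by
      rw [zpowers_le]
      refine centralizer_le_normalizer _ (mem_centralizer_iff.2 fun x hx => ?_)
      obtain ⟨k, rfl⟩ := mem_zpowers_iff.1 hx
      exact (Commute.zpow_left (show Commute (D.zz 2) (D.zz 0) from D.zz_comm 2 0) k).eq)
    have hUN : U ≤ N := hU ▸ sup_le (zpowers_le.2 (hzN 2)) (zpowers_le.2 (hzN 0))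
    have hUK : U ≤ normalizer (K : Set G) := fun u hu => by
      refine mem_normalizer_iff.2 fun x => ⟨hKN u (hUN hu) x, fun hx => ?_⟩
      have := hKN u⁻¹ (inv_mem (hUN hu)) _ hx
      rwa [inv_inv, show u⁻¹ * (u * x * u⁻¹) * u = x by group] at this
    have hcop : (Nat.card U).Coprime (Nat.card K) := by
      obtain ⟨m, hm⟩ := IsPGroup.iff_card.1 hU2
      rw [hm]; exact (Nat.coprime_two_left.2 hKodd).pow_left _
    have hsolv : Group.IsSolvable U ∨ Group.IsSolvable K := by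
      haveI : Fact (Nat.Prime 2) := ⟨Nat.prime_two⟩
      haveI := hU2.isNilpotent
      exact Or.inl inferInstance
    obtain ⟨S, hS, hSU⟩ := CoprimeAct.exists_invariant_sylow_ge hUK hcop hsolv p
      (fun x hx => mem_centralizer_iff.2 fun y hy => hAcomm y hy x hx : A ≤ K) hAp hUN
    have hzU : ∀ a, D.zz a ∈ U := by
      have h2 : D.zz 2 ∈ U := hU ▸ mem_sup_left (mem_zpowers _)
      have h0 : D.zz 0 ∈ U := hU ▸ mem_sup_right (mem_zpowers _)
      intro a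
      fin_cases a
      · exact h0
      · show D.zz 1 ∈ U
        rw [← D.zz_mul h02 h01 h12.symm]
        exact mul_mem h0 h2
      · exact h2
    have hle := hsmall _ (map_subtype_le _) (S.2.map _) fun a r hr =>
      (mem_normalizer_iff.1 (hSU (hzU a)) r).1 hr
    have h1 := Subgroup.card_le_of_le hle
    rw [card_map_of_injective K.subtype_injective, S.card_eq_multiplicity, hAc, hqdef, hn, ← pow_add] at h1
    exact (Nat.pow_le_pow_iff_right hp.out.one_lt).1 h1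
  -- 4. the Sylow subgroup of `T`
  obtain ⟨PT, hPT⟩ : ∃ P : Subgroup G, P ≤ D.T ∧ IsPGroup p P ∧
      Nat.card P = p ^ (Nat.card D.T).factorization p := by
    let S : Sylow p D.T := default
    exact ⟨(S : Subgroup D.T).map D.T.subtype, map_subtype_le _, S.2.map _, by
      rw [card_map_of_injective D.T.subtype_injective, S.card_eq_multiplicity]⟩
  obtain ⟨hPT, hPp, hPc⟩ := hPT
  set a := (Nat.card D.T).factorization p with ha
  obtain ⟨S0, hS0⟩ : ∃ S0, S0 = A ⊔ PT := ⟨_, rfl⟩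
  have hPn : PT ≤ N := hPT.trans hTN
  have hS0p : IsPGroup p S0 := hS0 ▸ IsPGroup.to_sup_of_normal_left' hAp hPp hPn
  have hS0c : Nat.card S0 = p ^ ((n : ℕ) + n + a) := by
    have h := CfsgLib.Solvable.card_sup_mul_card_inf hPn
    rw [sup_comm, ← hS0, show PT ⊓ A = ⊥ from eq_bot_iff.2 fun x hx =>
      mem_bot.2 (hAt x hx.2 (hPT hx.1)), card_bot, mul_one, hPc, hAc, hqdef, hn, ← pow_add, ← pow_add] at h
    rw [h, add_comm]
  have hG : p ^ (3 * (n : ℕ) + a) ∣ Nat.card G := by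
    rw [lin_card_G hM (isLinear_of_dM hM), pow_add, pow_mul', show Fintype.card F = p ^ (n : ℕ) from hn]
    exact dvd_mul_of_dvd_left (mul_dvd_mul (dvd_mul_of_dvd_left dvd_rfl _)
      (hPc ▸ Subgroup.card_dvd_of_le hPT)) _
  obtain ⟨S1, hS1p, hlt, hS1n⟩ := exists_gt_normalizing hS0p hG (by
    rw [hS0c]; exact Nat.pow_lt_pow_right hp.out.one_lt (by have := n.pos; omega))
  obtain ⟨r, hr⟩ := IsPGroup.iff_card.1 hS1p
  have hr2 : (n : ℕ) + n + a < r := by
    have h : Nat.card S0 < Nat.card S1 := by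
      by_contra hge
      exact hlt.ne (eq_of_le_of_card_ge hlt.le (not_lt.1 hge))
    rw [hS0c, hr] at h
    exact (Nat.pow_lt_pow_iff_right hp.out.one_lt).1 h
  have hS1N : S1 ≤ N := by
    have key : ∀ g ∈ S1, ∀ x ∈ A, g * x * g⁻¹ ∈ A := by
      intro g hg x hx
      have hB : A.map (MulAut.conj g).toMonoidHom = A := by
        refine row_abelian_eq hM hA1 hAT hAt hAc hAcomm huniq hPp hPT ?_ ?_ ?_
        · rintro _ ⟨y, hy, rfl⟩
          rw [← hS0]
          exact (mem_normalizer_iff.1 (hS1n hg) y).1 (hS0 ▸ mem_sup_left hy)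
        · rintro _ ⟨y, hy, rfl⟩ _ ⟨y', hy', rfl⟩
          rw [← map_mul, ← map_mul, hAcomm y hy y' hy']
        · rw [card_map_of_injective (MulAut.conj g).injective]
      rw [← hB]
      exact mem_map_of_mem _ hx
    intro g hg
    refine mem_normalizer_iff.2 fun x => ⟨key g hg x, fun hx => ?_⟩
    have := key g⁻¹ (inv_mem hg) _ hx
    rwa [inv_inv, show g⁻¹ * (g * x * g⁻¹) * g = x by group] at this
  -- 3. the normaliser is the centraliser times its part at the first involution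
  obtain ⟨NC, hNC⟩ : ∃ NC, NC = N ⊓ Subgroup.centralizer ({D.zz 0} : Set G) := ⟨_, rfl⟩
  have hNCK : NC ≤ normalizer (K : Set G) := fun g hg => by
    rw [hNC] at hg
    refine mem_normalizer_iff.2 fun x => ⟨hKN g hg.1 x, fun hx => ?_⟩
    have := hKN g⁻¹ (inv_mem hg.1) _ hx
    rwa [inv_inv, show g⁻¹ * (g * x * g⁻¹) * g = x by group] at this
  have hS1le : S1 ≤ NC ⊔ K := by
    intro g hg
    have hgN := hS1N hg
    have hz0 : (D.zz 0)⁻¹ = D.zz 0 := Invol.inv_eq_self (D.zz_order 0)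
    obtain ⟨i, hi⟩ : ∃ i, i = g * D.zz 0 * g⁻¹ := ⟨_, rfl⟩
    have hii : i⁻¹ = i := by rw [hi, conj_inv, hz0]
    have hyK : i * D.zz 0 ∈ K := by
      refine mem_centralizer_iff.2 fun x hx => (comm_of_conj ?_).symm
      have hx' : g⁻¹ * x * g ∈ A := by simpa using (mem_normalizer_iff.1 (inv_mem hgN) x).1 hx
      rw [show i * D.zz 0 * x * (i * D.zz 0)⁻¹ = i * (D.zz 0 * x * (D.zz 0)⁻¹) * i⁻¹ by group,
        hAinv x hx, hi, show g * D.zz 0 * g⁻¹ * x⁻¹ * (g * D.zz 0 * g⁻¹)⁻¹ =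
          g * (D.zz 0 * (g⁻¹ * x * g) * (D.zz 0)⁻¹)⁻¹ * g⁻¹ by group, hAinv _ hx']
      group
    have hyinv : D.zz 0 * (i * D.zz 0) * (D.zz 0)⁻¹ = (i * D.zz 0)⁻¹ := by
      rw [_root_.mul_inv_rev, hz0, hii]
      simp only [mul_assoc, D.zz_sq, mul_one]
    obtain ⟨c, hcdef⟩ : ∃ c, c = CfsgLib.Recog.oddRoot (i * D.zz 0) := ⟨_, rfl⟩
    have hodd := CfsgLib.Recog.odd_orderOf hKodd hyK
    have hc2 : c * c = i * D.zz 0 := hcdef ▸ CfsgLib.Recog.oddRoot_sq hodd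
    have hcK : c ∈ K := hcdef ▸ CfsgLib.Recog.oddRoot_mem hyK
    have hcinv : D.zz 0 * c * (D.zz 0)⁻¹ = c⁻¹ := by
      rw [hcdef, ← CfsgLib.Recog.oddRoot_conj, hyinv, CfsgLib.Recog.oddRoot_inv]
    have hci : c * D.zz 0 * c⁻¹ = i := by
      have h1 : D.zz 0 * c⁻¹ = c * D.zz 0 := by
        rw [← hcinv, hz0]
        simp only [← mul_assoc, D.zz_sq, one_mul]
      rw [mul_assoc, h1, ← mul_assoc, hc2, mul_assoc, D.zz_sq, mul_one]
    rw [show g = (c⁻¹ * g) * ((c⁻¹ * g)⁻¹ * c * (c⁻¹ * g)) by group]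
    have hd : c⁻¹ * g ∈ NC := by
      rw [hNC]
      have hcN : c ∈ N := centralizer_le_normalizer _ hcK
      refine ⟨mul_mem (inv_mem hcN : c⁻¹ ∈ N) hgN, mem_cen_iff.2 ?_⟩
      calc c⁻¹ * g * D.zz 0 = c⁻¹ * i * g := by rw [hi]; group
        _ = D.zz 0 * (c⁻¹ * g) := by rw [← hci]; group
    refine mul_mem (mem_sup_left hd) (mem_sup_right ?_)
    have := (mem_normalizer_iff.1 (hNCK (inv_mem hd)) c).1 hcK
    simpa using this
  have hdvd : p ^ r ∣ Nat.card NC * Nat.card K := by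
    rw [← hr, ← CfsgLib.Solvable.card_sup_mul_card_inf hNCK]
    exact dvd_mul_of_dvd_left (Subgroup.card_dvd_of_le hS1le) _
  have hNCp : a < (Nat.card NC).factorization p := by
    have h := (hp.out.pow_dvd_iff_le_factorization
      (mul_ne_zero Nat.card_pos.ne' Nat.card_pos.ne')).1 hdvd
    rw [Nat.factorization_mul Nat.card_pos.ne' Nat.card_pos.ne', Finsupp.add_apply] at h
    omega
  -- 5. the component at the first involution
  obtain ⟨σ, hσ0, hσ1, hσ2⟩ := rho_perm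
  obtain ⟨m, hm⟩ := D.exists_conj hM σ
  have hm2 : m * D.zz 2 * m⁻¹ = D.zz 0 := hσ2 ▸ hm 2
  have hmT : ∀ t ∈ D.T, m * t * m⁻¹ ∈ D.T := fun t ht => by
    have hfix : ∀ a, m * t * m⁻¹ * D.zz (σ a) * (m * t * m⁻¹)⁻¹ = D.zz (σ a) := fun a => by
      rw [← hm a]
      calc _ = m * (t * D.zz a * t⁻¹) * m⁻¹ := by group
        _ = _ := by rw [conj_of_comm (D.T_zz ht a)]
    exact D.mem_T_of_fix (σ.injective.ne h01) (hfix 0) (hfix 1)
  obtain ⟨H, hH⟩ : ∃ H : Subgroup (SL F), H = N.comap ((MulAut.conj m).toMonoidHom.comp D.e) := ⟨_, rfl⟩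
  have hmemH : ∀ {x : SL F}, x ∈ H ↔ m * D.e x * m⁻¹ ∈ N := fun {x} => by rw [hH]; exact Iff.rfl
  have hTH : D.T ≤ normalizer ((H.map D.e : Subgroup G) : Set G) := by
    have key : ∀ t ∈ D.T, ∀ y ∈ H.map D.e, t * y * t⁻¹ ∈ H.map D.e := by
      rintro t ht _ ⟨x, hx, rfl⟩
      obtain ⟨y, hy⟩ := D.e_normal t (D.T_le ht) x
      refine ⟨y, hmemH.2 ?_, hy⟩
      rw [hy, show m * (t * D.e x * t⁻¹) * m⁻¹ =
        m * t * m⁻¹ * (m * D.e x * m⁻¹) * (m * t * m⁻¹)⁻¹ by group]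
      exact mul_mem (mul_mem (hTN (hmT t ht)) (hmemH.1 hx)) (inv_mem (hTN (hmT t ht)))
    intro t ht
    refine mem_normalizer_iff.2 fun x => ⟨key t ht x, fun hx => ?_⟩
    have := key t⁻¹ (inv_mem ht) _ hx
    rwa [inv_inv, show t⁻¹ * (t * x * t⁻¹) * t = x by group] at this
  have hNCle : NC.map (MulAut.conj m⁻¹).toMonoidHom ≤ D.T ⊔ H.map D.e := by
    rintro _ ⟨g, hg, rfl⟩
    rw [hNC] at hg
    have hC : m⁻¹ * g * m ∈ D.C := D.mem_C.2 (by
      show m⁻¹ * g * m * D.zz 2 = D.zz 2 * (m⁻¹ * g * m)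
      calc m⁻¹ * g * m * D.zz 2 = m⁻¹ * (g * (m * D.zz 2 * m⁻¹)) * m := by group
        _ = _ := by rw [hm2, mem_cen_iff.1 hg.2, ← hm2]; group)
    obtain ⟨x, t, ht, e⟩ := D.exists_decomp hC
    have hx : x ∈ H := hmemH.2 (by
      rw [show m * D.e x * m⁻¹ = g * (m * t * m⁻¹)⁻¹ by
        rw [show D.e x = m⁻¹ * g * m * t⁻¹ by rw [e]; group]; group]
      exact mul_mem hg.1 (inv_mem (hTN (hmT t ht))))
    show m⁻¹ * g * m⁻¹⁻¹ ∈ _
    rw [inv_inv, e]
    exact mul_mem (mem_sup_right (mem_map_of_mem _ hx)) (mem_sup_left ht)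
  have hpH : p ∣ Nat.card H := by
    have h1 : Nat.card NC ∣ Nat.card D.T * Nat.card H := by
      have hH' : Nat.card (H.map D.e : Subgroup G) = Nat.card H := card_map_of_injective D.e_inj
      have hNC' : Nat.card (NC.map (MulAut.conj m⁻¹).toMonoidHom) = Nat.card NC :=
        card_map_of_injective (MulAut.conj m⁻¹).injective
      rw [← hH', ← CfsgLib.Solvable.card_sup_mul_card_inf hTH, ← hNC']
      exact dvd_mul_of_dvd_left (Subgroup.card_dvd_of_le hNCle) _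
    by_contra hnd
    have h2 := (Nat.factorization_le_iff_dvd Nat.card_pos.ne'
      (mul_ne_zero Nat.card_pos.ne' Nat.card_pos.ne')).2 h1 p
    rw [Nat.factorization_mul Nat.card_pos.ne' Nat.card_pos.ne', Finsupp.add_apply,
      Nat.factorization_eq_zero_of_not_dvd hnd] at h2
    omega
  have hd : ∀ (c : Fˣ) (x : SL F), x ∈ H → semiSL (dia c) (RingEquiv.refl F) x ∈ H := by
    intro c x hx
    obtain ⟨t, ht, hta⟩ := exists_acts_of hM c
    refine hmemH.2 ?_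
    rw [← hta x, show m * (t * D.e x * t⁻¹) * m⁻¹ =
      m * t * m⁻¹ * (m * D.e x * m⁻¹) * (m * t * m⁻¹)⁻¹ by group]
    exact mul_mem (mul_mem (hTN (hmT t ht)) (hmemH.1 hx)) (inv_mem (hTN (hmT t ht)))
  have hw : (wel : SL F) ∈ H := by
    refine hmemH.2 ?_
    have hw0 : D.e wel * D.zz 0 * (D.e wel)⁻¹ = D.zz 1 := w_conj_z₁ hM
    have hw2 : D.e wel * D.zz 2 * (D.e wel)⁻¹ = D.zz 2 := conj_of_comm (D.e_comm_z wel)
    have e0 : m * D.e wel * m⁻¹ * D.zz 0 * (m * D.e wel * m⁻¹)⁻¹ = D.zz 0 := by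
      nth_rw 1 [← hm2]
      calc _ = m * (D.e wel * D.zz 2 * (D.e wel)⁻¹) * m⁻¹ := by group
        _ = _ := by rw [hw2, hm2]
    have e1 : m * D.e wel * m⁻¹ * D.zz 1 * (m * D.e wel * m⁻¹)⁻¹ = D.zz 2 := by
      nth_rw 1 [← hσ0]
      rw [← hm 0]
      calc _ = m * (D.e wel * D.zz 0 * (D.e wel)⁻¹) * m⁻¹ := by group
        _ = _ := by rw [hw0, hm 1, hσ1]
    obtain ⟨g, hg⟩ : ∃ g, g = m * D.e wel * m⁻¹ := ⟨_, rfl⟩
    rw [← hg] at e0 e1 ⊢
    have hperm := D.conj_zz_of_two (n := g) (σ := Equiv.swap 1 2)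
      (by rw [e0, Equiv.swap_apply_of_ne_of_ne h01 h02])
      (by rw [e1, Equiv.swap_apply_left])
    have hsw : ∀ {x : G}, x ∈ A → g * x * g⁻¹ ∈ A := by
      intro x hx
      obtain ⟨u, hu, v, hv, rfl⟩ := hA1 x hx
      rw [conj_mul.symm]
      refine mul_mem (hA02 ?_) (hA01 ?_)
      · have h := D.root_conj hM hperm h01
        rw [Equiv.swap_apply_of_ne_of_ne h01 h02, Equiv.swap_apply_left] at h
        rw [← h]; exact mem_map_of_mem _ hu
      · have h := D.root_conj hM hperm h02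
        rw [Equiv.swap_apply_of_ne_of_ne h01 h02, Equiv.swap_apply_right] at h
        rw [← h]; exact mem_map_of_mem _ hv
    have heq : A.map (MulAut.conj g).toMonoidHom = A := eq_of_le_of_card_ge
      (by rintro _ ⟨x, hx, rfl⟩; exact hsw hx)
      (card_map_of_injective (MulAut.conj g).injective).ge
    refine mem_normalizer_iff.2 fun x => ⟨hsw, fun hx => ?_⟩
    rw [← heq] at hx
    obtain ⟨y, hy, e⟩ := hx
    rw [MulEquiv.coe_toMonoidHom, MulAut.conj_apply] at e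
    exact (mul_left_cancel (mul_right_cancel e)) ▸ hy
  -- 6. the root group `root 1 2` has fixed points on the row group
  have hR : ∀ x ∈ D.root 1 2, x ∈ N := by
    intro x hx
    obtain ⟨b, rfl⟩ := (D.mem_root hM h12 (n := m) (hσ0 ▸ hm 0) (hσ1 ▸ hm 1)).1 hx
    exact hmemH.1 (DiagInv.up_low_mem hd hw (two_ne_zero_of_odd D.odd_q) hpH b).1
  have hR12 : IsPGroup p (D.root 1 2) := fun x =>
    ⟨1, Subtype.ext (by rw [pow_one]; exact D.root_exp hM h12 x.2)⟩
  letI : MulAction (D.root 1 2) A :=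
    { smul := fun g x => ⟨(g : G) * x * (g : G)⁻¹, (mem_normalizer_iff.1 (hR g g.2) x).1 x.2⟩
      one_smul := fun x => Subtype.ext (show (1 : G) * x * (1 : G)⁻¹ = x by group)
      mul_smul := fun g g' x => Subtype.ext
        (show ((g : G) * g') * x * ((g : G) * g')⁻¹ = g * (g' * x * (g' : G)⁻¹) * (g : G)⁻¹ by group) }
  have hpA : p ∣ Nat.card A := by
    rw [hAc, hqdef, hn]; exact dvd_mul_of_dvd_left (dvd_pow_self p n.ne_zero) _
  obtain ⟨w, hw', hw1⟩ := hR12.exists_fixed_point_of_prime_dvd_card_of_fixed_point A hpA (a := 1)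
    (fun g => Subtype.ext (show (g : G) * 1 * (g : G)⁻¹ = 1 by group))
  obtain ⟨u, hu, v, hv, e⟩ := hA1 _ w.2
  have hfix : ∀ g ∈ D.root 1 2, g * (u * v) * g⁻¹ = u * v := fun g hg => by
    rw [← e]; exact congrArg Subtype.val (hw' ⟨g, hg⟩)
  have hzu : D.zz 1 * u * (D.zz 1)⁻¹ = u⁻¹ := (D.root_zz hM h01 h02 h12 hu).2.2
  have hzv : D.zz 1 * v * (D.zz 1)⁻¹ = v := conj_of_comm (D.root_zz hM h02 h01 h12.symm hv).1.symm
  have hfix' : ∀ g ∈ D.root 1 2, g * (u⁻¹ * v) * g⁻¹ = u⁻¹ * v := fun g hg => by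
    have hg' : (D.zz 1)⁻¹ * g * D.zz 1 ∈ D.root 1 2 := by
      have := D.T_root hM h12 (inv_mem (D.zz_mem_T 1)) hg
      rwa [inv_inv] at this
    conv_rhs => rw [← hzu]; arg 2; rw [← hzv]
    rw [conj_mul, ← hfix _ hg']
    nth_rw 1 [← hzu]
    nth_rw 1 [← hzv]
    group
  have hconjA : ∀ g ∈ D.root 1 2, ∀ x ∈ A, g * x * g⁻¹ ∈ A := fun g hg x hx =>
    (mem_normalizer_iff.1 (hR g hg) x).1 hx
  have hsq : ∀ g ∈ D.root 1 2, g * (u * u) * g⁻¹ = u * u := fun g hg => by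
    have e1 : u * u = u * v * (u⁻¹ * v)⁻¹ := by group
    rw [e1, ← conj_mul, ← conj_inv, hfix g hg, hfix' g hg]
  have hu1 : u = 1 := by
    by_contra hu1
    have hne : u * u ≠ 1 := fun h => hu1 (eq_one_of_sq_root hM h01 hu h)
    exact hn12 (rel_of_mem hM h01 h12 (mul_mem hu hu) hne fun y hy => (comm_of_conj (hsq y hy)).symm)
  rw [hu1, one_mul] at hfix e
  have hv1 : v ≠ 1 := fun h => hw1 (Subtype.ext (e.trans h).symm)
  have hrel : D.Rel 0 2 1 2 := rel_of_mem hM h02 h12 hv hv1 fun y hy => (comm_of_conj (hfix y hy)).symm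
  have h := hrel.perm hM h02 h12 (Equiv.swap 1 2)
  rw [Equiv.swap_apply_of_ne_of_ne h01 h02, Equiv.swap_apply_right, Equiv.swap_apply_left] at h
  exact hncol h

omit p hp [CharP F p] in
/-- `root 0 1` cannot commute with `root 0 2` only. -/
theorem no_row (hrow : D.Rel 0 1 0 2) (hncol : ¬ D.Rel 0 1 2 1) (hn12 : ¬ D.Rel 0 1 1 2)
    (_hn20 : ¬ D.Rel 0 1 2 0) : False := by
  obtain ⟨p, hchar⟩ := CharP.exists F
  haveI := Fact.mk (CharP.char_is_prime F p)
  exact no_row_aux hM p hrow hncol hn12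

end Loc

end CfsgLib.ABG.Recog
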