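import Cfsg.Agent.ABG.Recog.LinCent
import Mathlib.GroupTheory.Sylow

/-!
# Alperin-Brauer-Gorenstein, recognition half: the centraliser of a root group has a large p-part

A Sylow p-subgroup `S₀` of the normaliser of the root group in `C` has only one abelian subgroup of
that order, and it is not a Sylow subgroup of `G`.
-/

set_option autoImplicit false
set_option linter.unusedSectionVars false

namespace CfsgLib.ABG.Recog

open Matrix Subgroup CfsgLib.SL2C CfsgLib.AutPSL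

universe u

variable {G : Type u} [Group G]

/-- A p-subgroup which is not a Sylow subgroup is properly contained in a p-subgroup normalising it. -/
theorem exists_gt_normalizing [Finite G] {p : ℕ} [Fact p.Prime] {W : Subgroup G} (hW : IsPGroup p W)
    {m : ℕ} (hm : p ^ m ∣ Nat.card G) (hlt : Nat.card W < p ^ m) :
    ∃ W' : Subgroup G, IsPGroup p W' ∧ W < W' ∧ W' ≤ normalizer (W : Set G) := by
  obtain ⟨S, hS⟩ := hW.exists_le_sylow
  have hSc : p ^ m ≤ Nat.card (S : Subgroup G) :=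
    Nat.le_of_dvd Nat.card_pos (S.pow_dvd_card_of_pow_dvd_card hm)
  haveI : Group.IsNilpotent (S : Subgroup G) := S.2.isNilpotent
  have hlt' : W.subgroupOf (S : Subgroup G) < ⊤ := lt_top_iff_ne_top.2 fun h => by
    have := Subgroup.card_le_of_le (subgroupOf_eq_top.1 h)
    omega
  obtain ⟨x, hxN, hxW⟩ := SetLike.exists_of_lt (Group.normalizerCondition_of_isNilpotent _ hlt')
  have hxN' : (x : G) ∈ normalizer (W : Set G) := by
    have h2 := le_normalizer_map (S : Subgroup G).subtype (mem_map_of_mem (S : Subgroup G).subtype hxN)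
    rwa [map_subgroupOf_eq_of_le hS] at h2
  refine ⟨W ⊔ zpowers (x : G), S.2.to_le (sup_le hS (zpowers_le.2 x.2)), ?_,
    sup_le le_normalizer (zpowers_le.2 hxN')⟩
  refine lt_of_le_of_ne le_sup_left fun h => hxW ?_
  rw [mem_subgroupOf, h]
  exact mem_sup_right (mem_zpowers _)

namespace Loc

variable {F : Type} [Field F] [Fintype F] {D : Loc G F} [Finite G] [IsSimpleGroup G] (hM : D.M = dM)
  {p : ℕ} [hp : Fact p.Prime] [CharP F p]
include hM

/-- The root group and a p-subgroup of `T` contain only one abelian subgroup of order `q`. -/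
theorem abelian_eq {P B : Subgroup G} (hP : IsPGroup p P) (hPT : P ≤ D.T) (hB : B ≤ D.baseRoot ⊔ P)
    (hcomm : ∀ x ∈ B, ∀ y ∈ B, x * y = y * x) (hcard : Nat.card B = Fintype.card F) : B = D.baseRoot := by
  classical
  have hPn : P ≤ normalizer (D.baseRoot : Set G) := hPT.trans (T_norm_baseRoot hM)
  have hsupC : D.baseRoot ⊔ P ≤ D.C := sup_le D.baseRoot_le (hPT.trans D.T_le)
  have hdec : ∀ x ∈ B, ∃ b, ∃ t ∈ P, x = D.e (CfsgLib.ABG.Recog.up b) * t := by
    intro x hx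
    have h := hB hx
    rw [← SetLike.mem_coe, coe_mul_of_right_le_normalizer_left _ _ hPn] at h
    obtain ⟨e, he, t, ht, rfl⟩ := Set.mem_mul.1 h
    obtain ⟨b, rfl⟩ := D.mem_baseRoot.1 he
    exact ⟨b, t, ht, rfl⟩
  have hker : ∀ x ∈ B, ∀ hxC : x ∈ D.C, D.fieldC ⟨x, hxC⟩ = 1 → x ∈ D.baseRoot := by
    intro x hx hxC hf
    obtain ⟨b, t, ht, rfl⟩ := hdec x hx
    have hprod : (⟨D.e (CfsgLib.ABG.Recog.up b) * t, hxC⟩ : D.C) =
        ⟨_, D.e_mem (CfsgLib.ABG.Recog.up b)⟩ * ⟨t, D.T_le (hPT ht)⟩ := rfl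
    rw [hprod, map_mul, D.fieldC_e, one_mul] at hf
    obtain ⟨k, hk⟩ := hP ⟨t, ht⟩
    rw [eq_one_of_fieldC hM (hPT ht) hf (k := k) (congrArg Subtype.val hk), mul_one]
    exact D.mem_baseRoot.2 ⟨b, rfl⟩
  have hBC : B ≤ D.C := hB.trans hsupC
  let φ : B →* RingAut F := D.fieldC.comp (Subgroup.inclusion hBC)
  by_cases hne : φ.range = ⊥
  · refine eq_of_le_of_card_ge (fun x hx => hker x hx (hBC hx) ?_) (by rw [hcard, D.card_baseRoot])
    exact mem_bot.1 (hne ▸ ⟨⟨x, hx⟩, rfl⟩ : φ ⟨x, hx⟩ ∈ (⊥ : Subgroup (RingAut F)))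
  exfalso
  haveI : Finite (RingAut F) := Finite.of_injective (fun τ : F ≃+* F => (τ : F → F)) DFunLike.coe_injective
  have hrange : φ.range = (B.subgroupOf D.C).map D.fieldC := by
    ext σ
    constructor
    · rintro ⟨x, rfl⟩; exact ⟨⟨x, hBC x.2⟩, x.2, rfl⟩
    · rintro ⟨x, hx, rfl⟩; exact ⟨⟨x, hx⟩, rfl⟩
  obtain ⟨q0, hq0, hq, hlt, hq0'⟩ := fix_bound φ.range (hrange ▸ D.map_fieldC_odd _) hne
  -- elements of the kernel are fixed by the image
  have hfix : ∀ x : φ.ker, ∃ b, ((x : B) : G) = D.e (CfsgLib.ABG.Recog.up b) := fun x =>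
    D.mem_baseRoot.1 (hker _ (x : B).2 (hBC (x : B).2) x.2)
  choose β hβ using hfix
  have hrel : ∀ y : B, ∃ a : Fˣ, ∀ x : φ.ker, (a : F) * φ y (β x) = β x := by
    intro y
    obtain ⟨d, t, ht, e⟩ := hdec y y.2
    obtain ⟨a, σ, ha⟩ := exists_acts hM (hPT ht)
    have hσ : φ y = σ := by
      have h' : (Subgroup.inclusion hBC y : D.C) = ⟨_, D.e_mem (CfsgLib.ABG.Recog.up d)⟩ * ⟨t, D.T_le (hPT ht)⟩ :=
        Subtype.ext e
      show D.fieldC _ = σ
      rw [h', map_mul, D.fieldC_e, one_mul, D.fieldC_eq _ ha]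
    refine ⟨a, fun x => ?_⟩
    rw [hσ]
    have hc := hcomm _ (x : B).2 _ y.2
    rw [hβ, e, ← mul_assoc, D.baseRoot_comm (D.mem_baseRoot.2 ⟨β x, rfl⟩) (D.mem_baseRoot.2 ⟨d, rfl⟩),
      mul_assoc, mul_assoc] at hc
    have hc' := mul_left_cancel hc
    exact up_inj (D.e_inj (by rw [← ha.up, ← hc', mul_inv_cancel_right]))
  have hker_le : Nat.card φ.ker ≤ q0 := by
    by_cases h0 : ∀ x, β x = 0
    · have : φ.ker = ⊥ := eq_bot_iff.2 fun x hx => by
        rw [mem_bot]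
        refine Subtype.ext ?_
        have := hβ ⟨x, hx⟩
        rw [h0, up_zero, map_one] at this
        exact this
      rw [this, card_bot]; omega
    push Not at h0
    obtain ⟨x0, hx0⟩ := h0
    let g : φ.ker → FixedPoints.subfield φ.range F := fun x => ⟨β x / β x0, fun m => by
      obtain ⟨σ, y, rfl⟩ := m
      obtain ⟨a, ha⟩ := hrel y
      show φ y (β x / β x0) = _
      rw [map_div₀]
      conv_rhs => rw [← ha x, ← ha x0, mul_div_mul_left _ _ a.ne_zero]⟩
    rw [hq0']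
    refine Nat.card_le_card_of_injective g fun x x' h => Subtype.ext (Subtype.ext ?_)
    rw [hβ, hβ, (div_left_inj' hx0).1 (congrArg Subtype.val h)]
  have hprod : Nat.card φ.ker * Nat.card φ.range = Fintype.card F := by
    rw [← hcard, ← Subgroup.index_ker φ, Subgroup.card_mul_index]
  have h1 : q0 ^ Nat.card φ.range ≤ q0 * Nat.card φ.range := by
    rw [← hq, ← hprod]; exact Nat.mul_le_mul_right _ hker_le
  obtain ⟨m, hm⟩ : ∃ m, Nat.card φ.range = m + 1 := ⟨Nat.card φ.range - 1, by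
    have := Nat.card_pos (α := φ.range); omega⟩
  rw [hm, pow_succ, mul_comm _ q0] at h1
  rw [hm, Nat.add_sub_cancel] at hlt
  exact absurd (Nat.le_of_mul_le_mul_left h1 (by omega)) (not_le.2 hlt)

theorem baseRoot_pgroup : IsPGroup p D.baseRoot := fun x => by
  obtain ⟨b, hb⟩ := D.mem_baseRoot.1 x.2
  exact ⟨1, Subtype.ext (by
    rw [pow_one, Subgroup.coe_pow, hb, ← map_pow, up_pow, CharP.cast_eq_zero, zero_mul, up_zero, map_one]; rfl)⟩

theorem baseRoot_inf_T' : D.baseRoot ⊓ D.T = ⊥ := by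
  rw [eq_bot_iff]
  rintro x ⟨hx, hxT⟩
  obtain ⟨b, rfl⟩ := D.mem_baseRoot.1 hx
  rw [baseRoot_inf_T hM hxT, up_zero, map_one]
  exact one_mem _

/-- The odd part of the centraliser of the root group has p-subgroups larger than the root group. -/
theorem exists_big {X : Subgroup G}
    (hX : ∀ c ∈ Subgroup.centralizer (D.baseRoot : Set G), Odd (orderOf c) → c ∈ X)
    (hfus : ∀ i ∈ Subgroup.centralizer (D.baseRoot : Set G), orderOf i = 2 →
        ∃ c ∈ Subgroup.centralizer (D.baseRoot : Set G), c * D.z * c⁻¹ = i) :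
    ∃ R : Subgroup G, R ≤ X ∧ IsPGroup p R ∧ Fintype.card F < Nat.card R := by
  classical
  set q := Fintype.card F with hq
  set K := Subgroup.centralizer (D.baseRoot : Set G) with hK
  set N := normalizer (D.baseRoot : Set G) with hN
  obtain ⟨PT, hPT⟩ : ∃ P : Subgroup G, P ≤ D.T ∧ IsPGroup p P ∧
      ∀ a : ℕ, p ^ a ∣ Nat.card D.T → p ^ a ∣ Nat.card P := by
    let S : Sylow p D.T := default
    refine ⟨(S : Subgroup D.T).map D.T.subtype, map_subtype_le _, S.2.map _, fun a ha => ?_⟩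
    rw [card_map_of_injective D.T.subtype_injective]
    exact S.pow_dvd_card_of_pow_dvd_card ha
  obtain ⟨hPT, hPp, hPmax⟩ := hPT
  have hPn : PT ≤ normalizer (D.baseRoot : Set G) := hPT.trans (T_norm_baseRoot hM)
  -- the Sylow subgroup of the normaliser in `C`
  obtain ⟨S0, hS0⟩ : ∃ S0, S0 = D.baseRoot ⊔ PT := ⟨_, rfl⟩
  have hS0p : IsPGroup p S0 := hS0 ▸ IsPGroup.to_sup_of_normal_left' (baseRoot_pgroup hM) hPp hPn
  have hS0c : Nat.card S0 = q * Nat.card PT := by
    have h := CfsgLib.Solvable.card_sup_mul_card_inf hPn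
    rw [sup_comm, ← hS0, show PT ⊓ D.baseRoot = ⊥ from eq_bot_iff.2 fun x hx =>
      (baseRoot_inf_T' hM).le ⟨hx.2, hPT hx.1⟩, card_bot, mul_one, D.card_baseRoot] at h
    rw [h, mul_comm]
  obtain ⟨n, hpn, hn⟩ := FiniteField.card F p
  obtain ⟨a, ha⟩ := IsPGroup.iff_card.1 hPp
  have hG : p ^ (3 * (n : ℕ) + a) ∣ Nat.card G := by
    rw [lin_card_G hM (isLinear_of_dM hM), pow_add, pow_mul', ← hq, show q = p ^ (n : ℕ) from hn]
    exact dvd_mul_of_dvd_left (mul_dvd_mul (dvd_mul_of_dvd_left dvd_rfl _)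
      (ha ▸ Subgroup.card_dvd_of_le hPT)) _
  obtain ⟨S1, hS1p, hlt, hS1n⟩ := exists_gt_normalizing hS0p hG (by
    rw [hS0c, ha, show q = p ^ (n : ℕ) from hn, ← pow_add]
    exact Nat.pow_lt_pow_right hp.out.one_lt (by have := n.pos; omega))
  -- it normalises the root group
  have hS1N : S1 ≤ N := by
    have key : ∀ g ∈ S1, ∀ x ∈ D.baseRoot, g * x * g⁻¹ ∈ D.baseRoot := by
      intro g hg x hx
      have hB : D.baseRoot.map (MulAut.conj g).toMonoidHom = D.baseRoot := by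
        refine abelian_eq hM hPp hPT ?_ ?_ ?_
        · rintro _ ⟨y, hy, rfl⟩
          rw [← hS0]
          exact (mem_normalizer_iff.1 (hS1n hg) y).1 (hS0 ▸ mem_sup_left hy)
        · rintro _ ⟨y, hy, rfl⟩ _ ⟨y', hy', rfl⟩
          rw [← map_mul, ← map_mul, D.baseRoot_comm hy hy']
        · rw [card_map_of_injective (MulAut.conj g).injective, D.card_baseRoot]
      rw [← hB]
      exact mem_map_of_mem _ hx
    intro g hg
    refine mem_normalizer_iff.2 fun x => ⟨key g hg x, fun hx => ?_⟩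
    have := key g⁻¹ (inv_mem hg) _ hx
    rwa [inv_inv, show g⁻¹ * (g * x * g⁻¹) * g = x by group] at this
  -- the normaliser is the centraliser times its part in `C`
  obtain ⟨NC, hNC⟩ : ∃ NC, NC = D.baseRoot ⊔ D.T := ⟨_, rfl⟩
  have hNCN : NC ≤ N := hNC ▸ sup_le le_normalizer (T_norm_baseRoot hM)
  have hKn : N ≤ normalizer (K : Set G) := by
    have key : ∀ g ∈ N, ∀ c ∈ K, g * c * g⁻¹ ∈ K := by
      intro g hg c hc
      refine mem_centralizer_iff.2 fun e he => ?_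
      have hy : g⁻¹ * e * g ∈ D.baseRoot := by simpa using (mem_normalizer_iff.1 (inv_mem hg) e).1 he
      have hcm := mem_centralizer_iff.1 hc _ hy
      calc e * (g * c * g⁻¹) = g * ((g⁻¹ * e * g) * c) * g⁻¹ := by group
        _ = g * (c * (g⁻¹ * e * g)) * g⁻¹ := by rw [hcm]
        _ = g * c * g⁻¹ * e := by group
    intro g hg
    refine mem_normalizer_iff.2 fun c => ⟨key g hg c, fun hc => ?_⟩
    have := key g⁻¹ (inv_mem hg) _ hc
    rwa [inv_inv, show g⁻¹ * (g * c * g⁻¹) * g = c by group] at this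
  have hKN : K ≤ N := fun c hc => by
    refine mem_normalizer_iff.2 fun x => ⟨fun hx => ?_, fun hx => ?_⟩
    · rwa [← mem_centralizer_iff.1 hc x hx, mul_inv_cancel_right]
    · have h := mem_centralizer_iff.1 hc _ hx
      have e : c * x * c⁻¹ = x := by
        calc c * x * c⁻¹ = c⁻¹ * (c * (c * x * c⁻¹)) := by group
          _ = c⁻¹ * (c * x * c⁻¹ * c) := by rw [h]
          _ = x := by group
      rwa [e] at hx
  have hNeq : NC ⊔ K = N := le_antisymm (sup_le hNCN hKN) fun g hg => by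
    have hgK : g * D.z * g⁻¹ ∈ K := (mem_normalizer_iff.1 (hKn hg) _).1
      (mem_centralizer_iff.2 fun x hx => (D.z_comm_baseRoot hx).symm)
    obtain ⟨c, hc, e⟩ := hfus _ hgK (by rw [Invol.orderOf_conj_eq, D.order_z])
    have hd : c⁻¹ * g ∈ D.C := D.mem_C.2 (by
      calc c⁻¹ * g * D.z = c⁻¹ * (g * D.z * g⁻¹) * g := by group
        _ = D.z * (c⁻¹ * g) := by rw [← e]; group)
    obtain ⟨b, t, ht, h⟩ := norm_baseRoot_inf_C hM hd fun x hx =>
      (mem_normalizer_iff.1 (mul_mem (inv_mem (hKN hc)) hg) x).1 hx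
    rw [show g = c * (D.e (CfsgLib.ABG.Recog.up b) * t) by rw [← h, mul_inv_cancel_left]]
    exact mul_mem (mem_sup_right hc) (mem_sup_left (hNC ▸ mul_mem_sup (D.mem_baseRoot.2 ⟨b, rfl⟩) ht))
  have hinf : NC ⊓ K = D.baseRoot ⊔ D.cenL := by
    refine le_antisymm ?_ (le_inf (hNC ▸ sup_le_sup_left (cenL_le_T hM) _) (sup_le ?_ ?_))
    · rintro c ⟨hc, hcK⟩
      have hcC : c ∈ D.C := (sup_le D.baseRoot_le D.T_le : D.baseRoot ⊔ D.T ≤ D.C) (hNC ▸ hc)
      obtain ⟨b, y, hy, rfl⟩ := cen_baseRoot_inf_C hM hcC fun x hx => (mem_centralizer_iff.1 hcK x hx).symm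
      exact mul_mem_sup (D.mem_baseRoot.2 ⟨b, rfl⟩) hy
    · exact fun x hx => mem_centralizer_iff.2 fun e he => D.baseRoot_comm he hx
    · refine fun y hy => mem_centralizer_iff.2 fun e he => ?_
      obtain ⟨b, rfl⟩ := D.mem_baseRoot.1 he
      exact (D.mem_cenL.1 hy _).symm
  have hcardU : ∀ U : Subgroup G, U ≤ D.T → Nat.card (D.baseRoot ⊔ U : Subgroup G) = q * Nat.card U := by
    intro U hU
    have h := CfsgLib.Solvable.card_sup_mul_card_inf (hU.trans (T_norm_baseRoot hM))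
    rw [sup_comm, show U ⊓ D.baseRoot = ⊥ from eq_bot_iff.2 fun x hx =>
      (baseRoot_inf_T' hM).le ⟨hx.2, hU hx.1⟩, card_bot, mul_one, D.card_baseRoot] at h
    rw [h, mul_comm]
  have hNcard := CfsgLib.Solvable.card_sup_mul_card_inf (hNCN.trans hKn)
  rw [hNeq, hinf, hcardU _ (cenL_le_T hM), hNC, hcardU _ le_rfl] at hNcard
  have h1 := CfsgLib.Solvable.card_sup_mul_card_inf (hS1N.trans hKn)
  have hdvd := Subgroup.card_dvd_of_le (sup_le hS1N hKN : S1 ⊔ K ≤ N)
  -- the odd elements of `S1` in the centraliser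
  refine ⟨S1 ⊓ K, fun c hc => hX c hc.2 ?_, hS1p.to_le inf_le_left, ?_⟩
  · obtain ⟨k, hk⟩ := hS1p ⟨c, hc.1⟩
    refine (Odd.pow (n := k) (hp.out.odd_of_ne_two fun e => ?_)).of_dvd_nat
      (orderOf_dvd_of_pow_eq_one (congrArg Subtype.val hk : c ^ p ^ k = 1))
    subst e
    exact two_ne_zero_of_odd D.odd_q (by exact_mod_cast CharP.cast_eq_zero F 2)
  obtain ⟨s, hs⟩ := IsPGroup.iff_card.1 (hS1p.to_le (inf_le_left : S1 ⊓ K ≤ S1))
  obtain ⟨r, hr⟩ := IsPGroup.iff_card.1 hS1p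
  have hdiv : Nat.card S1 ∣ Nat.card D.T * Nat.card (S1 ⊓ K : Subgroup G) := by
    obtain ⟨l, hl⟩ := hdvd
    refine ⟨l * Nat.card D.cenL, Nat.eq_of_mul_eq_mul_right (Nat.mul_pos (Nat.card_pos (α := K))
      (Fintype.card_pos (α := F))) ?_⟩
    calc Nat.card D.T * Nat.card (S1 ⊓ K : Subgroup G) * (Nat.card K * q)
        = (q * Nat.card D.T * Nat.card K) * Nat.card (S1 ⊓ K : Subgroup G) := by ring
      _ = Nat.card N * (q * Nat.card D.cenL) * Nat.card (S1 ⊓ K : Subgroup G) := by rw [hNcard]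
      _ = Nat.card (S1 ⊔ K : Subgroup G) * Nat.card (S1 ⊓ K : Subgroup G) * (l * (q * Nat.card D.cenL)) := by
          rw [hl]; ring
      _ = _ := by rw [h1]; ring
  rw [hr, hs] at hdiv
  have hrs : r ≤ a + s := by
    obtain ⟨T', hT'⟩ : ∃ T', T' = Nat.card D.T := ⟨_, rfl⟩
    rw [← hT'] at hdiv hPmax
    by_contra hlt'
    have h2 : p ^ (r - s) * p ^ s ∣ T' * p ^ s := by
      rw [← pow_add, Nat.sub_add_cancel (by omega)]; exact hdiv
    have h3 := hPmax _ (Nat.dvd_of_mul_dvd_mul_right (pow_pos hp.out.pos s) h2)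
    rw [ha] at h3
    have := (Nat.pow_dvd_pow_iff_le_right hp.out.one_lt).1 h3
    omega
  have hbig : Nat.card S0 < Nat.card S1 := by
    by_contra hge
    exact hlt.ne (eq_of_le_of_card_ge hlt.le (not_lt.1 hge))
  rw [hS0c, ha, show q = p ^ (n : ℕ) from hn, ← pow_add, hr] at hbig
  have hnr := (Nat.pow_lt_pow_iff_right hp.out.one_lt).1 hbig
  rw [hs, show q = p ^ (n : ℕ) from hn]
  exact Nat.pow_lt_pow_right hp.out.one_lt (by omega)

end Loc

end CfsgLib.ABG.Recog
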