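import Cfsg.Agent.ABG.Recog.Roots
import Cfsg.Agent.ABG.Recog.LinNorm
import Cfsg.Agent.Solvable.CoprimeAct
import Cfsg.Agent.Recog.OddInvolution

/-!
# Alperin-Brauer-Gorenstein, recognition half: which root groups commute

In the linear type the root group `root 0 1` commutes elementwise with one of the four root groups
at the other two involutions, and not with both root groups at the same involution.
-/

set_option autoImplicit false
set_option linter.unusedSectionVars false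

namespace CfsgLib.ABG.Recog

open Matrix Subgroup CfsgLib.SL2C

universe u

variable {G : Type u} [Group G]

/-- An involution acting without fixed points on a group of odd order inverts it. -/
theorem inverted_of_fpf [Finite G] {Y : Subgroup G} {u : G} (hu : u * u = 1)
    (hn : ∀ y ∈ Y, u * y * u⁻¹ ∈ Y) (hfix : ∀ y ∈ Y, u * y = y * u → y = 1) {y : G} (hy : y ∈ Y) :
    u * y * u⁻¹ = y⁻¹ := by
  let φ : Y →* Y := MonoidHom.mk' (fun y => ⟨u * y * u⁻¹, hn y y.2⟩) fun a b =>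
    Subtype.ext (by simp [mul_assoc])
  have hf : MonoidHom.FixedPointFree φ := fun a ha =>
    Subtype.ext (hfix a a.2 (mul_inv_eq_iff_eq_mul.1 (congrArg Subtype.val ha)))
  have hinv : Function.Involutive φ := fun a => Subtype.ext (by
    show u * (u * a * u⁻¹) * u⁻¹ = a
    rw [inv_eq_of_mul_eq_one_right hu]
    calc u * (u * a * u) * u = (u * u) * a * (u * u) := by group
      _ = a := by rw [hu, one_mul, mul_one])
  have := congrFun (MonoidHom.FixedPointFree.coe_eq_inv_of_involutive hf hinv) ⟨y, hy⟩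
  exact congrArg Subtype.val this

namespace Loc

variable {F : Type} [Field F] [Fintype F] (D : Loc G F)

/-- Two root groups commute elementwise. -/
def Rel (i j k l : Fin 3) : Prop := ∀ x ∈ D.root i j, ∀ y ∈ D.root k l, x * y = y * x

theorem Rel.symm {i j k l : Fin 3} (h : D.Rel i j k l) : D.Rel k l i j := fun x hx y hy => (h y hy x hx).symm

variable {D} (hM : D.M = dM)
include hM

theorem Rel.perm {i j k l : Fin 3} (hij : i ≠ j) (hkl : k ≠ l) (h : D.Rel i j k l) (σ : Equiv.Perm (Fin 3)) :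
    D.Rel (σ i) (σ j) (σ k) (σ l) := by
  obtain ⟨n, hn⟩ := D.exists_conj hM σ
  rw [Rel, ← D.root_conj hM hn hij, ← D.root_conj hM hn hkl]
  rintro _ ⟨x, hx, rfl⟩ _ ⟨y, hy, rfl⟩
  rw [← map_mul, ← map_mul, h x hx y hy]

theorem mem_root_zero_one {x : G} : x ∈ D.root 0 1 ↔ ∃ b, x = D.e (CfsgLib.ABG.Recog.up b) := by
  rw [D.root_zero_one hM, D.mem_baseRoot]

/-- A nontrivial element of a root group centralising another root group forces the relation. -/
theorem rel_of_mem {i j k l : Fin 3} (hij : i ≠ j) (hkl : k ≠ l) {x : G} (hx : x ∈ D.root i j)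
    (hx1 : x ≠ 1) (hc : ∀ y ∈ D.root k l, x * y = y * x) : D.Rel i j k l := by
  obtain ⟨σ, hσ0, hσ1⟩ := exists_perm_of_ne hij
  obtain ⟨n, hn⟩ := D.exists_conj hM σ
  have hi : n * D.zz 0 * n⁻¹ = D.zz i := hσ0 ▸ hn 0
  have hj : n * D.zz 1 * n⁻¹ = D.zz j := hσ1 ▸ hn 1
  obtain ⟨b, rfl⟩ := (D.mem_root hM hij hi hj).1 hx
  have hb : b ≠ 0 := fun e => hx1 (by rw [e, up_zero, map_one]; group)
  intro x' hx'
  obtain ⟨b', rfl⟩ := (D.mem_root hM hij hi hj).1 hx'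
  by_cases hb' : b' = 0
  · intro y _; rw [hb', up_zero, map_one]; group
  obtain ⟨t, ht, hta⟩ := exists_acts_of hM (Units.mk0 _ (div_ne_zero hb' hb))
  obtain ⟨s, hs⟩ : ∃ s, s = n * t * n⁻¹ := ⟨_, rfl⟩
  have hsT : s ∈ D.T := by
    have hz : ∀ a, s * D.zz (σ a) * s⁻¹ = D.zz (σ a) := fun a => by
      rw [← hn a, hs]
      calc n * t * n⁻¹ * (n * D.zz a * n⁻¹) * (n * t * n⁻¹)⁻¹ = n * (t * D.zz a * t⁻¹) * n⁻¹ := by group
        _ = _ := by rw [conj_of_comm (D.T_zz ht a)]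
    exact D.mem_T_of_fix hij (hσ0 ▸ hz 0) (hσ1 ▸ hz 1)
  have e : n * D.e (CfsgLib.ABG.Recog.up b') * n⁻¹ = s * (n * D.e (CfsgLib.ABG.Recog.up b) * n⁻¹) * s⁻¹ := by
    rw [hs]
    calc n * D.e (CfsgLib.ABG.Recog.up b') * n⁻¹ = n * (t * D.e (CfsgLib.ABG.Recog.up b) * t⁻¹) * n⁻¹ := by
          rw [hta.up, Units.val_mk0, RingEquiv.refl_apply, div_mul_cancel₀ _ hb]
      _ = _ := by group
  intro y hy
  have hy' : s⁻¹ * y * s ∈ D.root k l := by simpa using D.T_root hM hkl (inv_mem hsT) hy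
  have h := hc _ hy'
  rw [e]
  calc s * (n * D.e (CfsgLib.ABG.Recog.up b) * n⁻¹) * s⁻¹ * y
      = s * (n * D.e (CfsgLib.ABG.Recog.up b) * n⁻¹ * (s⁻¹ * y * s)) * s⁻¹ := by group
    _ = s * ((s⁻¹ * y * s) * (n * D.e (CfsgLib.ABG.Recog.up b) * n⁻¹)) * s⁻¹ := by rw [h]
    _ = y * (s * (n * D.e (CfsgLib.ABG.Recog.up b) * n⁻¹) * s⁻¹) := by group

/-- `root 0 1` does not commute with both root groups at one of the other involutions. -/
theorem not_both {a k l : Fin 3} (hkl : k ≠ l) (hak : a ≠ k) (hal : a ≠ l) (ha : a ≠ 2)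
    (h1 : D.Rel 0 1 k l) (h2 : D.Rel 0 1 l k) : False := by
  obtain ⟨σ, hσ0, hσ1, hσ2⟩ := perm_two hkl hak.symm hal.symm
  obtain ⟨n, hn⟩ := D.exists_conj hM σ
  obtain ⟨x, hx⟩ : ∃ x, x = D.e (CfsgLib.ABG.Recog.up (1 : F)) := ⟨_, rfl⟩
  have hx01 : x ∈ D.root 0 1 := (mem_root_zero_one hM).2 ⟨1, hx⟩
  obtain ⟨u, hu⟩ : ∃ u : SL F, u = CfsgLib.ABG.Recog.up 1 * low (-1) * CfsgLib.ABG.Recog.up 1 := ⟨_, rfl⟩
  have huw : u = wel := mt_injective (by
    rw [hu, mt_mul, mt_mul]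
    ext i j; fin_cases i <;> fin_cases j <;>
      simp [CfsgLib.ABG.Recog.up, low, wel, Matrix.mul_apply, Fin.sum_univ_two])
  have hkl' : ∀ b, n * D.e (CfsgLib.ABG.Recog.up b) * n⁻¹ ∈ D.root k l := fun b =>
    (D.mem_root hM hkl (hσ0 ▸ hn 0) (hσ1 ▸ hn 1)).2 ⟨b, rfl⟩
  have hlk' : ∀ b, n * D.e (low b) * n⁻¹ ∈ D.root l k := fun b => by
    rw [← hσ0, ← hσ1, ← D.root_conj hM hn (show (1 : Fin 3) ≠ 0 by decide)]
    exact mem_map_of_mem _ ((D.mem_root_one_zero hM).2 ⟨b, rfl⟩)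
  have hcw : Commute x (n * D.e u * n⁻¹) := by
    rw [hu, map_mul, map_mul, show n * (D.e (CfsgLib.ABG.Recog.up 1) * D.e (low (-1)) * D.e (CfsgLib.ABG.Recog.up 1)) * n⁻¹ =
      n * D.e (CfsgLib.ABG.Recog.up 1) * n⁻¹ * (n * D.e (low (-1)) * n⁻¹) * (n * D.e (CfsgLib.ABG.Recog.up 1) * n⁻¹) by group]
    exact ((show Commute x _ from h1 _ hx01 _ (hkl' 1)).mul_right (h2 _ hx01 _ (hlk' (-1)))).mul_right
      (h1 _ hx01 _ (hkl' 1))
  have hzz : n * D.e u * n⁻¹ * (n * D.e u * n⁻¹) = D.zz a := by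
    rw [← hσ2, ← hn 2, huw]
    calc n * D.e wel * n⁻¹ * (n * D.e wel * n⁻¹) = n * (D.e wel * D.e wel) * n⁻¹ := by group
      _ = _ := by rw [← map_mul, wel_sq, D.e_neg]; rfl
  have hca : Commute x (D.zz a) := hzz ▸ hcw.mul_right hcw
  have hinv : D.zz a * x * (D.zz a)⁻¹ = x⁻¹ := by
    have h := (D.root_zz hM (show (0 : Fin 3) ≠ 1 by decide) (show (0 : Fin 3) ≠ 2 by decide)
      (show (1 : Fin 3) ≠ 2 by decide) hx01).2
    rcases (show a = 0 ∨ a = 1 by clear * - ha; revert a; decide) with rfl | rfl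
    exacts [h.1, h.2]
  rw [← hca.eq, mul_inv_cancel_right, hx, ← map_inv, up_inv] at hinv
  have h11 := up_inj (D.e_inj hinv)
  exact two_ne_zero_of_odd D.odd_q (by linear_combination h11)

omit hM in
theorem rho_perm : ∃ σ : Equiv.Perm (Fin 3), σ 0 = 1 ∧ σ 1 = 2 ∧ σ 2 = 0 := by decide

theorem cyc_iff : D.Rel 0 1 1 2 ↔ D.Rel 0 1 2 0 := by
  obtain ⟨σ, h0, h1, h2⟩ := rho_perm
  constructor
  · intro h
    have h' := (h.perm hM (by decide) (by decide) σ).perm hM (σ.injective.ne (by decide))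
      (σ.injective.ne (by decide)) σ
    simp only [h0, h1, h2] at h'
    exact h'.symm
  · intro h
    have h' := h.perm hM (by decide) (by decide) σ
    simp only [h0, h1, h2] at h'
    exact h'.symm

variable [Finite G] [IsSimpleGroup G] {p : ℕ} [hp : Fact p.Prime] [CharP F p]

omit hM in
theorem pos_p_odd (D : Loc G F) : p ≠ 2 := by
  rintro rfl
  exact two_ne_zero_of_odd D.odd_q (by exact_mod_cast CharP.cast_eq_zero F 2)

/-- A p-element of `C` inverted by `z₁` lies in one of the two root groups of the component. -/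
theorem mem_of_inverted_base {r : G} (hr : r ∈ D.C) (hinv : D.z₁ * r * D.z₁⁻¹ = r⁻¹) {k : ℕ}
    (hk : r ^ p ^ k = 1) : r ∈ D.root 0 1 ∨ r ∈ D.root 1 0 := by
  obtain ⟨x, t, ht, rfl⟩ := D.exists_decomp hr
  have hz₁ : D.z₁⁻¹ = D.z₁ := Invol.inv_eq_self D.order_z₁
  -- the square lies in the component
  have hsq : D.e x * t * (D.e x * t) ∈ D.L := by
    have e : D.e x * t * (D.e x * t) = D.e x * t * (D.z₁ * (D.e x * t) * D.z₁⁻¹)⁻¹ := by rw [hinv, inv_inv]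
    rw [e, show D.z₁ * (D.e x * t) * D.z₁⁻¹ = D.z₁ * D.e x * D.z₁⁻¹ * (D.z₁ * t * D.z₁⁻¹) by group,
      conj_of_comm (D.mem_T.1 ht).2.symm, D.z₁_act, _root_.mul_inv_rev, ← mul_assoc, mul_inv_cancel_right]
    exact mul_mem ⟨_, rfl⟩ (inv_mem ⟨_, rfl⟩)
  have hodd : Odd (orderOf (D.e x * t)) :=
    (Odd.pow (hp.out.odd_of_ne_two (pos_p_odd D))).of_dvd_nat (orderOf_dvd_of_pow_eq_one hk)
  have hL : D.e x * t ∈ D.L := by
    obtain ⟨j, hj⟩ := hodd
    obtain ⟨r, hr⟩ : ∃ r, r = D.e x * t := ⟨_, rfl⟩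
    rw [← hr] at hj hsq ⊢
    have e : r = (r * r) ^ (j + 1) := by
      rw [← pow_two, ← pow_mul, show 2 * (j + 1) = orderOf r + 1 by omega, pow_succ, pow_orderOf_eq_one, one_mul]
    rw [e]
    exact pow_mem hsq _
  obtain ⟨y, hy⟩ := hL
  rw [← hy] at hinv hk ⊢
  rw [D.z₁_act, hM, ← map_inv] at hinv
  have hm := congrArg SL2C.mt (D.e_inj hinv)
  rw [dM_conj, mt_inv] at hm
  rw [← map_pow, ← map_one D.e] at hk
  have hp0 : p ^ k ≠ 0 := pow_ne_zero _ hp.out.ne_zero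
  obtain ⟨s, hs⟩ : ∃ s, s = SL2C.mt y 0 0 := ⟨_, rfl⟩
  have h00 := congrFun (congrFun hm 0) 0
  simp [Matrix.trace_fin_two] at h00
  -- the matrix is unipotent
  have hpow : (SL2C.mt y - 1) ^ p ^ k = 0 := by
    haveI : CharP (Matrix (Fin 2) (Fin 2) F) p := inferInstance
    rw [sub_pow_char_pow_of_commute _ _ (Commute.one_right _), one_pow]
    have h := congrArg SL2C.mt (D.e_inj hk)
    have hmp : ∀ n : ℕ, SL2C.mt (y ^ n) = SL2C.mt y ^ n := fun n => by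
      induction n with
      | zero => simp [mt_one]
      | succ n ih => rw [pow_succ, pow_succ, mt_mul, ih]
    rw [hmp, mt_one] at h
    rw [h, sub_self]
  have hnil : IsNilpotent (SL2C.mt y - 1) := ⟨_, hpow⟩
  have htr := (Matrix.isNilpotent_trace_of_isNilpotent hnil).eq_zero
  rw [Matrix.trace_sub, Matrix.trace_fin_two, Matrix.trace_one, Fintype.card_fin] at htr
  push_cast at htr
  have h2 := two_ne_zero_of_odd D.odd_q
  have hdd : SL2C.mt y 1 1 = SL2C.mt y 0 0 := by linear_combination -h00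
  have hs1 : SL2C.mt y 0 0 = 1 := mul_left_cancel₀ h2 (by linear_combination htr - hdd)
  have hdet := det_mt y
  rw [det_fin_two, hdd, hs1] at hdet
  have hbc : SL2C.mt y 0 1 * SL2C.mt y 1 0 = 0 := by linear_combination -hdet
  rw [mem_root_zero_one hM, D.mem_root_one_zero hM]
  rcases mul_eq_zero.1 hbc with h | h
  · refine Or.inr ⟨SL2C.mt y 1 0, congrArg D.e (mt_injective ?_)⟩
    ext i j; fin_cases i <;> fin_cases j <;> simp [low, h, hs1, hdd]
  · refine Or.inl ⟨SL2C.mt y 0 1, congrArg D.e (mt_injective ?_)⟩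
    ext i j; fin_cases i <;> fin_cases j <;> simp [CfsgLib.ABG.Recog.up, h, hs1, hdd]

/-- A p-element commuting with one involution and inverted by the others lies in a root group. -/
theorem mem_of_inverted {i j k : Fin 3} (hij : i ≠ j) (hik : i ≠ k) (hjk : j ≠ k) {r : G}
    (hr : r * D.zz k = D.zz k * r) (hinv : D.zz i * r * (D.zz i)⁻¹ = r⁻¹) {n : ℕ} (hn : r ^ p ^ n = 1) :
    r ∈ D.root i j ∨ r ∈ D.root j i := by
  obtain ⟨σ, hσ0, hσ1, hσ2⟩ := perm_two hij hik hjk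
  obtain ⟨g, hg⟩ := D.exists_conj hM σ
  have hi : g * D.zz 0 * g⁻¹ = D.zz i := hσ0 ▸ hg 0
  have hk : g * D.zz 2 * g⁻¹ = D.zz k := hσ2 ▸ hg 2
  obtain ⟨r', hr'⟩ : ∃ r', r' = g⁻¹ * r * g := ⟨_, rfl⟩
  have e : r = g * r' * g⁻¹ := by rw [hr']; group
  have hC : r' ∈ D.C := D.mem_C.2 (by
    show r' * D.zz 2 = D.zz 2 * r'
    rw [← hk, e] at hr
    calc r' * D.zz 2 = g⁻¹ * (g * r' * g⁻¹ * (g * D.zz 2 * g⁻¹)) * g := by group
      _ = D.zz 2 * r' := by rw [hr]; group)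
  have h0 : D.z₁ * r' * D.z₁⁻¹ = r'⁻¹ := by
    show D.zz 0 * r' * (D.zz 0)⁻¹ = r'⁻¹
    rw [← hi, e] at hinv
    calc D.zz 0 * r' * (D.zz 0)⁻¹ = g⁻¹ * (g * D.zz 0 * g⁻¹ * (g * r' * g⁻¹) * (g * D.zz 0 * g⁻¹)⁻¹) * g := by
          group
      _ = r'⁻¹ := by rw [hinv]; group
  have hp' : r' ^ p ^ n = 1 := by
    rw [hr', show g⁻¹ * r * g = g⁻¹ * r * g⁻¹⁻¹ by group, conj_pow, hn]; group
  rw [← hσ0, ← hσ1, ← D.root_conj hM hg (show (0 : Fin 3) ≠ 1 by decide),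
    ← D.root_conj hM hg (show (1 : Fin 3) ≠ 0 by decide), e]
  exact (mem_of_inverted_base hM hC h0 hp').imp (mem_map_of_mem _) (mem_map_of_mem _)

/-- A p-element of `C` centralising `root 0 1` lies in it. -/
theorem mem_of_cen {r : G} (hr : r ∈ D.C) (hc : ∀ x ∈ D.baseRoot, r * x = x * r) {k : ℕ}
    (hk : r ^ p ^ k = 1) : r ∈ D.baseRoot := by
  obtain ⟨b, y, hy, rfl⟩ := cen_baseRoot_inf_C hM hr hc
  have hcm : Commute (D.e (CfsgLib.ABG.Recog.up b)) y := (D.mem_cenL.1 hy _).symm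
  rw [hcm.mul_pow, ← map_pow, up_pow] at hk
  rcases Nat.eq_zero_or_pos k with rfl | hk0
  · simp only [pow_zero, pow_one, Nat.cast_one, one_mul] at hk
    rw [hk]; exact one_mem _
  rw [show ((p ^ k : ℕ) : F) = 0 by rw [Nat.cast_pow, CharP.cast_eq_zero, zero_pow hk0.ne'],
    zero_mul, up_zero, map_one, one_mul] at hk
  obtain ⟨i, -, hi⟩ := (Nat.dvd_prime_pow hp.out).1 (orderOf_dvd_of_pow_eq_one hk)
  rcases Nat.eq_zero_or_pos i with rfl | hi0
  · rw [pow_zero, orderOf_eq_one_iff] at hi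
    rw [hi, mul_one]; exact D.mem_baseRoot.2 ⟨b, rfl⟩
  · exfalso
    refine not_dvd_card_cenL hM (p := p) ((dvd_pow_self p hi0.ne').trans ?_)
    rw [← hi, ← orderOf_mk y hy]
    exact orderOf_dvd_natCard _

/-- The odd part of the centraliser of `root 0 1`, with an invariant Sylow p-subgroup. -/
theorem exists_inv_sylow {W : Subgroup G} (hW : ∀ x ∈ W, ∀ y ∈ D.baseRoot, x * y = y * x)
    (hWp : IsPGroup p W) (hWU : ∀ a, ∀ x ∈ W, D.zz a * x * (D.zz a)⁻¹ ∈ W) :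
    ∃ R : Subgroup G, W ≤ R ∧ IsPGroup p R ∧ Odd (Nat.card R) ∧
      R ≤ Subgroup.centralizer (D.baseRoot : Set G) ∧
      (∀ a, D.zz a ∈ normalizer (R : Set G)) ∧ Fintype.card F < Nat.card R ∧
      ∀ W' : Subgroup G, (∀ x ∈ W', ∀ y ∈ D.baseRoot, x * y = y * x) → IsPGroup p W' →
        (∀ a, ∀ x ∈ W', D.zz a * x * (D.zz a)⁻¹ ∈ W') → ∃ t ∈ D.T, ∀ x ∈ W', t * x * t⁻¹ ∈ R := by
  classical
  obtain ⟨X, hXodd, hXK, hX, hXn, hfus⟩ := exists_complement hM
  obtain ⟨R0, hR0, hR0p, hR0c⟩ := exists_big hM (p := p) hX hfus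
  obtain ⟨U, hU⟩ : ∃ U : Subgroup G, U = zpowers (D.zz 2) ⊔ zpowers (D.zz 0) := ⟨_, rfl⟩
  have hz2 : ∀ a, IsPGroup 2 (zpowers (D.zz a)) := fun a =>
    IsPGroup.of_card (n := 1) (by rw [Nat.card_zpowers, D.zz_order, pow_one])
  have hcn : zpowers (D.zz 0) ≤ normalizer (zpowers (D.zz 2) : Set G) := by
    rw [zpowers_le]
    refine mem_normalizer_iff.2 fun x => ⟨fun hx => ?_, fun hx => ?_⟩
    · obtain ⟨k, rfl⟩ := mem_zpowers_iff.1 hx
      rw [← conj_zpow, conj_of_comm (D.zz_comm 0 2)]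
      exact zpow_mem (mem_zpowers _) _
    · obtain ⟨k, hk⟩ := mem_zpowers_iff.1 hx
      refine mem_zpowers_iff.2 ⟨k, ?_⟩
      have : D.zz 0 * D.zz 2 ^ k * (D.zz 0)⁻¹ = D.zz 0 * x * (D.zz 0)⁻¹ := by
        rw [← conj_zpow, conj_of_comm (D.zz_comm 0 2), hk]
      exact mul_left_cancel (mul_right_cancel this)
  have hU2 : IsPGroup 2 U := hU ▸ IsPGroup.to_sup_of_normal_left' (hz2 2) (hz2 0) hcn
  have hUT : U ≤ D.T := hU ▸ sup_le (zpowers_le.2 (D.zz_mem_T 2)) (zpowers_le.2 (D.zz_mem_T 0))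
  have hUX : U ≤ normalizer (X : Set G) := fun u hu => hXn u (T_norm_baseRoot hM (hUT hu))
  have hcop : (Nat.card U).Coprime (Nat.card X) := by
    obtain ⟨n, hn⟩ := IsPGroup.iff_card.1 hU2
    rw [hn]; exact (Nat.coprime_two_left.2 hXodd).pow_left _
  have hsolv : Group.IsSolvable U ∨ Group.IsSolvable X := by
    haveI : Fact (Nat.Prime 2) := ⟨Nat.prime_two⟩
    haveI := hU2.isNilpotent
    exact Or.inl inferInstance
  have hzU : ∀ a, D.zz a ∈ U := by
    have h2 : D.zz 2 ∈ U := hU ▸ mem_sup_left (mem_zpowers _)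
    have h0 : D.zz 0 ∈ U := hU ▸ mem_sup_right (mem_zpowers _)
    intro a
    fin_cases a
    · exact h0
    · show D.zz 1 ∈ U
      rw [← D.zz_mul (show (0 : Fin 3) ≠ 2 by decide) (show (0 : Fin 3) ≠ 1 by decide)
        (show (2 : Fin 3) ≠ 1 by decide)]
      exact mul_mem h0 h2
    · exact h2
  have hinX : ∀ W : Subgroup G, (∀ x ∈ W, ∀ y ∈ D.baseRoot, x * y = y * x) → IsPGroup p W →
      (∀ a, ∀ x ∈ W, D.zz a * x * (D.zz a)⁻¹ ∈ W) → W ≤ X ∧ U ≤ normalizer (W : Set G) := by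
    intro W hW hWp hWU
    refine ⟨fun x hx => hX x (mem_centralizer_iff.2 fun y hy => (hW x hx y hy).symm) ?_, ?_⟩
    · obtain ⟨k, hk⟩ := hWp ⟨x, hx⟩
      exact (Odd.pow (n := k) (hp.out.odd_of_ne_two (pos_p_odd D))).of_dvd_nat
        (orderOf_dvd_of_pow_eq_one (congrArg Subtype.val hk : x ^ p ^ k = 1))
    · have hz : ∀ a, D.zz a ∈ normalizer (W : Set G) := fun a => by
        refine mem_normalizer_iff.2 fun x => ⟨hWU a x, fun hx => ?_⟩
        have h := hWU a _ hx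
        rw [show D.zz a * (D.zz a * x * (D.zz a)⁻¹) * (D.zz a)⁻¹ = (D.zz a * D.zz a) * x * (D.zz a * D.zz a)⁻¹ by group,
          D.zz_sq, one_mul, inv_one, mul_one] at h
        exact h
      exact hU ▸ sup_le (zpowers_le.2 (hz 2)) (zpowers_le.2 (hz 0))
  obtain ⟨hWX, hUW⟩ := hinX W hW hWp hWU
  obtain ⟨P, hWP, hPU⟩ := CoprimeAct.exists_invariant_sylow_ge hUX hcop hsolv p hWX hWp hUW
  refine ⟨(P : Subgroup X).map X.subtype, hWP, P.2.map _, hXodd.of_dvd_nat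
      (Subgroup.card_dvd_of_le (map_subtype_le _)), (map_subtype_le _).trans hXK,
    fun a => hPU (hzU a), hR0c.trans_le ?_, fun W' hW' hWp' hWU' => ?_⟩
  · obtain ⟨m, hm⟩ := IsPGroup.iff_card.1 hR0p
    rw [card_map_of_injective X.subtype_injective]
    refine Nat.le_of_dvd Nat.card_pos (hm ▸ P.pow_dvd_card_of_pow_dvd_card ?_)
    rw [← hm]; exact Subgroup.card_dvd_of_le hR0
  · obtain ⟨hWX', hUW'⟩ := hinX W' hW' hWp' hWU'
    obtain ⟨Q, hWQ, hQU⟩ := CoprimeAct.exists_invariant_sylow_ge hUX hcop hsolv p hWX' hWp' hUW'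
    obtain ⟨c, hc, hcQ⟩ := CoprimeAct.invariant_sylow_conj hUX hcop hsolv p Q P hQU hPU
    refine ⟨c, ?_, fun x hx => ?_⟩
    · refine D.mem_T_of_fix (show (0 : Fin 3) ≠ 2 by decide) ?_ ?_
      · exact conj_of_comm (mem_centralizer_iff.1 hc _ (hzU 0)).symm
      · exact conj_of_comm (mem_centralizer_iff.1 hc _ (hzU 2)).symm
    · obtain ⟨y, hy, rfl⟩ := hWQ hx
      exact ⟨c * y * c⁻¹, hcQ ▸ (Subgroup.mem_pointwise_smul_iff_inv_smul_mem.2
        (by simp [mul_assoc]; exact hy)), rfl⟩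

/-- `root 0 1` commutes with one of the root groups at the other involutions. -/
theorem exists_rel : D.Rel 0 1 1 2 ∨ D.Rel 0 1 2 1 ∨ D.Rel 0 1 0 2 ∨ D.Rel 0 1 2 0 := by
  classical
  obtain ⟨p, hchar⟩ := CharP.exists F
  haveI := Fact.mk (CharP.char_is_prime F p)
  obtain ⟨R, -, hRp, hRodd, hRK, hRn, hRc, -⟩ := exists_inv_sylow hM (p := p) (W := ⊥)
    (fun x hx y _ => by rw [mem_bot.1 hx, one_mul, mul_one]) (IsPGroup.of_bot)
    (fun a x hx => by rw [mem_bot.1 hx]; simp)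
  by_contra hno
  push Not at hno
  have hcm : ∀ r ∈ R, ∀ x ∈ D.root 0 1, r * x = x * r := fun r hr x hx =>
    (mem_centralizer_iff.1 (hRK hr) x (by rwa [← D.root_zero_one hM])).symm
  have hfixz : ∀ r ∈ R, r * D.zz 2 = D.zz 2 * r → r ∈ D.baseRoot := fun r hr h => by
    obtain ⟨k, hk⟩ := hRp ⟨r, hr⟩
    exact mem_of_cen hM (D.mem_C.2 h) (fun x hx => hcm r hr x (by rwa [D.root_zero_one hM]))
      (k := k) (congrArg Subtype.val hk)
  have hside : ∀ a, a ≠ 2 → ∀ r ∈ R, r * D.zz a = D.zz a * r → r ∈ D.baseRoot := by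
    intro a ha r hr h
    obtain ⟨Y, hY⟩ : ∃ Y, Y = R ⊓ Subgroup.centralizer ({D.zz a} : Set G) := ⟨_, rfl⟩
    have hinv := inverted_of_fpf (Y := Y) (D.zz_sq 2) (fun y hy => by
        rw [hY] at hy ⊢
        refine ⟨(mem_normalizer_iff.1 (hRn 2) y).1 hy.1, mem_cen_iff.2 ?_⟩
        have h1 := mem_cen_iff.1 hy.2
        calc D.zz 2 * y * (D.zz 2)⁻¹ * D.zz a = D.zz 2 * y * (D.zz 2)⁻¹ * (D.zz 2 * D.zz a * (D.zz 2)⁻¹) := by
              rw [conj_of_comm (D.zz_comm 2 a)]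
          _ = D.zz 2 * (y * D.zz a) * (D.zz 2)⁻¹ := by group
          _ = D.zz 2 * D.zz a * (D.zz 2)⁻¹ * (D.zz 2 * y * (D.zz 2)⁻¹) := by rw [h1]; group
          _ = D.zz a * (D.zz 2 * y * (D.zz 2)⁻¹) := by rw [conj_of_comm (D.zz_comm 2 a)])
      (fun y hy hyz => by
        rw [hY] at hy
        obtain ⟨b, rfl⟩ := D.mem_baseRoot.1 (hfixz y hy.1 hyz.symm)
        have h1 := mem_cen_iff.1 hy.2
        have h2 : D.e (CfsgLib.ABG.Recog.up b) ∈ D.T := by
          rw [← D.zz_cen2 ha.symm]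
          exact ⟨mem_cen_iff.2 hyz.symm, mem_cen_iff.2 h1⟩
        rw [baseRoot_inf_T hM h2, up_zero, map_one]) (y := r) (hY ▸ ⟨hr, mem_cen_iff.2 h⟩)
    obtain ⟨k, hk⟩ := hRp ⟨r, hr⟩
    by_cases h1 : r = 1
    · rw [h1]; exact one_mem _
    exfalso
    rcases (show a = 0 ∨ a = 1 by clear * - ha; revert a; decide) with rfl | rfl
    · rcases mem_of_inverted hM (i := 2) (j := 1) (k := 0) (by decide) (by decide) (by decide) h hinv
        (n := k) (congrArg Subtype.val hk) with hm | hm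
      · exact hno.2.1 (rel_of_mem hM (by decide) (by decide) hm h1 (hcm r hr)).symm
      · exact hno.1 (rel_of_mem hM (by decide) (by decide) hm h1 (hcm r hr)).symm
    · rcases mem_of_inverted hM (i := 2) (j := 0) (k := 1) (by decide) (by decide) (by decide) h hinv
        (n := k) (congrArg Subtype.val hk) with hm | hm
      · exact hno.2.2.2 (rel_of_mem hM (by decide) (by decide) hm h1 (hcm r hr)).symm
      · exact hno.2.2.1 (rel_of_mem hM (by decide) (by decide) hm h1 (hcm r hr)).symm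
  have hle : R ≤ D.baseRoot := by
    have hn : ∀ a, ∀ r ∈ R, D.zz a * r * D.zz a ∈ R := fun a r hr => by
      have := (mem_normalizer_iff.1 (hRn a) r).1 hr
      rwa [Invol.inv_eq_self (D.zz_order a)] at this
    refine CfsgLib.Recog.le_of_fourGroup hRodd (D.zz_sq 2) (D.zz_sq 0) (D.zz_comm 2 0)
      (hn 2) (hn 0) ?_ ?_ ?_
    · exact fun r hr => hfixz r hr.1 (mem_cen_iff.1 hr.2)
    · exact fun r hr => hside 0 (by decide) r hr.1 (mem_cen_iff.1 hr.2)
    · intro r hr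
      refine hside 1 (by decide) r hr.1 ?_
      rw [← D.zz_mul (show (2 : Fin 3) ≠ 0 by decide) (show (2 : Fin 3) ≠ 1 by decide) (show (0 : Fin 3) ≠ 1 by decide)]
      exact mem_cen_iff.1 hr.2
  have := Subgroup.card_le_of_le hle
  rw [D.card_baseRoot] at this
  omega

end Loc

end CfsgLib.ABG.Recog
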