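import Cfsg.Agent.ABG.Recog.Twist
import Mathlib.FieldTheory.Fixed
import Mathlib.RingTheory.IntegralDomain

/-!
# Alperin-Brauer-Gorenstein, recognition half: the torus in the linear type

With `D.M = diag(1, -1)`: elements of `T` act on the component by diagonal semilinear maps; the
torus of one component acts on the next one by all multiplications; the centraliser of a component
is cyclic of order dividing `q - 1`.
-/

set_option autoImplicit false
set_option linter.unusedSectionVars false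

namespace CfsgLib.ABG.Recog

open Matrix Subgroup CfsgLib.SL2C CfsgLib.AutPSL

universe u

variable {F : Type} [Field F] [Fintype F]

/-- A field automorphism of odd order which fixes an element of almost full order is trivial. -/
theorem ringAut_eq_one_of_order {σ : RingAut F} (hodd : Odd (orderOf σ)) {N : Fˣ}
    (hN : σ (N : F) = N) (h : Fintype.card F - 1 ∣ orderOf σ * orderOf N) : σ = 1 := by
  classical
  by_contra hne
  haveI : Finite (F ≃+* F) := Finite.of_injective _ DFunLike.coe_injective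
  haveI := Fintype.ofFinite (Subgroup.zpowers σ)
  let K := FixedPoints.subfield (Subgroup.zpowers σ) F
  have hq : Fintype.card F = Nat.card K ^ orderOf σ := by
    rw [← Nat.card_eq_fintype_card, Module.natCard_eq_pow_finrank (K := K),
      FixedPoints.finrank_eq_card (Subgroup.zpowers σ) F, ← Nat.card_eq_fintype_card (α := Subgroup.zpowers σ),
      Nat.card_zpowers]
  have h3 : 3 ≤ orderOf σ := by
    have h1 : orderOf σ ≠ 1 := fun e => hne (orderOf_eq_one_iff.1 e)
    obtain ⟨m, hm⟩ := hodd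
    omega
  have hK : 1 < Nat.card K := Finite.one_lt_card
  -- `N` lies in the fixed field
  have hfix : ∀ m : Subgroup.zpowers σ, m • (N : F) = N := by
    rintro ⟨m, k, rfl⟩
    exact (zpow_mem (show σ ∈ MulAction.stabilizer (RingAut F) (N : F) from hN) k :)
  let N' : Kˣ := Units.mk0 ⟨(N : F), hfix⟩ fun e => N.ne_zero (congrArg Subtype.val e)
  have hNo : orderOf N ∣ Nat.card K - 1 := by
    have hN' : Units.map (K.subtype : K →* F) N' = N := Units.ext rfl
    rw [← hN']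
    refine (orderOf_map_dvd _ _).trans ?_
    rw [← Nat.card_units]
    exact orderOf_dvd_natCard N'
  have hdvd := h.trans (mul_dvd_mul_left (orderOf σ) hNo)
  have hle := Nat.le_of_dvd (Nat.mul_pos (by omega) (by omega)) hdvd
  rw [hq, ← geom_sum_mul_of_one_le (show 1 ≤ Nat.card K by omega) (orderOf σ)] at hle
  have hlt : orderOf σ < ∑ i ∈ Finset.range (orderOf σ), Nat.card K ^ i := by
    calc orderOf σ = ∑ i ∈ Finset.range (orderOf σ), 1 := by simp
      _ < _ := Finset.sum_lt_sum (fun i _ => Nat.one_le_pow _ _ (by omega))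
          ⟨1, Finset.mem_range.2 (by omega), by rw [pow_one]; omega⟩
  exact absurd (Nat.le_of_mul_le_mul_right hle (by omega)) (not_le.2 hlt)

variable {G : Type u} [Group G]

namespace Loc

variable (D : Loc G F)

/-- `t` acts on the component by `diag(a, 1)` and `σ`. -/
def Acts (t : G) (a : Fˣ) (σ : F ≃+* F) : Prop :=
  ∀ x, t * D.e x * t⁻¹ = D.e (semiSL (dia a) σ x)

variable {D}

theorem Acts.up {t : G} {a : Fˣ} {σ : F ≃+* F} (h : D.Acts t a σ) (b : F) :
    t * D.e (up b) * t⁻¹ = D.e (up ((a : F) * σ b)) := by rw [h, semi_dia_up]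

theorem Acts.low {t : G} {a : Fˣ} {σ : F ≃+* F} (h : D.Acts t a σ) (b : F) :
    t * D.e (low b) * t⁻¹ = D.e (low (((a⁻¹ : Fˣ) : F) * σ b)) := by rw [h, semi_dia_low]

theorem Acts.mul {s t : G} {a b : Fˣ} {σ τ : F ≃+* F} (hs : D.Acts s a σ) (ht : D.Acts t b τ) :
    D.Acts (s * t) (a * Units.map (σ : F →* F) b) (τ.trans σ) := fun x => by
  calc s * t * D.e x * (s * t)⁻¹ = s * (t * D.e x * t⁻¹) * s⁻¹ := by group
    _ = D.e (semiSL (dia a) σ (semiSL (dia b) τ x)) := by rw [ht, hs]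
    _ = _ := by
      rw [semi_comp]
      refine congrArg D.e (congrArg (fun g : GL (Fin 2) F => semiSL g (τ.trans σ) x) (Units.ext ?_))
      rw [Units.val_mul, coe_glMap, coe_dia, coe_dia, coe_dia]
      ext i j; fin_cases i <;> fin_cases j <;> simp [Matrix.mul_apply, Fin.sum_univ_two]

theorem Acts.one : D.Acts 1 1 (RingEquiv.refl F) := fun x => by
  have h : dia (1 : Fˣ) = (1 : GL (Fin 2) F) := Units.ext (by rw [coe_dia]; ext i j; fin_cases i <;> fin_cases j <;> simp)
  rw [h, show semiSL (1 : GL (Fin 2) F) (RingEquiv.refl F) x = x from semiFun_one x]; group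

theorem Acts.unique {t : G} {a b : Fˣ} {σ τ : F ≃+* F} (h : D.Acts t a σ) (h' : D.Acts t b τ) :
    a = b ∧ σ = τ := by
  have hh : ∀ c, (a : F) * σ c = (b : F) * τ c := fun c =>
    up_inj (D.e_inj ((h.up c).symm.trans (h'.up c)))
  have hab : a = b := Units.ext (by simpa using hh 1)
  subst hab
  exact ⟨rfl, RingEquiv.ext fun c => mul_left_cancel₀ a.ne_zero (hh c)⟩

theorem Acts.cen_iff {t : G} {a : Fˣ} {σ : F ≃+* F} (h : D.Acts t a σ) :
    (∀ x, t * D.e x = D.e x * t) ↔ a = 1 ∧ σ = RingEquiv.refl F := by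
  constructor
  · intro hc
    refine h.unique fun x => ?_
    have h1 := Acts.one (D := D) x
    rw [one_mul, inv_one, mul_one] at h1
    rw [hc, mul_inv_cancel_right, ← h1]
  · rintro ⟨rfl, rfl⟩ x
    have h1 := Acts.one (D := D) x
    rw [one_mul, inv_one, mul_one] at h1
    exact comm_of_conj (by rw [h, ← h1])

variable (hM : D.M = dM)
include hM

theorem z₁_up (b : F) : D.z₁ * D.e (CfsgLib.ABG.Recog.up b) * D.z₁⁻¹ = D.e (CfsgLib.ABG.Recog.up (-b)) := by
  rw [D.z₁_act, hM, dM_up]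

theorem z₁_low (b : F) : D.z₁ * D.e (CfsgLib.ABG.Recog.low b) * D.z₁⁻¹ = D.e (CfsgLib.ABG.Recog.low (-b)) := by
  rw [D.z₁_act, hM, dM_low]

theorem dg_mem_T (a : Fˣ) : D.e (dg a) ∈ D.T := D.e_mem_T (by rw [hM, dM_dg])

/-- The element of the component exchanging `z₁` and the third involution. -/
theorem w_conj_z₁ : D.e wel * D.z₁ * (D.e wel)⁻¹ = D.z₂ := by
  have h := D.z₁_act wel
  rw [hM, dM_wel, map_mul, D.e_neg] at h
  -- `z₁ w z₁⁻¹ = z w`
  calc D.e wel * D.z₁ * (D.e wel)⁻¹ = D.z₁ * (D.z₁ * D.e wel * D.z₁⁻¹) * (D.z₁ * D.z₁) * (D.e wel)⁻¹ := by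
        rw [Invol.inv_eq_self D.order_z₁]
        simp only [← mul_assoc, D.z₁_sq, one_mul]
        simp only [mul_assoc, D.z₁_sq, mul_one]
    _ = D.z₂ := by
        rw [h, D.z₁_sq, mul_one, ← mul_assoc, mul_inv_cancel_right]; exact D.comm.symm

theorem dg_acts (c : Fˣ) : D.Acts (D.e (dg c)) (c * c) (RingEquiv.refl F) := fun x => by
  rw [← map_inv, ← map_mul, ← map_mul]
  refine congrArg D.e (mt_injective ?_)
  rw [mt_mul, mt_mul, ← map_inv dg c, mt_dg, mt_dg]
  show _ = (semiFun (dia (c * c)) (RingEquiv.refl F) x : Matrix (Fin 2) (Fin 2) F)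
  rw [coe_semiFun, map_refl_ringEquiv, coe_dia, coe_dia_inv]
  ext i j; fin_cases i <;> fin_cases j <;>
    simp [Matrix.mul_apply, Matrix.vecMul, dotProduct, Fin.sum_univ_two] <;> field_simp

theorem exists_acts_of (a : Fˣ) : ∃ t ∈ D.T, D.Acts t a (RingEquiv.refl F) := by
  obtain ⟨c, hc, h1, h2⟩ := D.diag (dia a)
  refine ⟨c, D.mem_T.2 ⟨D.mem_C.1 hc, h2 (Units.ext ?_)⟩, h1⟩
  rw [hM, Units.val_mul, Units.val_mul, coe_dia, coe_dM]
  ext i j; fin_cases i <;> fin_cases j <;> simp [Matrix.mul_apply, Fin.sum_univ_two]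

/-- Elements of `T` act by diagonal maps: none exchanges the two fixed points of `z₁`. -/
theorem exists_acts {t : G} (ht : t ∈ D.T) : ∃ a σ, D.Acts t a σ := by
  obtain ⟨g, σ, hg⟩ := D.exists_act (D.T_le ht)
  have ht1 := (D.mem_T.1 ht).2
  have hcomm : ∀ x, semiSL g σ (semiSL dM (RingEquiv.refl F) x) = semiSL dM (RingEquiv.refl F) (semiSL g σ x) :=
    fun x => D.e_inj (by
      rw [← hM, ← hg, ← D.z₁_act, ← D.z₁_act, ← hg]
      calc t * (D.z₁ * D.e x * D.z₁⁻¹) * t⁻¹ = (t * D.z₁) * D.e x * (t * D.z₁)⁻¹ := by group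
        _ = _ := by rw [ht1]; group)
  obtain ⟨p, hp⟩ : ∃ p, p = (g : Matrix (Fin 2) (Fin 2) F) := ⟨_, rfl⟩
  -- `g⁻¹ dM g dM` is scalar
  have hsc : ∃ k : F, !![(1 : F), 0; 0, -1] * p = k • (p * !![(1 : F), 0; 0, -1]) := by
    have hσM : glMap σ dM = (dM : GL (Fin 2) F) := Units.ext (by
      rw [coe_glMap, coe_dM]; ext i j; fin_cases i <;> fin_cases j <;> simp)
    have hfix : ∀ y, semiSL (g * dM) (RingEquiv.refl F) y = semiSL (dM * g) (RingEquiv.refl F) y := fun y => by
      obtain ⟨x, hx⟩ : ∃ x, x = semiSL (1 : GL (Fin 2) F) σ.symm y := ⟨_, rfl⟩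
      have := hcomm x
      rw [semi_comp, semi_comp, hσM, glMap_refl, hx, semi_comp, semi_comp, map_one, map_one, mul_one, mul_one]
        at this
      rw [show σ.symm.trans ((RingEquiv.refl F).trans σ) = RingEquiv.refl F from RingEquiv.ext fun a => by simp,
        show σ.symm.trans (σ.trans (RingEquiv.refl F)) = RingEquiv.refl F from RingEquiv.ext fun a => by simp] at this
      exact this
    obtain ⟨r, hr⟩ : ∃ r, r = (g * dM)⁻¹ * (dM * g) := ⟨_, rfl⟩
    have hr1 : ∀ y : SL F, (r : Matrix (Fin 2) (Fin 2) F) * mt y = mt y * r := fun y => by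
      have hy : semiSL r (RingEquiv.refl F) y = y := by
        rw [hr, ← semi_refl_mul, ← hfix, semi_refl_mul, inv_mul_cancel]; exact semiFun_one y
      have hy' : mt (semiSL r (RingEquiv.refl F) y) = mt y := by rw [hy]
      change (semiFun r (RingEquiv.refl F) y : Matrix (Fin 2) (Fin 2) F) = mt y at hy'
      rw [coe_semiFun, map_refl_ringEquiv] at hy'
      conv_rhs => rw [← hy']
      rw [mul_assoc _ _ (r : Matrix (Fin 2) (Fin 2) F), ← Units.val_mul, inv_mul_cancel, Units.val_one, mul_one]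
    obtain ⟨k, hk⟩ := OrderFormula.Local.isScal_of_commute_two (hr1 (CfsgLib.ABG.Recog.up 1))
      (hr1 (CfsgLib.ABG.Recog.low 1)) fun h => by
        have h00 := congrFun (congrFun h 0) 0
        simp [CfsgLib.ABG.Recog.up, CfsgLib.ABG.Recog.low, Matrix.mul_apply, Fin.sum_univ_two] at h00
    refine ⟨k, ?_⟩
    have : (g * dM) * r = dM * g := by rw [hr, mul_inv_cancel_left]
    have := congrArg Units.val this
    rw [Units.val_mul, hk, Matrix.mul_smul, mul_one, Units.val_mul, Units.val_mul, coe_dM, ← hp] at this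
    exact this.symm
  obtain ⟨k, hk⟩ := hsc
  have h00 := congrFun (congrFun hk 0) 0
  have h01 := congrFun (congrFun hk 0) 1
  have h10 := congrFun (congrFun hk 1) 0
  have h11 := congrFun (congrFun hk 1) 1
  simp [Matrix.mul_apply, Fin.sum_univ_two] at h00 h01 h10 h11
  have h2 := two_ne_zero_of_odd D.odd_q
  have hdet : p.det ≠ 0 := hp ▸ ((Matrix.isUnit_iff_isUnit_det _).1 g.isUnit).ne_zero
  rw [det_fin_two] at hdet
  by_cases h0 : p 0 0 = 0
  · -- the exchanging case
    exfalso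
    have hp01 : p 0 1 ≠ 0 := fun e => hdet (by rw [h0, e]; ring)
    have hk1 : k = -1 := mul_right_cancel₀ hp01 (by linear_combination h01)
    have hp11 : p 1 1 = 0 := mul_left_cancel₀ h2 (by rw [hk1] at h11; linear_combination h11)
    have hp10 : p 1 0 ≠ 0 := fun e => hdet (by rw [h0, e]; ring)
    obtain ⟨a0, ha0⟩ : ∃ a : Fˣ, (a : F) = -(p 0 1) / p 1 0 :=
      ⟨Units.mk0 _ (div_ne_zero (neg_ne_zero.2 hp01) hp10), rfl⟩
    obtain ⟨c, hc, hca⟩ := exists_acts_of hM a0⁻¹
    obtain ⟨v, hv⟩ : ∃ v, v = c * t * (D.e wel)⁻¹ := ⟨_, rfl⟩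
    have hvact : ∀ x, v * D.e x * v⁻¹ = D.e (semiSL 1 σ x) := fun x => by
      calc v * D.e x * v⁻¹ = c * (t * D.e (wel⁻¹ * x * wel) * t⁻¹) * c⁻¹ := by
            rw [hv, map_mul, map_mul, map_inv]; group
        _ = _ := by
          rw [hg, hca, semi_comp, glMap_refl,
            show σ.trans (RingEquiv.refl F) = σ from RingEquiv.ext fun _ => rfl]
          refine congrArg D.e (mt_injective ?_)
          show (semiFun (dia a0⁻¹ * g) σ (wel⁻¹ * x * wel) : Matrix (Fin 2) (Fin 2) F) =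
            (semiFun 1 σ x : Matrix (Fin 2) (Fin 2) F)
          have hw1 : semiFun 1 σ (wel : SL F) = wel := mt_injective (by
            show (semiFun 1 σ wel : Matrix (Fin 2) (Fin 2) F) = _
            rw [coe_semiFun]
            ext i j; fin_cases i <;> fin_cases j <;> simp [wel])
          have hgw : semiFun (dia a0⁻¹ * g) σ (wel⁻¹ * x * wel) =
              semiFun (dia a0⁻¹ * g) (RingEquiv.refl F) (wel⁻¹ * semiFun 1 σ x * wel) := by
            have e1 : wel⁻¹ * semiFun 1 σ x * wel = semiFun 1 σ (wel⁻¹ * x * wel) := by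
              have := map_mul (semiSL (1 : GL (Fin 2) F) σ) (wel⁻¹ * x) wel
              change semiFun 1 σ (wel⁻¹ * x * wel) = semiSL 1 σ (wel⁻¹ * x) * semiFun 1 σ wel at this
              rw [this, map_mul, map_inv, hw1]
              show _ = (semiFun 1 σ wel)⁻¹ * semiFun 1 σ x * wel
              rw [hw1]
            rw [e1, semiFun_comp, map_one, mul_one]
            rfl
          rw [hgw, coe_semiFun, map_refl_ringEquiv]
          generalize (semiFun 1 σ x : SL F) = y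
          have hmat : ((dia a0⁻¹ * g : GL (Fin 2) F) : Matrix (Fin 2) (Fin 2) F) = (-(p 1 0)) • SL2C.mt wel := by
            rw [Units.val_mul, coe_dia, ← hp]
            ext i j; fin_cases i <;> fin_cases j <;>
              simp [wel, Matrix.mul_apply, Fin.sum_univ_two, h0, hp11, ha0] <;> field_simp
          have hinv : (((dia a0⁻¹ * g)⁻¹ : GL (Fin 2) F) : Matrix (Fin 2) (Fin 2) F) = (-(p 1 0))⁻¹ • SL2C.mt wel⁻¹ := by
            refine Units.inv_eq_of_mul_eq_one_right ?_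
            rw [hmat, Matrix.smul_mul, Matrix.mul_smul, smul_smul, mul_inv_cancel₀ (neg_ne_zero.2 hp10),
              one_smul, ← mt_mul, mul_inv_cancel, mt_one]
          rw [hinv, hmat, Matrix.smul_mul, Matrix.smul_mul, Matrix.mul_smul, smul_smul,
            mul_inv_cancel₀ (neg_ne_zero.2 hp10), one_smul]
          show SL2C.mt wel * SL2C.mt (wel⁻¹ * y * wel) * SL2C.mt wel⁻¹ = SL2C.mt y
          rw [← mt_mul, ← mt_mul]
          congr 1
          group
    have hvC : v ∈ D.C := hv ▸ mul_mem (mul_mem (D.T_le hc) (D.T_le ht)) (inv_mem (D.e_mem _))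
    obtain ⟨j, hj, hjσ⟩ := D.field_odd v hvC 1 σ hvact
    have hpow : ∀ n x, v ^ n * D.e x * (v ^ n)⁻¹ = D.e (semiSL (1 : GL (Fin 2) F) (σ ^ n : RingAut F) x) := by
      intro n
      induction n with
      | zero =>
        intro x
        rw [pow_zero, pow_zero, one_mul, inv_one, mul_one]
        exact congrArg D.e (semiFun_one x).symm
      | succ n ih =>
        intro x
        calc v ^ (n + 1) * D.e x * (v ^ (n + 1))⁻¹ = v ^ n * (v * D.e x * v⁻¹) * (v ^ n)⁻¹ := by
              rw [pow_succ]; group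
          _ = _ := by rw [hvact, ih, semi_comp, map_one, mul_one, pow_succ]; rfl
    have hvj : ∀ x, v ^ j * D.e x = D.e x * v ^ j := fun x => comm_of_conj (by
      rw [hpow, hjσ]; exact congrArg D.e (semiFun_one x))
    have hvz : v * D.z₁ * v⁻¹ = D.z₂ := by
      have hw := w_conj_z₁ hM
      have hwz : (D.e wel)⁻¹ * D.z₁ * D.e wel = D.z₂ := by
        have hwC := conj_of_comm (D.e_comm_z wel)
        have h3 : D.z₁ = D.e wel * D.z₂ * (D.e wel)⁻¹ := by
          show D.z₁ = D.e wel * (D.z * D.z₁) * (D.e wel)⁻¹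
          rw [show D.e wel * (D.z * D.z₁) * (D.e wel)⁻¹ =
            D.e wel * D.z * (D.e wel)⁻¹ * (D.e wel * D.z₁ * (D.e wel)⁻¹) by group, hwC, hw]
          show D.z₁ = D.z * (D.z * D.z₁)
          rw [← mul_assoc, D.z_sq, one_mul]
        nth_rewrite 1 [h3]; group
      calc v * D.z₁ * v⁻¹ = c * (t * ((D.e wel)⁻¹ * D.z₁ * D.e wel) * t⁻¹) * c⁻¹ := by rw [hv]; group
        _ = D.z₂ := by
          have hfixT : ∀ s ∈ D.T, s * D.z₂ * s⁻¹ = D.z₂ := fun s hs => by
            show s * (D.z * D.z₁) * s⁻¹ = _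
            rw [show s * (D.z * D.z₁) * s⁻¹ = s * D.z * s⁻¹ * (s * D.z₁ * s⁻¹) by group,
              conj_of_comm (D.mem_T.1 hs).1, conj_of_comm (D.mem_T.1 hs).2]
          rw [hwz, hfixT t ht, hfixT c hc]
    have hvz2 : v * D.z₂ * v⁻¹ = D.z₁ := by
      show v * (D.z * D.z₁) * v⁻¹ = _
      rw [show v * (D.z * D.z₁) * v⁻¹ = v * D.z * v⁻¹ * (v * D.z₁ * v⁻¹) by group,
        conj_of_comm (D.mem_C.1 hvC), hvz]
      show D.z * (D.z * D.z₁) = _
      rw [← mul_assoc, D.z_sq, one_mul]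
    obtain ⟨m, rfl⟩ := hj
    have hodd : ∀ m : ℕ, v ^ (2 * m + 1) * D.z₁ * (v ^ (2 * m + 1))⁻¹ = D.z₂ := by
      intro m
      induction m with
      | zero => simpa using hvz
      | succ m ih =>
        calc v ^ (2 * (m + 1) + 1) * D.z₁ * (v ^ (2 * (m + 1) + 1))⁻¹
            = v * (v * (v ^ (2 * m + 1) * D.z₁ * (v ^ (2 * m + 1))⁻¹) * v⁻¹) * v⁻¹ := by
              rw [show 2 * (m + 1) + 1 = 1 + (1 + (2 * m + 1)) by ring, pow_add, pow_add, pow_one]; group
          _ = D.z₂ := by rw [ih, hvz2, hvz]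
    exact D.z₂_ne_z₁ ((hodd m).symm.trans (conj_of_comm (D.cen _ (pow_mem hvC _) hvj)))
  · have hk1 : k = 1 := mul_right_cancel₀ h0 (by linear_combination -h00)
    have hp01 : p 0 1 = 0 := mul_left_cancel₀ h2 (by rw [hk1] at h01; linear_combination h01)
    have hp10 : p 1 0 = 0 := mul_left_cancel₀ h2 (by rw [hk1] at h10; linear_combination -h10)
    have hp11 : p 1 1 ≠ 0 := fun e => hdet (by rw [e, hp01]; ring)
    refine ⟨Units.mk0 _ (div_ne_zero h0 hp11), σ, fun x => (hg x).trans (congrArg D.e ?_)⟩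
    refine semi_eq_of_smul hp11 ?_ σ x
    rw [← hp, coe_dia]
    ext i j; fin_cases i <;> fin_cases j <;> simp [hp01, hp10, hp11] <;> field_simp

theorem mem_T_of_cen {y : G} (hc : ∀ x, y * D.e x = D.e x * y) : y ∈ D.T := by
  have hC : y ∈ D.C := D.mem_C.2 (by rw [← D.e_neg]; exact hc _)
  exact D.mem_T.2 ⟨D.mem_C.1 hC, D.cen y hC hc⟩

theorem cen_up_iff {t : G} (ht : t ∈ D.T) :
    (∀ b, t * D.e (CfsgLib.ABG.Recog.up b) = D.e (CfsgLib.ABG.Recog.up b) * t) ↔
      ∀ x, t * D.e x = D.e x * t := by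
  refine ⟨fun h => ?_, fun h b => h _⟩
  obtain ⟨a, σ, ha⟩ := exists_acts hM ht
  have hh : ∀ b, (a : F) * σ b = b := fun b => up_inj (D.e_inj (by rw [← ha.up, h, mul_inv_cancel_right]))
  refine ha.cen_iff.2 ⟨Units.ext (by simpa using hh 1), RingEquiv.ext fun b => ?_⟩
  have h1 : (a : F) = 1 := by simpa using hh 1
  simpa [h1] using hh b

variable [Finite G] [IsSimpleGroup G]

omit hM in
theorem comp_eq {g h : G} (he : g * D.z * g⁻¹ = h * D.z * h⁻¹) (x : SL F) :
    ∃ y, g * D.e x * g⁻¹ = h * D.e y * h⁻¹ := by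
  have hc : h⁻¹ * g ∈ D.C := D.mem_C.2 (by
    calc h⁻¹ * g * D.z = h⁻¹ * (g * D.z * g⁻¹) * g := by group
      _ = D.z * (h⁻¹ * g) := by rw [he]; group)
  obtain ⟨y, hy⟩ := D.e_normal _ hc x
  exact ⟨y, by rw [hy]; group⟩

omit hM in
theorem T_conj {g : G} (h0 : g * D.z * g⁻¹ = D.z₁) (h1 : g * D.z₁ * g⁻¹ = D.z₂) :
    (D.conj g).T = D.T := by
  ext x
  rw [(D.conj g).mem_T, D.mem_T, conj_z, conj_z₁, h0, h1]
  constructor
  · rintro ⟨a, b⟩
    refine ⟨?_, a⟩
    have e : D.z = D.z₂ * D.z₁ := by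
      show D.z = D.z * D.z₁ * D.z₁
      rw [mul_assoc, D.z₁_sq, mul_one]
    rw [e, ← mul_assoc, b, mul_assoc, a, ← mul_assoc]
  · rintro ⟨a, b⟩
    refine ⟨b, ?_⟩
    show x * (D.z * D.z₁) = D.z * D.z₁ * x
    rw [← mul_assoc, a, mul_assoc, b, ← mul_assoc]

section Next

variable {ρ : G} (h0 : ρ * D.z * ρ⁻¹ = D.z₁) (h1 : ρ * D.z₁ * ρ⁻¹ = D.z₂)
include h0 h1

/-- The torus of the component acts faithfully on the next component. -/
theorem dg_eq_one {a : Fˣ} (ha : ∀ x, D.e (dg a) * (D.conj ρ).e x = (D.conj ρ).e x * D.e (dg a)) :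
    a = 1 := by
  have hg' : ρ * (D.conj ρ).z * ρ⁻¹ = (D.conj ρ).z₁ := by rw [conj_z, conj_z₁, h0]
  have h2 : ∀ x, D.e (dg a) * (ρ * (D.conj ρ).e x * ρ⁻¹) = ρ * (D.conj ρ).e x * ρ⁻¹ * D.e (dg a) := by
    intro x
    obtain ⟨w, hw⟩ : ∃ w, w = D.e wel := ⟨_, rfl⟩
    have hwz := w_conj_z₁ hM
    rw [← hw] at hwz
    have he : ρ * ρ * D.z * (ρ * ρ)⁻¹ = w * ρ * D.z * (w * ρ)⁻¹ := by
      calc ρ * ρ * D.z * (ρ * ρ)⁻¹ = ρ * (ρ * D.z * ρ⁻¹) * ρ⁻¹ := by group
        _ = w * (ρ * D.z * ρ⁻¹) * w⁻¹ := by rw [h0, h1, hwz]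
        _ = _ := by group
    obtain ⟨y, hy⟩ := comp_eq he x
    have hy' : ρ * (D.conj ρ).e x * ρ⁻¹ = w * (D.conj ρ).e y * w⁻¹ := by
      rw [conj_e, conj_e]
      calc ρ * (ρ * D.e x * ρ⁻¹) * ρ⁻¹ = ρ * ρ * D.e x * (ρ * ρ)⁻¹ := by group
        _ = _ := by rw [hy]; group
    have hd : w * (D.e (dg a))⁻¹ * w⁻¹ = D.e (dg a) := by
      rw [hw, ← map_inv D.e, ← map_inv dg, ← map_inv D.e, ← map_mul, ← map_mul, wel_conj_dg, inv_inv]
    have hc' : (D.e (dg a))⁻¹ * (D.conj ρ).e y = (D.conj ρ).e y * (D.e (dg a))⁻¹ := by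
      rw [inv_mul_eq_iff_eq_mul, ← mul_assoc, eq_mul_inv_iff_mul_eq]
      exact (ha y).symm
    rw [hy']
    nth_rewrite 1 [← hd]
    nth_rewrite 2 [← hd]
    calc w * (D.e (dg a))⁻¹ * w⁻¹ * (w * (D.conj ρ).e y * w⁻¹) =
        w * ((D.e (dg a))⁻¹ * (D.conj ρ).e y) * w⁻¹ := by group
      _ = w * ((D.conj ρ).e y * (D.e (dg a))⁻¹) * w⁻¹ := by rw [hc']
      _ = _ := by group
  have h3 := (D.conj ρ).eq_one_of_cen_two hg' ha h2
  rw [← map_one D.e, ← map_one (dg (F := F))] at h3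
  exact Units.ext (by simpa [mt_dg] using congrFun (congrFun (congrArg SL2C.mt (D.e_inj h3)) 0) 0)

/-- The torus of the component acts on the next one by all multiplications. -/
theorem exists_dg_acts (b : Fˣ) : ∃ c, (D.conj ρ).Acts (D.e (dg c)) b (RingEquiv.refl F) := by
  have hM' : (D.conj ρ).M = dM := hM
  have hmem : ∀ c, D.e (dg c) ∈ (D.conj ρ).T := fun c => by rw [T_conj h0 h1]; exact dg_mem_T hM c
  choose A S hAS using fun c => exists_acts hM' (hmem c)
  -- the field part is a homomorphism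
  have hS : ∀ c d, S (c * d) = (S d).trans (S c) ∧ A (c * d) = A c * Units.map (S c : F →* F) (A d) := fun c d => by
    have h := (hAS (c * d)).unique (by rw [map_mul, map_mul]; exact (hAS c).mul (hAS d))
    exact ⟨h.2, h.1⟩
  let Sh : Fˣ →* RingAut F := MonoidHom.mk' S fun c d => (hS c d).1
  obtain ⟨c0, hc0⟩ := IsCyclic.exists_ofOrder_eq_natCard (α := Fˣ)
  have hq : Nat.card Fˣ = Fintype.card F - 1 := by rw [Nat.card_units, Nat.card_eq_fintype_card]
  have hσ : Sh c0 = 1 := by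
    have hc := D.e_mem (dg c0)
    obtain ⟨k, hk, hkσ⟩ := (D.conj ρ).field_odd (D.e (dg c0)) ((D.conj ρ).T_le (hmem c0)) _ _ (hAS c0)
    refine ringAut_eq_one_of_order (N := A (c0 ^ orderOf (Sh c0))) (hk.of_dvd_nat (orderOf_dvd_of_pow_eq_one hkσ)) ?_ ?_
    · have e1 := (hS (c0 ^ orderOf (Sh c0)) c0).2
      have e2 := (hS c0 (c0 ^ orderOf (Sh c0))).2
      rw [← pow_succ] at e1
      rw [← pow_succ'] at e2
      have hS1 : Sh (c0 ^ orderOf (Sh c0)) = 1 := by rw [map_pow, pow_orderOf_eq_one]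
      have hid : Units.map (S (c0 ^ orderOf (Sh c0)) : F →* F) (A c0) = A c0 := by
        have : S (c0 ^ orderOf (Sh c0)) = RingEquiv.refl F := hS1
        rw [this]; rfl
      rw [hid, e2, mul_comm (A (c0 ^ orderOf (Sh c0)))] at e1
      exact congrArg Units.val (mul_left_cancel e1)
    · rw [← hq, ← hc0]
      refine orderOf_dvd_of_pow_eq_one ?_
      rw [pow_mul]
      -- the kernel of the field part is mapped injectively
      let K : Subgroup Fˣ := Sh.ker
      let Ah : K →* Fˣ := MonoidHom.mk' (fun c => A c) fun c d => by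
        show A ((c : Fˣ) * d) = _
        rw [(hS _ _).2, show S (c : Fˣ) = RingEquiv.refl F from c.2]; rfl
      have hinj : Function.Injective Ah := (injective_iff_map_eq_one Ah).2 fun c hc => Subtype.ext
        (dg_eq_one hM h0 h1 ((hAS c).cen_iff.2 ⟨hc, c.2⟩))
      have hmem' : c0 ^ orderOf (Sh c0) ∈ K := by rw [MonoidHom.mem_ker, map_pow, pow_orderOf_eq_one]
      have h1 : (⟨_, hmem'⟩ : K) ^ orderOf (A (c0 ^ orderOf (Sh c0))) = 1 := hinj (by
        rw [map_pow, map_one]; exact pow_orderOf_eq_one _)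
      exact congrArg Subtype.val h1
  have hS1 : ∀ c, S c = RingEquiv.refl F := fun c => by
    obtain ⟨n, rfl⟩ : c ∈ Submonoid.powers c0 := by
      rw [mem_powers_iff_mem_zpowers, Subgroup.eq_top_of_card_eq (Subgroup.zpowers c0) (by
        rw [Nat.card_zpowers, hc0])]
      trivial
    show Sh (c0 ^ n) = 1
    rw [map_pow, hσ, one_pow]
  have hsurj : Function.Surjective A := Finite.injective_iff_surjective.1 fun c d hcd => by
    have h := hS (c * d⁻¹) d
    rw [inv_mul_cancel_right, hS1] at h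
    have hA : A c = A (c * d⁻¹) * A d := by rw [h.2, hS1]; rfl
    rw [hcd, eq_comm, mul_eq_right] at hA
    exact mul_inv_eq_one.1 (dg_eq_one hM h0 h1 ((hAS _).cen_iff.2 ⟨hA, hS1 _⟩))
  obtain ⟨c, hc⟩ := hsurj b
  exact ⟨c, hc ▸ hS1 c ▸ hAS c⟩

/-- What centralises the component acts on the next one by multiplications. -/
theorem cen_acts {y : G} (hy : ∀ x, y * D.e x = D.e x * y) :
    ∃ a, (D.conj ρ).Acts y a (RingEquiv.refl F) := by
  have hM' : (D.conj ρ).M = dM := hM
  have hyT : y ∈ (D.conj ρ).T := by rw [T_conj h0 h1]; exact mem_T_of_cen hM hy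
  obtain ⟨a, σ, ha⟩ := exists_acts hM' hyT
  suffices hσ : σ = RingEquiv.refl F by exact ⟨a, hσ ▸ ha⟩
  refine RingEquiv.ext fun b => ?_
  by_cases hb : b = 0
  · simp [hb]
  obtain ⟨c, hc⟩ := exists_dg_acts hM h0 h1 (Units.mk0 b hb)
  have hc' : (D.conj ρ).Acts (y * D.e (dg c)) (Units.mk0 b hb * Units.map ((RingEquiv.refl F : F ≃+* F) : F →* F) a)
      (σ.trans (RingEquiv.refl F)) := by rw [hy]; exact hc.mul ha
  have := congrArg Units.val ((ha.mul hc).unique hc').1
  simp only [Units.val_mul, Units.coe_map, Units.val_mk0] at this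
  exact mul_left_cancel₀ a.ne_zero (this.trans (mul_comm _ _))

/-- The centraliser of the component is cyclic of order dividing `q - 1`. -/
theorem cen_L : IsCyclic (Subgroup.centralizer (D.L : Set G)) ∧
    Nat.card (Subgroup.centralizer (D.L : Set G)) ∣ Fintype.card F - 1 := by
  have hM' : (D.conj ρ).M = dM := hM
  have hy : ∀ y : Subgroup.centralizer (D.L : Set G), ∀ x, (y : G) * D.e x = D.e x * y := fun y x =>
    (Subgroup.mem_centralizer_iff.1 y.2 _ ⟨x, rfl⟩).symm
  choose A hA using fun y => cen_acts hM h0 h1 (hy y)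
  let Ah : Subgroup.centralizer (D.L : Set G) →* Fˣ := MonoidHom.mk' A fun y y' =>
    ((hA (y * y')).unique ((hA y).mul (hA y'))).1
  have hinj : Function.Injective Ah := (injective_iff_map_eq_one Ah).2 fun y hy1 => Subtype.ext
    (D.eq_one_of_cen_two h0 (hy y) fun x => ((hA y).cen_iff.2 ⟨hy1, rfl⟩) x)
  refine ⟨isCyclic_of_subgroup_isDomain ((Units.coeHom F).comp Ah) (Units.val_injective.comp hinj), ?_⟩
  rw [← Nat.card_eq_fintype_card, ← Nat.card_units]
  exact Subgroup.card_dvd_of_injective Ah hinj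

end Next

end Loc

end CfsgLib.ABG.Recog
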