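import Cfsg.Agent.OrderFormula.LocalSL
import Cfsg.Prelude.Def_CaseTheorems

/-!
# Alperin-Brauer-Gorenstein, recognition half: what is assumed of the centraliser of an involution

`Loc G F` collects the local data from which `G` is identified with `PSL₃` or `PSU₃`:
`z` an involution, `z₁` a second one commuting with it, `e` an embedding of `SL₂(F)` as a normal
subgroup of `C(z)`, and the order formula with the sign tied to the type of `z₁` on `SL₂(F)`.
-/

set_option autoImplicit false

namespace CfsgLib.ABG.Recog

open Matrix CfsgLib.SL2C CfsgLib.AutPSL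

universe u

/-- The centraliser of a four-group given by two involutions. -/
abbrev cen2 {G : Type u} [Group G] (a b : G) : Subgroup G :=
  Subgroup.centralizer ({a} : Set G) ⊓ Subgroup.centralizer ({b} : Set G)

/-- The local data at an involution. -/
structure Loc (G : Type u) [Group G] (F : Type) [Field F] [Fintype F] where
  /-- the central involution -/
  z : G
  /-- an involution commuting with it -/
  z₁ : G
  order_z : orderOf z = 2
  order_z₁ : orderOf z₁ = 2
  ne : z₁ ≠ z
  comm : z * z₁ = z₁ * z
  odd_q : Odd (Fintype.card F)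
  one_class : ∀ a b : G, orderOf a = 2 → orderOf b = 2 → IsConj a b
  /-- the component `SL₂(F)` of the centraliser -/
  e : Matrix.SpecialLinearGroup (Fin 2) F →* G
  e_inj : Function.Injective e
  e_le : e.range ≤ Subgroup.centralizer ({z} : Set G)
  e_normal : ∀ c ∈ Subgroup.centralizer ({z} : Set G), ∀ x, c * e x * c⁻¹ ∈ e.range
  e_neg : e (-1) = z
  /-- the matrix by which `z₁` acts on the component -/
  M : GL (Fin 2) F
  M_trace : (M : Matrix (Fin 2) (Fin 2) F).trace = 0
  z₁_act : ∀ x, z₁ * e x * z₁⁻¹ = e (semiSL M (RingEquiv.refl F) x)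
  /-- all diagonal automorphisms are induced in `C(z)`, those of the torus of `z₁` in `C(z, z₁)` -/
  diag : ∀ g : GL (Fin 2) F, ∃ c ∈ Subgroup.centralizer ({z} : Set G),
    (∀ x, c * e x * c⁻¹ = e (semiSL g (RingEquiv.refl F) x)) ∧ (g * M = M * g → c * z₁ = z₁ * c)
  /-- the field automorphisms induced have odd order -/
  field_odd : ∀ c ∈ Subgroup.centralizer ({z} : Set G), ∀ (g : GL (Fin 2) F) (σ : F ≃+* F),
    (∀ x, c * e x * c⁻¹ = e (semiSL g σ x)) → ∃ k : ℕ, Odd k ∧ σ ^ k = 1
  /-- what centralises the component centralises `z₁` -/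
  cen : ∀ c ∈ Subgroup.centralizer ({z} : Set G), (∀ x, c * e x = e x * c) → c * z₁ = z₁ * c
  /-- the non-central involutions of `C(z)` are conjugate under the component -/
  invol : ∀ t ∈ Subgroup.centralizer ({z} : Set G), orderOf t = 2 → t ≠ z →
    ∃ x, t = e x * z₁ * (e x)⁻¹
  /-- the order formula, linear type -/
  card_linear : IsSquare (-(M : Matrix (Fin 2) (Fin 2) F).det) →
    Nat.card G * Nat.card (cen2 z z₁) ^ 2 * (Fintype.card F + 1) ^ 2 =
      Nat.card (Subgroup.centralizer ({z} : Set G)) ^ 3 *
        (Fintype.card F ^ 2 + Fintype.card F + 1)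
  /-- the order formula, unitary type -/
  card_unitary : ¬ IsSquare (-(M : Matrix (Fin 2) (Fin 2) F).det) →
    Nat.card G * Nat.card (cen2 z z₁) ^ 2 * (Fintype.card F - 1) ^ 2 + Fintype.card F *
        Nat.card (Subgroup.centralizer ({z} : Set G)) ^ 3 =
      Nat.card (Subgroup.centralizer ({z} : Set G)) ^ 3 * (Fintype.card F ^ 2 + 1)

namespace Loc

variable {G : Type u} [Group G] {F : Type} [Field F] [Fintype F] (D : Loc G F)

/-- The centraliser of the involution. -/
abbrev C : Subgroup G := Subgroup.centralizer ({D.z} : Set G)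

/-- The component. -/
abbrev L : Subgroup G := D.e.range

/-- The centraliser of the four-group. -/
abbrev T : Subgroup G := cen2 D.z D.z₁

/-- The type: `z₁` normalises split tori. -/
def IsLinear : Prop := IsSquare (-(D.M : Matrix (Fin 2) (Fin 2) F).det)

end Loc

end CfsgLib.ABG.Recog
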