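import Cfsg.Agent.OrderFormula.AmbExists
import Cfsg.Agent.OrderFormula.Local
import Cfsg.Agent.ABG.Recog.Loc

/-!
# Alperin-Brauer-Gorenstein, recognition half: producing fields of `Loc`

From the component `e` at the central involution of a semidihedral or wreathed Sylow 2-subgroup and
the conjugacy of the non-central involutions under it: all diagonal automorphisms are induced, the
field automorphisms have odd order, and the type of `z₁` is the sign of the order formula.
-/

set_option autoImplicit false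
set_option linter.unusedSectionVars false

namespace CfsgLib.ABG.Recog.LocData

open Matrix CfsgLib.SL2C CfsgLib.AutPSL CfsgLib.OrderFormula CfsgLib.OrderFormula.Local

universe u

/-! ### Conjugation by a matrix -/

section Acts

variable {G : Type u} [Group G] {F : Type} [Field F] (e : SL F →* G)

/-- `c` acts on the component as conjugation by `g`. -/
def Acts (c : G) (g : GL (Fin 2) F) : Prop :=
  ∀ y, c * e y * c⁻¹ = e (semiSL g (RingEquiv.refl F) y)

theorem mt_semi (g : GL (Fin 2) F) (y : SL F) :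
    mt (semiSL g (RingEquiv.refl F) y) = (g : Mat F) * mt y * ((g⁻¹ : GL (Fin 2) F) : Mat F) := by
  show (semiFun g (RingEquiv.refl F) y : Mat F) = _
  rw [coe_semiFun, map_refl_ringEquiv]

theorem semi_mul (g h : GL (Fin 2) F) (y : SL F) :
    semiSL g (RingEquiv.refl F) (semiSL h (RingEquiv.refl F) y) =
      semiSL (g * h) (RingEquiv.refl F) y := mt_injective (by
  rw [mt_semi, mt_semi, mt_semi, _root_.mul_inv_rev, Units.val_mul, Units.val_mul]
  simp only [mul_assoc])

theorem semi_one (y : SL F) : semiSL 1 (RingEquiv.refl F) y = y := mt_injective (by rw [mt_semi]; simp)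

variable {e}

theorem Acts.one : Acts e 1 1 := fun y => by rw [semi_one]; group

theorem Acts.mul {c d : G} {g h : GL (Fin 2) F} (hc : Acts e c g) (hd : Acts e d h) :
    Acts e (c * d) (g * h) := fun y => by
  rw [show c * d * e y * (c * d)⁻¹ = c * (d * e y * d⁻¹) * c⁻¹ by group, hd, hc, semi_mul]

theorem Acts.inv {c : G} {g : GL (Fin 2) F} (hc : Acts e c g) : Acts e c⁻¹ g⁻¹ := fun y => by
  have h := hc (semiSL g⁻¹ (RingEquiv.refl F) y)
  rw [semi_mul, mul_inv_cancel, semi_one] at h
  rw [← h]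
  group

theorem Acts.pow {c : G} {g : GL (Fin 2) F} (hc : Acts e c g) (n : ℕ) :
    Acts e (c ^ n) (g ^ n) := by
  induction n with
  | zero => simpa using Acts.one
  | succ n ih => rw [pow_succ, pow_succ]; exact ih.mul hc

theorem acts_coe (x : SL F) : Acts e (e x) (Matrix.SpecialLinearGroup.toGL x) := fun y => by
  rw [← map_inv, ← map_mul, ← map_mul]
  congr 1

theorem Acts.commute {c : G} {g : GL (Fin 2) F} (hc : Acts e c g) {x : SL F}
    (h : (g : Mat F) * mt x = mt x * g) : c * e x = e x * c := by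
  rw [← mul_inv_eq_iff_eq_mul, hc]
  congr 1
  refine mt_injective ?_
  rw [mt_semi, h, mul_assoc, ← Units.val_mul, mul_inv_cancel, Units.val_one, mul_one]

/-- Matrices inducing the same automorphism are proportional. -/
theorem Acts.proportional (he : Function.Injective e) {c : G} {g h : GL (Fin 2) F}
    (hg : Acts e c g) (hh : Acts e c h) : ∃ l : F, l ≠ 0 ∧ (g : Mat F) = l • (h : Mat F) := by
  have hfix : ∀ y : SL F, ((h⁻¹ * g : GL (Fin 2) F) : Mat F) * mt y =
      mt y * ((h⁻¹ * g : GL (Fin 2) F) : Mat F) := fun y => by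
    have h1 : semiSL (h⁻¹ * g) (RingEquiv.refl F) y = y := by
      rw [← semi_mul, he ((hg y).symm.trans (hh y)), semi_mul, inv_mul_cancel, semi_one]
    have h2 := congrArg SL2C.mt h1
    rw [mt_semi] at h2
    conv_rhs => rw [← h2]
    rw [mul_assoc, ← Units.val_mul, inv_mul_cancel, Units.val_one, mul_one]
  let I : SL F := ⟨!![1, 1; 0, 1], by simp [det_fin_two_of]⟩
  let J : SL F := ⟨!![1, 0; 1, 1], by simp [det_fin_two_of]⟩
  obtain ⟨l, hl⟩ := isScal_of_commute_two (hfix I) (hfix J) fun hc => by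
    have h00 := congrFun (congrFun hc 0) 0
    simp [I, J, Matrix.mul_apply, Fin.sum_univ_two] at h00
  refine ⟨l, ?_, ?_⟩
  · rintro rfl
    rw [zero_smul] at hl
    exact (h⁻¹ * g).ne_zero hl
  · calc (g : Mat F) = (h : Mat F) * ((h⁻¹ * g : GL (Fin 2) F) : Mat F) := by
          rw [← Units.val_mul, mul_inv_cancel_left]
      _ = _ := by rw [hl, Matrix.mul_smul, mul_one]

/-- A matrix of square determinant acts as an element of `SL₂`. -/
theorem exists_sl (g : GL (Fin 2) F) (hg : IsSquare (g : Mat F).det) :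
    ∃ x : SL F, Acts e (e x) g ∧
      ∀ M : GL (Fin 2) F, g * M = M * g → (M : Mat F) * mt x = mt x * M := by
  obtain ⟨r, hr⟩ := hg
  have hr0 : r ≠ 0 := by
    rintro rfl
    exact ((Matrix.isUnit_iff_isUnit_det _).1 g.isUnit).ne_zero (by simpa using hr)
  refine ⟨⟨r⁻¹ • (g : Mat F), by
    rw [Matrix.det_smul, hr, Fintype.card_fin]; field_simp⟩, fun y => ?_, fun M hM => ?_⟩
  · set x : SL F := ⟨r⁻¹ • (g : Mat F), _⟩ with hx
    rw [acts_coe x y]
    congr 1
    refine mt_injective ?_
    rw [mt_semi, mt_semi]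
    have h1 : ((Matrix.SpecialLinearGroup.toGL x : GL (Fin 2) F) : Mat F) = r⁻¹ • (g : Mat F) := rfl
    have h2 : (((Matrix.SpecialLinearGroup.toGL x)⁻¹ : GL (Fin 2) F) : Mat F) =
        r • ((g⁻¹ : GL (Fin 2) F) : Mat F) :=
      Units.inv_eq_of_mul_eq_one_right (by
        rw [h1, Matrix.smul_mul, Matrix.mul_smul, smul_smul, inv_mul_cancel₀ hr0, one_smul,
          ← Units.val_mul, mul_inv_cancel, Units.val_one])
    rw [h1, h2]
    simp only [Matrix.smul_mul, Matrix.mul_smul, smul_smul, mul_inv_cancel₀ hr0, one_smul]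
  · show (M : Mat F) * (r⁻¹ • (g : Mat F)) = (r⁻¹ • (g : Mat F)) * (M : Mat F)
    rw [Matrix.mul_smul, Matrix.smul_mul, ← Units.val_mul, ← Units.val_mul, hM]

end Acts

/-! ### The component modulo the core -/

section Core

variable {F : Type} [Field F] [Fintype F]

/-- A normal subgroup of odd order of `SL₂(q)`, `q` odd, is trivial. -/
theorem sl_odd_normal (hodd : Odd (Fintype.card F)) (K : Subgroup (SL F)) [hKn : K.Normal]
    (hK : Odd (Nat.card K)) : K = ⊥ := by
  classical
  have h3 : 3 ≤ Fintype.card F := by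
    have : 1 < Fintype.card F := Fintype.one_lt_card
    obtain ⟨j, hj⟩ := hodd; omega
  rw [Subgroup.eq_bot_iff_forall]
  intro k hk
  by_contra hne
  have hsq : k * k ≠ 1 := fun h => hne (by
    obtain ⟨j, hj⟩ := hK
    have h1 : k ^ (2 * j + 1) = 1 := hj ▸ congrArg Subtype.val (pow_card_eq_one' (x := (⟨k, hk⟩ : K)))
    rwa [pow_succ, pow_mul, pow_two, h, one_pow, one_mul] at h1)
  have hkc : k ∉ Subgroup.center (SL F) := fun h => hsq (mul_self_eq_one_of_center h)
  by_cases h4 : 4 ≤ Fintype.card F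
  · rcases AmbExists.sl_normal h4 K with h | h
    · rw [h, Subgroup.card_top, card_SL2_mul] at hK
      have h2 := (Nat.odd_mul.1 hK).2
      obtain ⟨j, hj⟩ := hodd
      rw [hj] at h2
      have : (2 * j + 1) ^ 2 - 1 = 2 * (2 * j * j + 2 * j) := by
        rw [show (2 * j + 1) ^ 2 = 2 * (2 * j * j + 2 * j) + 1 by ring]; rfl
      rw [this] at h2
      exact (Nat.not_odd_iff_even.2 (even_two_mul _)) h2
    · exact hkc (h hk)
  · have hq : Fintype.card F = 3 := by omega
    have hdvd : Nat.card K ∣ 24 := by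
      have h := Subgroup.card_subgroup_dvd_card K
      rwa [card_SL2_mul, hq, show 3 * (3 ^ 2 - 1) = 24 from rfl] at h
    have hc3 : Nat.card K ∣ 3 := (Nat.Coprime.dvd_of_dvd_mul_left
      ((Nat.coprime_two_right.2 hK).pow_right 3) (show Nat.card K ∣ 2 ^ 3 * 3 from hdvd))
    have : Fintype K := Fintype.ofFinite K
    have hle : Fintype.card K ≤ 3 := by
      rw [← Nat.card_eq_fintype_card]; exact Nat.le_of_dvd (by norm_num) hc3
    have hcases : ∀ w ∈ K, w = 1 ∨ w = k ∨ w = k⁻¹ := by
      intro w hw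
      by_contra! h
      have h4' := Finset.card_le_univ
        ({(1 : K), ⟨k, hk⟩, ⟨k⁻¹, inv_mem hk⟩, ⟨w, hw⟩} : Finset K)
      rw [Finset.card_insert_of_notMem, Finset.card_insert_of_notMem, Finset.card_insert_of_notMem,
        Finset.card_singleton] at h4'
      · omega
      · simpa [Subtype.ext_iff] using h.2.2.symm
      · simp only [Finset.mem_insert, Finset.mem_singleton, Subtype.ext_iff, not_or]
        exact ⟨fun e => hsq (by nth_rewrite 2 [e]; exact mul_inv_cancel k), h.2.1.symm⟩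
      · simp only [Finset.mem_insert, Finset.mem_singleton, Subtype.ext_iff, not_or,
          Subgroup.coe_one]
        exact ⟨fun e => hne e.symm, fun e => hne (inv_eq_one.1 e.symm), fun e => h.1 e.symm⟩
    let t : SL F → SL F := fun g => g * k * g⁻¹
    have hcomm : ∀ g : SL F, g ^ 3 = 1 → g * k = k * g := by
      intro g hg
      rw [← mul_inv_eq_iff_eq_mul]
      rcases hcases _ (hKn.conj_mem k hk g) with h | h | h
      · exact absurd (conj_eq_one_iff.1 h) hne
      · exact h
      · exfalso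
        have hinv : g * k⁻¹ * g⁻¹ = k := by rw [← conj_inv, h, inv_inv]
        have h3' : g ^ 3 * k * (g ^ 3)⁻¹ = k⁻¹ := by
          rw [show g ^ 3 * k * (g ^ 3)⁻¹ = g * (g * (g * k * g⁻¹) * g⁻¹) * g⁻¹ by
            simp only [pow_succ, pow_zero, one_mul, _root_.mul_inv_rev, mul_assoc], h, hinv, h]
        rw [hg, one_mul, inv_one, mul_one] at h3'
        exact hsq (mul_eq_one_iff_eq_inv.2 h3')
    refine hkc (Subgroup.mem_center_iff.2 fun g => ?_)
    refine CfsgLib.Linear.transvection_induction (fun A => A * k = k * A) ?_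
      (fun A B hA hB => by rw [mul_assoc, hB, ← mul_assoc, hA, mul_assoc]) g
    intro i j h a
    refine hcomm _ ?_
    have h0 : (3 : F) = 0 := by
      have := Nat.cast_card_eq_zero F
      rw [hq] at this
      exact_mod_cast this
    refine Subtype.ext ?_
    rw [pow_succ, pow_two, Matrix.SpecialLinearGroup.coe_mul, Matrix.SpecialLinearGroup.coe_mul,
      CfsgLib.Linear.transvec_coe, Matrix.transvection_mul_transvection_same _ _ h,
      Matrix.transvection_mul_transvection_same _ _ h, show a + a + a = (3 : F) * a by ring, h0,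
      zero_mul, Matrix.transvection_zero]
    rfl

variable {X : Type u} [Group X] [Finite X]

/-- With three points less one, the elements of order three lie in the commutator subgroup. -/
theorem mem_commutator_of_pow_three (D : Act X F) (hO : Cfsg.oddCore X = ⊥)
    (hq : Fintype.card F = 3) {n : X} (hn : n ^ 3 = 1) : n ∈ commutator X := by
  classical
  have hfield : ∀ σ : RingAut F, σ = 1 := fun σ => by
    refine RingEquiv.ext fun a => ?_
    obtain ⟨p, hp⟩ := CharP.exists F
    obtain ⟨r, hpp, hr⟩ := FiniteField.card F p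
    have hp3 : p = 3 := by
      have h : p ∣ 3 := by rw [← hq, hr]; exact dvd_pow_self p r.ne_zero
      exact ((Nat.dvd_prime Nat.prime_three).1 h).resolve_left hpp.ne_one
    subst hp3
    obtain ⟨m, rfl⟩ : ∃ m : ℕ, (m : F) = a := by
      have hr1 : (r : ℕ) = 1 := Nat.pow_eq_self_iff (by norm_num : 1 < 3) |>.1 (hr.symm.trans hq)
      have hbij : Function.Bijective (ZMod.castHom (dvd_refl 3) F) := by
        refine (Fintype.bijective_iff_injective_and_card _).2 ⟨RingHom.injective _, ?_⟩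
        rw [ZMod.card, hq]
      obtain ⟨b, rfl⟩ := hbij.2 a
      exact ⟨b.val, by rw [ZMod.castHom_apply, ← ZMod.natCast_val]⟩
    show σ (m : F) = m
    rw [map_natCast]
  obtain ⟨A, hA⟩ : ∃ A, IsMat D.e n A := exists_conj_of_fieldHom D.hodd (hfield _)
  have hinn : D.th n ∈ D.inn := by
    rw [D.mem_inn_iff hA]
    obtain ⟨c, hc⟩ := (hA.pow 3).one_iff.1 (by rw [hn, map_one])
    rw [Units.val_pow_eq_pow_val] at hc
    have hd := congrArg Matrix.det hc
    rw [Matrix.det_pow, Matrix.det_smul, Matrix.det_one, mul_one, Fintype.card_fin] at hd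
    have hd0 : (A : Mat F).det ≠ 0 := ((Matrix.isUnit_iff_isUnit_det _).1 A.isUnit).ne_zero
    exact ⟨c / (A : Mat F).det, by field_simp; linear_combination hd⟩
  obtain ⟨w, hw, hwn⟩ := hinn
  set u := n * w⁻¹ with hu
  have hfix : ∀ v : commutator X, u * v = v * u := fun v => (D.th_fix_iff v).1 (by
    rw [hu, map_mul, map_inv, hwn, mul_inv_cancel]; rfl)
  obtain ⟨a, b, ha, hb, hab, ⟨j, hj⟩, hbo⟩ := exists_split u
  have hbfix : ∀ v : commutator X, b * v = v * b := fun v => by
    obtain ⟨i, rfl⟩ := Subgroup.mem_zpowers_iff.1 hb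
    exact ((show Commute u v from hfix v).zpow_left i).eq
  -- `b` is central, hence trivial
  have hbc : b ∈ Subgroup.center X := by
    have hmem : ∀ g, g * b * g⁻¹ * b⁻¹ ∈ commutator X := fun g => by
      rw [_root_.commutator_def]
      simpa [commutatorElement_def] using
        Subgroup.commutator_mem_commutator (Subgroup.mem_top g) (Subgroup.mem_top b)
    refine Subgroup.mem_center_iff.2 fun g => ?_
    set c : commutator X := ⟨g * b * g⁻¹ * b⁻¹, hmem g⟩ with hc
    have hcg : ∀ v : commutator X, g * b * g⁻¹ * v = v * (g * b * g⁻¹) := fun v => by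
      have h := hbfix ⟨g⁻¹ * v * g, by
        simpa using (inferInstance : (commutator X).Normal).conj_mem v v.2 g⁻¹⟩
      calc g * b * g⁻¹ * v = g * (b * (g⁻¹ * v * g)) * g⁻¹ := by group
        _ = g * (g⁻¹ * v * g * b) * g⁻¹ := by rw [h]
        _ = _ := by group
    have hcc : D.e c ∈ Subgroup.center (SL F) := Subgroup.mem_center_iff.2 fun y => by
      obtain ⟨v, rfl⟩ := D.e.surjective y
      rw [← map_mul, ← map_mul]
      refine congrArg D.e (Subtype.ext ?_)
      have h1 : Commute (g * b * g⁻¹) (v : X) := hcg v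
      exact ((h1.mul_left (show Commute b (v : X) from hbfix v).inv_left).eq).symm
    have hc2 : c * c = 1 := D.e.injective (by
      rw [map_mul, map_one, mul_self_eq_one_of_center hcc])
    have hpow : ∀ i : ℕ, g * b ^ i * g⁻¹ = (c : X) ^ i * b ^ i := by
      intro i
      induction i with
      | zero => simp
      | succ i ih =>
        have h1 : Commute ((c : X)) (b ^ i) := ((show Commute b (c : X) from hbfix c).pow_left i).symm
        calc g * b ^ (i + 1) * g⁻¹ = g * b ^ i * g⁻¹ * (g * b * g⁻¹) := by rw [pow_succ]; group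
          _ = (c : X) ^ i * b ^ i * ((c : X) * b) := by
              rw [ih, show ((c : X) * b) = g * b * g⁻¹ by rw [hc]; simp]
          _ = (c : X) ^ i * ((b ^ i * c) * b) := by group
          _ = (c : X) ^ i * ((c * b ^ i) * b) := by rw [h1.eq]
          _ = _ := by rw [pow_succ (c : X), pow_succ b]; group
    have h1 := hpow (orderOf b)
    rw [pow_orderOf_eq_one, mul_one, mul_one, mul_inv_cancel] at h1
    obtain ⟨i, hi⟩ := hbo
    have h2 : (c : X) * c = 1 := congrArg Subtype.val hc2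
    rw [hi, pow_succ, pow_mul, pow_two, h2, one_pow, one_mul] at h1
    exact mul_inv_eq_iff_eq_mul.1 (mul_inv_eq_one.1 h1.symm)
  have hb1 : b = 1 := by
    have hn' : (Subgroup.zpowers b).Normal := ⟨fun y hy g => by
      obtain ⟨i, rfl⟩ := Subgroup.mem_zpowers_iff.1 hy
      rw [Subgroup.mem_center_iff.1 (zpow_mem hbc i) g, mul_inv_cancel_right]
      exact zpow_mem (Subgroup.mem_zpowers b) i⟩
    have h := DGroup.le_oddCore hn' (by rwa [Nat.card_zpowers])
    rw [hO] at h
    exact Subgroup.mem_bot.1 (h (Subgroup.mem_zpowers b))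
  -- `u` is a 2-element with cube in the commutator subgroup
  rw [hb1, mul_one] at hab
  subst hab
  have hcw : Commute u w := hfix ⟨w, hw⟩
  have h3 : u ^ 3 ∈ commutator X := by
    have : u ^ 3 * w ^ 3 = 1 := by
      rw [← hcw.mul_pow, hu, inv_mul_cancel_right, hn]
    rw [eq_inv_of_mul_eq_one_left this]
    exact inv_mem (pow_mem hw 3)
  have hu1 : u ∈ commutator X := by
    obtain ⟨k, hk⟩ := exists_pow_eq_self_of_coprime (x := u) (n := 3)
      (by rw [hj]; exact (Nat.Coprime.pow_right j (by decide)))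
    rw [← hk]
    exact pow_mem h3 k
  rw [show n = u * w by rw [hu, inv_mul_cancel_right]]
  exact mul_mem hu1 hw

/-- A normal `SL₂(q)` is the commutator subgroup. -/
theorem range_eq_commutator {F' : Type} [Field F'] [Fintype F'] (D : Act X F')
    (hO : Cfsg.oddCore X = ⊥) (hodd : Odd (Fintype.card F)) (ψ : SL F →* X)
    (hψ : Function.Injective ψ) [ψ.range.Normal] : ψ.range = commutator X := by
  have hq : Fintype.card F = Fintype.card F' :=
    AmbExists.q_eq D.hodd D.e hodd ψ.range (MonoidHom.ofInjective hψ).symm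
  have hle : ψ.range ≤ commutator X := by
    by_cases h4 : 4 ≤ Fintype.card F
    · rw [MonoidHom.range_eq_map, ← AmbExists.sl_perfect h4, _root_.commutator_def,
        Subgroup.map_commutator, _root_.commutator_def]
      exact Subgroup.commutator_mono le_top le_top
    · have := D.three_le
      have h3 : Fintype.card F = 3 := by omega
      rintro _ ⟨x, rfl⟩
      refine CfsgLib.Linear.transvection_induction (fun A => ψ A ∈ commutator X) ?_
        (fun A B hA hB => by rw [map_mul]; exact mul_mem hA hB) x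
      intro i j h a
      refine mem_commutator_of_pow_three D hO (by omega) ?_
      rw [← map_pow]
      have h0 : (3 : F) = 0 := by
        have := Nat.cast_card_eq_zero F
        rw [h3] at this
        exact_mod_cast this
      rw [show Matrix.SpecialLinearGroup.transvection h a ^ 3 = 1 from Subtype.ext (by
        rw [pow_succ, pow_two, Matrix.SpecialLinearGroup.coe_mul, Matrix.SpecialLinearGroup.coe_mul,
          CfsgLib.Linear.transvec_coe, Matrix.transvection_mul_transvection_same _ _ h,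
          Matrix.transvection_mul_transvection_same _ _ h, show a + a + a = (3 : F) * a by ring, h0,
          zero_mul, Matrix.transvection_zero]
        rfl), map_one]
  refine Subgroup.eq_of_le_of_card_ge hle (le_of_eq ?_)
  rw [Nat.card_congr D.e.toEquiv, ← Nat.card_congr (MonoidHom.ofInjective hψ).toEquiv,
    card_SL2_mul, card_SL2_mul, hq]

end Core

/-! ### From the data modulo the core to the centraliser -/

section Lift

variable {G : Type u} [Group G] [Finite G] {F : Type} [Field F] [Fintype F] {C : Subgroup G}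
  {e : SL F →* G} (D : Act (C ⧸ Cfsg.oddCore C) F)

/-- The component as a map into the centraliser modulo the core. -/
noncomputable def psi (he : ∀ x, e x ∈ C) : SL F →* C ⧸ Cfsg.oddCore C :=
  (QuotientGroup.mk' (Cfsg.oddCore C)).comp (e.codRestrict C he)

/-- `D` reads the component by `e`. -/
def Compat (he : ∀ x, e x ∈ C) : Prop :=
  ∀ x, ∃ h : psi he x ∈ commutator (C ⧸ Cfsg.oddCore C), D.e ⟨psi he x, h⟩ = x

variable {D} {he : ∀ x, e x ∈ C}

theorem th_mk (hD : Compat D he) {c : C} {x y : SL F} (h : (c : G) * e x * (c : G)⁻¹ = e y) :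
    D.th (QuotientGroup.mk' _ c) x = y := by
  obtain ⟨hx, ex⟩ := hD x
  obtain ⟨hy, ey⟩ := hD y
  conv_lhs => rw [← ex]
  rw [Act.th, theta_apply]
  conv_rhs => rw [← ey]
  congr 1
  refine Subtype.ext ?_
  rw [MulAut.conjNormal_apply]
  show QuotientGroup.mk' _ c * QuotientGroup.mk' _ (e.codRestrict C he x) * (QuotientGroup.mk' _ c)⁻¹ =
    QuotientGroup.mk' _ (e.codRestrict C he y)
  rw [← map_inv, ← map_mul, ← map_mul]
  exact congrArg _ (Subtype.ext h)

theorem exists_acts (hD : Compat D he) (hn : ∀ c ∈ C, ∀ x, c * e x * c⁻¹ ∈ e.range) {c : C}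
    (hc : QuotientGroup.mk' _ c ∈ (D.S : Subgroup (C ⧸ Cfsg.oddCore C))) :
    ∃ A : GL (Fin 2) F, Acts e (c : G) A ∧
      (IsSquare (A : Mat F).det ↔ D.th (QuotientGroup.mk' _ c) ∈ D.inn) := by
  obtain ⟨A, hA⟩ := D.exists_mat hc
  refine ⟨A, fun x => ?_, (D.mem_inn_iff hA).symm⟩
  obtain ⟨y, hy⟩ := hn c c.2 x
  rw [← hy]
  congr 1
  rw [← th_mk hD hy.symm]
  exact DFunLike.congr_fun hA.eq_semi x

theorem field_odd (hD : Compat D he) {c : C} (g : GL (Fin 2) F) (σ : F ≃+* F)
    (h : ∀ x, (c : G) * e x * (c : G)⁻¹ = e (semiSL g σ x)) : ∃ k : ℕ, Odd k ∧ σ ^ k = 1 := by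
  let f : (C ⧸ Cfsg.oddCore C) →* RingAut F := fieldHom.comp D.th
  have hker : (D.S : Subgroup (C ⧸ Cfsg.oddCore C)) ≤ f.ker := fun s hs => by
    obtain ⟨A, hA⟩ := D.exists_mat hs
    show fieldHom (D.th s) = 1
    rw [Act.th, hA.eq_semi, fieldHom_semi]
    rfl
  refine ⟨f.ker.index, ?_, ?_⟩
  · rw [← Nat.not_even_iff_odd, even_iff_two_dvd]
    have : Fact (Nat.Prime 2) := ⟨Nat.prime_two⟩
    exact fun hd => D.S.not_dvd_index (hd.trans (Subgroup.index_dvd_of_le hker))
  · have hσ : f (QuotientGroup.mk' _ c) = σ := by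
      show fieldHom (D.th (QuotientGroup.mk' _ c)) = σ
      rw [show D.th (QuotientGroup.mk' _ c) = semiSL g σ from MulEquiv.ext fun x => th_mk hD (h x),
        fieldHom_semi]
    rw [← hσ, ← map_pow]
    exact MonoidHom.mem_ker.1 (Subgroup.pow_index_mem f.ker _)

end Lift

/-! ### The two shapes -/

section Main

variable {G : Type u} [Group G] [Finite G] {F : Type} [Field F] [Fintype F] {e : SL F →* G}

/-- An element inducing an outer diagonal automorphism with a power an involution other than `z`. -/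
theorem exists_core (S : Sylow 2 G)
    (hS : Cfsg.IsQuasiDihedral (S : Subgroup G) ∨ Cfsg.IsWreathed (S : Subgroup G))
    (h2 : ∀ N : Subgroup G, N.index ≠ 2) {z : G} (hz : orderOf z = 2) (hzS : z ∈ (S : Subgroup G))
    (hzc : ∀ s ∈ (S : Subgroup G), s * z = z * s) (hodd : Odd (Fintype.card F))
    (hinj : Function.Injective e) (hle : e.range ≤ Subgroup.centralizer ({z} : Set G))
    (hn : ∀ c ∈ Subgroup.centralizer ({z} : Set G), ∀ x, c * e x * c⁻¹ ∈ e.range) :
    ∃ (s : G) (n : ℕ) (A : GL (Fin 2) F), s ∈ Subgroup.centralizer ({z} : Set G) ∧ Acts e s A ∧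
      ¬ IsSquare (A : Mat F).det ∧ orderOf (s ^ n) = 2 ∧ s ^ n ≠ z ∧
      (Even n ↔ Cfsg.IsWreathed (S : Subgroup G)) ∧
      (∀ U : Subgroup G, U ≤ (S : Subgroup G) → IsKleinFour U →
        (Cfsg.IsWreathed (S : Subgroup G) → ∀ s ∈ (S : Subgroup G), ∀ t ∈ U, s * t * s⁻¹ ∈ U) →
        Nat.card (Subgroup.centralizer (U : Set G)) = Nat.card (cen2 z (s ^ n))) ∧
      ∀ c ∈ Subgroup.centralizer ({z} : Set G), ∀ (g : GL (Fin 2) F) (σ : F ≃+* F),
        (∀ x, c * e x * c⁻¹ = e (semiSL g σ x)) → ∃ k : ℕ, Odd k ∧ σ ^ k = 1 := by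
  classical
  obtain ⟨F', iF', iFF', hodd', ⟨eF⟩⟩ :=
    GWApps.qd_centralizer_mod_core CfsgLib.GW.Top.statement S hS h2 z hz
  set C := Subgroup.centralizer ({z} : Set G) with hC
  have hSC : (S : Subgroup G) ≤ C := fun s hs => Subgroup.mem_centralizer_singleton_iff.2 (hzc s hs)
  have he : ∀ x, e x ∈ C := fun x => hle ⟨x, rfl⟩
  obtain ⟨P, eS, heS⟩ := AmbExists.exists_sylow_core S C hSC
  set X := C ⧸ Cfsg.oddCore C
  have hO : Cfsg.oddCore X = ⊥ := LocalB.oddCore_quotient
  have hψ : Function.Injective (psi he) := by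
    rw [← MonoidHom.ker_eq_bot_iff]
    refine sl_odd_normal hodd _ ?_
    refine (DGroup.odd_oddCore C).of_dvd_nat ?_
    let f : (psi he).ker →* Cfsg.oddCore C :=
      ((e.codRestrict C he).comp (psi he).ker.subtype).codRestrict _
        fun x => (QuotientGroup.eq_one_iff _).1 x.2
    refine Subgroup.card_dvd_of_injective f fun a b h => ?_
    exact Subtype.ext (hinj (congrArg (fun w : Cfsg.oddCore C => ((w : C) : G)) h))
  have hN : (psi he).range.Normal := ⟨fun w hw g => by
    obtain ⟨x, rfl⟩ := hw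
    obtain ⟨c, rfl⟩ := QuotientGroup.mk'_surjective _ g
    obtain ⟨y, hy⟩ := hn c c.2 x
    refine ⟨y, ?_⟩
    show QuotientGroup.mk' _ (e.codRestrict C he y) =
      QuotientGroup.mk' _ c * QuotientGroup.mk' _ (e.codRestrict C he x) * (QuotientGroup.mk' _ c)⁻¹
    rw [← map_inv, ← map_mul, ← map_mul]
    exact congrArg _ (Subtype.ext hy)⟩
  have mkD : ∀ D' : Act X F', ∃ eX : commutator X ≃* SL F,
      ∀ x, ∃ h : psi he x ∈ commutator X, eX ⟨psi he x, h⟩ = x := fun D' => by
    have hr := range_eq_commutator D' hO hodd (psi he) hψ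
    refine ⟨((MonoidHom.ofInjective hψ).trans (MulEquiv.subgroupCongr hr)).symm, fun x =>
      ⟨hr ▸ ⟨x, rfl⟩, ?_⟩⟩
    rw [MulEquiv.symm_apply_eq]
    rfl
  by_cases hW : Cfsg.IsWreathed (S : Subgroup G)
  · obtain ⟨W⟩ := CfsgLib.Wreath.exists_data hW
    have hWz := AmbExists.wreath_z W hz hzS hzc
    obtain ⟨eX, heX⟩ := mkD (WR.act (AmbExists.mapWreath eS W) hodd' eF)
    set W' := AmbExists.mapWreath eS W
    have hcomp : Compat (WR.act W' hodd eX) he := heX
    set s : C := ⟨W.ge 1 0, hSC (W.ge_mem 1 0)⟩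
    have hs : QuotientGroup.mk' (Cfsg.oddCore C) s = (W'.e 1 0 : X) := by
      rw [AmbExists.mapWreath_e, heS]; rfl
    obtain ⟨A, hA, hdet⟩ := exists_acts hcomp hn (c := s) (by rw [hs]; exact SetLike.coe_mem _)
    have hnsq : ¬ IsSquare (A : Mat F).det := by
      rw [hdet, hs]
      intro hinn
      have h1 := (WR.inn_iff W' hodd eX (SetLike.coe_mem _)).1 hinn
      rw [WR.isEv_e] at h1
      omega
    have hpow : W.ge 1 0 ^ (2 ^ (W.k + 1)) = W.ge W.h 0 := by
      rw [← zpow_natCast, W.ge_zpow, CfsgLib.Wreath.Data.h, W.hq, pow_succ']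
      push_cast
      simp
    refine ⟨W.ge 1 0, 2 ^ (W.k + 1), A, hSC (W.ge_mem 1 0), hA, hnsq, ?_, ?_,
      iff_of_true (Nat.even_pow.2 ⟨even_two, by omega⟩) hW, fun U hUS hU hUn => ?_,
      fun c hc g σ h => field_odd hcomp (c := ⟨c, hc⟩) g σ h⟩
    · rw [hpow, CfsgLib.Wreath.Data.ge, Subgroup.orderOf_coe, W.eh0_invol]
    · rw [hpow, ← hWz, Ne, W.ge_eq_iff]
      rintro ⟨-, h⟩
      exact W.not_dvd_h (by simpa using h)
    · rw [hpow, AmbExists.wreath_four W hUS hU (hUn hW), hWz]
  · have hQ := hS.resolve_right hW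
    obtain ⟨W⟩ := CfsgLib.QD.exists_data hQ
    have hWz := AmbExists.qd_z W hz hzS hzc
    obtain ⟨eX, heX⟩ := mkD (SD.act (AmbExists.mapQD eS W) hodd' eF)
    set W' := AmbExists.mapQD eS W
    have hcomp : Compat (SD.act W' hodd eX) he := heX
    set s : C := ⟨W.gy 0, hSC (W.gy_mem 0)⟩
    have hy : W.gy 0 = ((W.y : (S : Subgroup G)) : G) := by simp [CfsgLib.QD.Data.gy]
    have hs : QuotientGroup.mk' (Cfsg.oddCore C) s = (W'.y : X) := by
      rw [show W'.y = eS W.y from rfl, heS]
      exact congrArg _ (Subtype.ext hy)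
    obtain ⟨A, hA, hdet⟩ := exists_acts hcomp hn (c := s) (by rw [hs]; exact SetLike.coe_mem _)
    have hnsq : ¬ IsSquare (A : Mat F).det := by
      rw [hdet, hs]
      exact fun hinn => SD.y_not_half W' ((SD.inn_half W' hodd eX W'.y).1 hinn)
    refine ⟨W.gy 0, 1, A, hSC (W.gy_mem 0), hA, hnsq, ?_, ?_, iff_of_false (by decide) hW,
      fun U hUS hU _ => ?_, fun c hc g σ h => field_odd hcomp (c := ⟨c, hc⟩) g σ h⟩
    · rw [pow_one]; exact W.gy_order_two (dvd_zero 2)
    · rw [pow_one, ← hWz]; exact W.gy_ne_gz 0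
    · rw [pow_one, AmbExists.qd_four W hUS hU, hWz]

theorem isSquare_mul_of_not (hodd : Odd (Fintype.card F)) {a b : F} (ha : ¬ IsSquare a)
    (hb : ¬ IsSquare b) : IsSquare (a * b) := by
  classical
  have hchar : ringChar F ≠ 2 := fun h => two_ne_zero_of_odd hodd (by
    have := ringChar.Nat.cast_ringChar (R := F); rw [h] at this; exact_mod_cast this)
  have ha0 : a ≠ 0 := fun h => ha (h ▸ IsSquare.zero)
  have hb0 : b ≠ 0 := fun h => hb (h ▸ IsSquare.zero)
  rw [← quadraticChar_one_iff_isSquare (mul_ne_zero ha0 hb0), map_mul,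
    (quadraticChar_neg_one_iff_not_isSquare).2 ha, (quadraticChar_neg_one_iff_not_isSquare).2 hb]
  norm_num

theorem isSquare_pow_iff_of_not {a : F} (ha : ¬ IsSquare a) {n : ℕ} : IsSquare (a ^ n) ↔ Even n := by
  refine ⟨fun h => ?_, fun h => h.isSquare_pow a⟩
  by_contra hn
  obtain ⟨j, rfl⟩ := Nat.not_even_iff_odd.1 hn
  obtain ⟨r, hr⟩ := h
  have ha0 : a ^ j ≠ 0 := pow_ne_zero _ fun h => ha (h ▸ IsSquare.zero)
  exact ha ⟨r / a ^ j, by
    field_simp
    linear_combination hr⟩

/-- The fields `diag` and `field_odd` of `Loc`, the tie of the type of `z₁` to the shape of a Sylow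
2-subgroup, and the centraliser of a four-group of that subgroup. -/
theorem loc_fields (S : Sylow 2 G)
    (hS : Cfsg.IsQuasiDihedral (S : Subgroup G) ∨ Cfsg.IsWreathed (S : Subgroup G))
    (h2 : ∀ N : Subgroup G, N.index ≠ 2) {z : G} (hz : orderOf z = 2) (hzS : z ∈ (S : Subgroup G))
    (hzc : ∀ s ∈ (S : Subgroup G), s * z = z * s) (hodd : Odd (Fintype.card F))
    (hinj : Function.Injective e) (hle : e.range ≤ Subgroup.centralizer ({z} : Set G))
    (hn : ∀ c ∈ Subgroup.centralizer ({z} : Set G), ∀ x, c * e x * c⁻¹ ∈ e.range)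
    {z₁ : G} (M : GL (Fin 2) F) (hact : ∀ x, z₁ * e x * z₁⁻¹ = e (semiSL M (RingEquiv.refl F) x))
    (hinvol : ∀ t ∈ Subgroup.centralizer ({z} : Set G), orderOf t = 2 → t ≠ z →
      ∃ x, t = e x * z₁ * (e x)⁻¹) :
    (∀ g : GL (Fin 2) F, ∃ c ∈ Subgroup.centralizer ({z} : Set G),
      (∀ x, c * e x * c⁻¹ = e (semiSL g (RingEquiv.refl F) x)) ∧
        (g * M = M * g → c * z₁ = z₁ * c)) ∧
    (∀ c ∈ Subgroup.centralizer ({z} : Set G), ∀ (g : GL (Fin 2) F) (σ : F ≃+* F),
      (∀ x, c * e x * c⁻¹ = e (semiSL g σ x)) → ∃ k : ℕ, Odd k ∧ σ ^ k = 1) ∧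
    (IsSquare (-(M : Mat F).det) ↔
      (Fintype.card F % 4 = 1 ↔ Cfsg.IsWreathed (S : Subgroup G))) ∧
    ∀ U : Subgroup G, U ≤ (S : Subgroup G) → IsKleinFour U →
      (Cfsg.IsWreathed (S : Subgroup G) → ∀ s ∈ (S : Subgroup G), ∀ t ∈ U, s * t * s⁻¹ ∈ U) →
      Nat.card (Subgroup.centralizer (U : Set G)) = Nat.card (cen2 z z₁) := by
  classical
  obtain ⟨s, n, A, hsC, hA, hns, ho, hne, heven, hU, hfield⟩ :=
    exists_core S hS h2 hz hzS hzc hodd hinj hle hn
  obtain ⟨x, hx⟩ := hinvol _ (pow_mem hsC n) ho hne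
  have hxC : ∀ y, e y ∈ Subgroup.centralizer ({z} : Set G) := fun y => hle ⟨y, rfl⟩
  -- move the element to `z₁`
  set s₁ : G := (e x)⁻¹ * s * ((e x)⁻¹)⁻¹ with hs₁
  have hs₁C : s₁ ∈ Subgroup.centralizer ({z} : Set G) :=
    mul_mem (mul_mem (inv_mem (hxC x)) hsC) (inv_mem (inv_mem (hxC x)))
  have hs₁n : s₁ ^ n = z₁ := by rw [hs₁, conj_pow, hx]; group
  set A₁ : GL (Fin 2) F := (Matrix.SpecialLinearGroup.toGL x)⁻¹ * A *
    ((Matrix.SpecialLinearGroup.toGL x)⁻¹)⁻¹ with hA₁
  have hA₁act : Acts e s₁ A₁ := ((acts_coe x).inv.mul hA).mul (acts_coe x).inv.inv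
  have hM : Acts e z₁ M := hact
  have hA₁det : (A₁ : Mat F).det = (A : Mat F).det := by
    rw [hA₁, inv_inv, Units.val_mul, Units.val_mul, Matrix.det_mul, Matrix.det_mul,
      mul_comm, ← mul_assoc, ← Matrix.det_mul, ← Units.val_mul, mul_inv_cancel, Units.val_one,
      Matrix.det_one, one_mul]
  obtain ⟨l, hl0, hl⟩ : ∃ l : F, l ≠ 0 ∧ ((A₁ ^ n : GL (Fin 2) F) : Mat F) = l • (M : Mat F) :=
    (hs₁n ▸ hA₁act.pow n).proportional hinj hM
  have hcomm : A₁ * M = M * A₁ := Units.ext (by
    have h : (A₁ : Mat F) * ((A₁ ^ n : GL (Fin 2) F) : Mat F) =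
        ((A₁ ^ n : GL (Fin 2) F) : Mat F) * A₁ := by
      rw [← Units.val_mul, ← Units.val_mul, ← pow_succ', ← pow_succ]
    rw [hl, Matrix.mul_smul, Matrix.smul_mul] at h
    rw [Units.val_mul, Units.val_mul]
    exact smul_right_injective _ hl0 h)
  have hs₁z : s₁ * z₁ = z₁ * s₁ := by rw [← hs₁n, ← pow_succ', ← pow_succ]
  refine ⟨fun g => ?_, hfield, ?_, fun U hUS hU' hUn => ?_⟩
  · by_cases hg : IsSquare (g : Mat F).det
    · obtain ⟨y, hy, hyM⟩ := exists_sl (e := e) g hg
      exact ⟨e y, hxC y, hy, fun h => (hM.commute (hyM M h)).symm⟩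
    · have hg' : IsSquare ((g * A₁⁻¹ : GL (Fin 2) F) : Mat F).det := by
        rw [Units.val_mul, Matrix.det_mul, Matrix.coe_units_inv, Matrix.det_nonsing_inv,
          Ring.inverse_eq_inv', hA₁det]
        exact isSquare_mul_of_not hodd hg fun h => hns (by simpa using h.inv)
      obtain ⟨y, hy, hyM⟩ := exists_sl (e := e) _ hg'
      refine ⟨e y * s₁, mul_mem (hxC y) hs₁C, fun w => ?_, fun h => ?_⟩
      · have := hy.mul hA₁act w
        rwa [inv_mul_cancel_right] at this
      · have hgM : g * A₁⁻¹ * M = M * (g * A₁⁻¹) :=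
          ((show Commute g M from h).mul_left (show Commute A₁ M from hcomm).inv_left).eq
        exact ((show Commute (e y) z₁ from (hM.commute (hyM M hgM)).symm).mul_left
          (show Commute s₁ z₁ from hs₁z)).eq
  · have hdet : IsSquare (M : Mat F).det ↔ Even n := by
      rw [← isSquare_pow_iff_of_not (n := n) (show ¬ IsSquare (A : Mat F).det from hns), ← hA₁det,
        ← Matrix.det_pow, ← Units.val_pow_eq_pow_val, hl, Matrix.det_smul, Fintype.card_fin]
      refine ⟨fun h => (Even.isSquare_pow even_two l).mul h, fun ⟨r, hr⟩ => ⟨r / l, ?_⟩⟩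
      field_simp
      linear_combination hr
    have hd : (M : Mat F).det ≠ 0 := ((Matrix.isUnit_iff_isUnit_det _).1 M.isUnit).ne_zero
    have h1 : IsSquare (-1 : F) ↔ Fintype.card F % 4 = 1 := by
      rw [FiniteField.isSquare_neg_one_iff]
      have := Nat.odd_iff.1 hodd
      omega
    rw [← h1, ← heven, ← hdet, neg_eq_neg_one_mul]
    by_cases e1 : IsSquare (-1 : F) <;> by_cases e2 : IsSquare (M : Mat F).det
    · exact iff_of_true (e1.mul e2) (iff_of_true e1 e2)
    · refine iff_of_false (fun h => e2 ?_) fun h => e2 (h.1 e1)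
      have := e1.mul h
      rwa [← mul_assoc, neg_one_mul (-1 : F), neg_neg, one_mul] at this
    · refine iff_of_false (fun h => e1 ?_) fun h => e1 (h.2 e2)
      have := h.mul e2.inv
      rwa [mul_inv_cancel_right₀ hd] at this
    · exact iff_of_true (isSquare_mul_of_not hodd e1 e2) (iff_of_false e1 e2)
  · rw [hU U hUS hU' hUn]
    have hmap : (cen2 z z₁).map (MulAut.conj (e x)).toMonoidHom = cen2 z (s ^ n) := by
      have hez : (e x)⁻¹ * z * e x = z := by
        rw [mul_assoc, ← Subgroup.mem_centralizer_singleton_iff.1 (hxC x), inv_mul_cancel_left]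
      have key : ∀ g v : G, Commute ((e x)⁻¹ * g * e x) ((e x)⁻¹ * v * e x) ↔ Commute g v := by
        intro g v
        constructor <;> intro h
        · have := h.map (MulAut.conj (e x)).toMonoidHom
          simpa [MulAut.conj_apply, mul_assoc] using this
        · have := h.map (MulAut.conj (e x)⁻¹).toMonoidHom
          simpa [MulAut.conj_apply] using this
      ext g
      rw [Subgroup.mem_map_equiv, MulAut.conj_symm_apply, Subgroup.mem_inf, Subgroup.mem_inf,
        Subgroup.mem_centralizer_singleton_iff, Subgroup.mem_centralizer_singleton_iff,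
        Subgroup.mem_centralizer_singleton_iff, Subgroup.mem_centralizer_singleton_iff]
      have k1 := key g z
      have k2 := key g (s ^ n)
      rw [hez] at k1
      rw [show (e x)⁻¹ * s ^ n * e x = z₁ by rw [hx]; group] at k2
      exact and_congr k1 k2
    rw [← hmap, Subgroup.card_map_of_injective (MulAut.conj (e x)).injective]

/-- The sign of the local data in terms of the shape. -/
theorem eps_iff {X : Type*} [Group X] (D : Cen X) (hq : D.q = Fintype.card F) {W : Prop}
    (hW : W → 2 ≤ D.m) (hQ : ¬ W → D.m = 1) : (Fintype.card F % 4 = 1 ↔ W) ↔ D.ε = 1 := by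
  have hoddq := Nat.odd_iff.1 D.hq.1
  rw [← hq]
  by_cases h : W
  · obtain ⟨r, -, he⟩ := D.hY.2 (hW h)
    have h4 : (4 : ℤ) ∣ 2 ^ D.m * r := Dvd.dvd.mul_right ⟨2 ^ (D.m - 2), by
      rw [show (4 : ℤ) = 2 ^ 2 from rfl, ← pow_add, Nat.add_sub_cancel' (hW h)]⟩ _
    rw [← he] at h4
    simp only [h, iff_true]
    rcases D.hε with e1 | e1 <;> rw [e1] at h4 ⊢
    · refine iff_of_true ?_ rfl; omega
    · refine iff_of_false ?_ (by decide); omega
  · have hM : 3 ≤ D.M := by
      rcases D.hmM with ⟨-, h3, -⟩ | ⟨h2, -⟩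
      · exact h3
      · have := hQ h; omega
    obtain ⟨r, -, he⟩ := D.hY.1 (hQ h)
    have h4 : (4 : ℤ) ∣ 2 ^ (D.M - 1) * r := Dvd.dvd.mul_right ⟨2 ^ (D.M - 3), by
      rw [show (4 : ℤ) = 2 ^ 2 from rfl, ← pow_add, show 2 + (D.M - 3) = D.M - 1 by omega]⟩ _
    rw [← he] at h4
    simp only [h, iff_false]
    rcases D.hε with e1 | e1 <;> rw [e1] at h4 ⊢
    · refine iff_of_true ?_ rfl; omega
    · refine iff_of_false ?_ (by decide); omega

/-- The two order formulas of `Loc` from the signed one and the sign tie; `ε` is the sign of the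
local data and the formula is the one of `formula_of_x` with `-ε`. -/
theorem loc_cards {g c t : ℕ} {P : Prop} {ε : ℤ} (hε : ε = 1 ∨ ε = -1) (htie : P ↔ ε = 1)
    (h : (g : ℤ) * (t : ℤ) ^ 2 * ((Fintype.card F : ℤ) + ε) ^ 2 =
      (c : ℤ) ^ 3 * ((Fintype.card F : ℤ) ^ 2 + ε * Fintype.card F + 1)) :
    (P → g * t ^ 2 * (Fintype.card F + 1) ^ 2 =
      c ^ 3 * (Fintype.card F ^ 2 + Fintype.card F + 1)) ∧
    (¬ P → g * t ^ 2 * (Fintype.card F - 1) ^ 2 + Fintype.card F * c ^ 3 =
      c ^ 3 * (Fintype.card F ^ 2 + 1)) := by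
  refine ⟨fun hp => ?_, fun hp => ?_⟩
  · rw [htie.1 hp] at h
    zify
    linear_combination h
  · rw [hε.resolve_left (mt htie.2 hp)] at h
    zify [(Fintype.card_pos (α := F) : 1 ≤ Fintype.card F)]
    linear_combination h

end Main

end CfsgLib.ABG.Recog.LocData
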