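import Cfsg.Agent.OrderFormula.LocalSL

/-!
# Alperin-Brauer-Gorenstein, recognition half: matrices for the linear type

The root elements `up`, `low`, the element `wel` exchanging them and the semilinear maps given by
diagonal matrices.
-/

set_option autoImplicit false

namespace CfsgLib.ABG.Recog

open Matrix CfsgLib.SL2C CfsgLib.AutPSL

variable {F : Type*} [Field F]

/-- The matrix `diag(1, -1)`. -/
def dM : GL (Fin 2) F :=
  ⟨!![1, 0; 0, -1], !![1, 0; 0, -1],
    by ext i j; fin_cases i <;> fin_cases j <;> simp [Matrix.mul_apply, Fin.sum_univ_two],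
    by ext i j; fin_cases i <;> fin_cases j <;> simp [Matrix.mul_apply, Fin.sum_univ_two]⟩

/-- The matrix `diag(a, 1)`. -/
def dia (a : Fˣ) : GL (Fin 2) F :=
  ⟨!![(a : F), 0; 0, 1], !![((a⁻¹ : Fˣ) : F), 0; 0, 1],
    by ext i j; fin_cases i <;> fin_cases j <;> simp [Matrix.mul_apply, Fin.sum_univ_two],
    by ext i j; fin_cases i <;> fin_cases j <;> simp [Matrix.mul_apply, Fin.sum_univ_two]⟩

theorem coe_dM : ((dM : GL (Fin 2) F) : Matrix (Fin 2) (Fin 2) F) = !![1, 0; 0, -1] := rfl

theorem coe_dia (a : Fˣ) : ((dia a : GL (Fin 2) F) : Matrix (Fin 2) (Fin 2) F) = !![(a : F), 0; 0, 1] := rfl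

theorem coe_dia_inv (a : Fˣ) :
    (((dia a)⁻¹ : GL (Fin 2) F) : Matrix (Fin 2) (Fin 2) F) = !![((a⁻¹ : Fˣ) : F), 0; 0, 1] := rfl

/-- An upper unipotent element. -/
def up (b : F) : SL F := ⟨!![1, b; 0, 1], by simp [det_fin_two_of]⟩

/-- A lower unipotent element. -/
def low (b : F) : SL F := ⟨!![1, 0; b, 1], by simp [det_fin_two_of]⟩

/-- The element exchanging the two root groups. -/
def wel : SL F := ⟨!![0, 1; -1, 0], by simp [det_fin_two_of]⟩

theorem up_add (a b : F) : up a * up b = up (a + b) := mt_injective (by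
  rw [mt_mul]; ext i j; fin_cases i <;> fin_cases j <;>
    simp [up, Matrix.mul_apply, Fin.sum_univ_two, add_comm])

theorem low_add (a b : F) : low a * low b = low (a + b) := mt_injective (by
  rw [mt_mul]; ext i j; fin_cases i <;> fin_cases j <;>
    simp [low, Matrix.mul_apply, Fin.sum_univ_two, add_comm])

theorem up_zero : up (0 : F) = 1 := mt_injective (by ext i j; fin_cases i <;> fin_cases j <;> simp [up])

theorem low_zero : low (0 : F) = 1 := mt_injective (by ext i j; fin_cases i <;> fin_cases j <;> simp [low])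

theorem up_inj {a b : F} (h : up a = up b) : a = b := by
  simpa [up] using congrFun (congrFun (congrArg SL2C.mt h) 0) 1

theorem low_inj {a b : F} (h : low a = low b) : a = b := by
  simpa [low] using congrFun (congrFun (congrArg SL2C.mt h) 1) 0

theorem up_inv (b : F) : (up b)⁻¹ = up (-b) :=
  inv_eq_of_mul_eq_one_right (by rw [up_add, add_neg_cancel, up_zero])

theorem up_pow (b : F) (n : ℕ) : up b ^ n = up ((n : F) * b) := by
  induction n with
  | zero => simp [up_zero]
  | succ n ih => rw [pow_succ, ih, up_add]; push_cast; ring_nf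

/-- The upper root group. -/
def upHom : Multiplicative F →* SL F where
  toFun b := up (Multiplicative.toAdd b)
  map_one' := up_zero
  map_mul' a b := (up_add _ _).symm

theorem wel_sq : wel * wel = (-1 : SL F) := mt_injective (by
  rw [mt_mul]; ext i j; fin_cases i <;> fin_cases j <;> simp [wel, Matrix.mul_apply, Fin.sum_univ_two])

theorem wel_conj_up (b : F) : wel * up b * wel⁻¹ = low (-b) := mul_inv_eq_iff_eq_mul.2 (mt_injective (by
  rw [mt_mul, mt_mul]
  ext i j; fin_cases i <;> fin_cases j <;> simp [wel, up, low, Matrix.mul_apply, Fin.sum_univ_two]))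

theorem wel_conj_low (b : F) : wel * low b * wel⁻¹ = up (-b) := mul_inv_eq_iff_eq_mul.2 (mt_injective (by
  rw [mt_mul, mt_mul]
  ext i j; fin_cases i <;> fin_cases j <;> simp [wel, up, low, Matrix.mul_apply, Fin.sum_univ_two]))

theorem wel_conj_dg (a : Fˣ) : wel * dg a * wel⁻¹ = dg a⁻¹ := mul_inv_eq_iff_eq_mul.2 (mt_injective (by
  rw [mt_mul, mt_mul, mt_dg, mt_dg]
  ext i j; fin_cases i <;> fin_cases j <;> simp [wel, Matrix.mul_apply, Fin.sum_univ_two]))

theorem dg_conj_up (a : Fˣ) (b : F) : dg a * up b * (dg a)⁻¹ = up ((a : F) * a * b) :=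
  mul_inv_eq_iff_eq_mul.2 (mt_injective (by
    rw [mt_mul, mt_mul, mt_dg]
    ext i j; fin_cases i <;> fin_cases j <;>
      simp [up, Matrix.mul_apply, Fin.sum_univ_two] <;> field_simp))

theorem semi_dia_up (a : Fˣ) (σ : F ≃+* F) (b : F) :
    semiSL (dia a) σ (up b) = up ((a : F) * σ b) := mt_injective (by
  show (semiFun (dia a) σ (up b) : Matrix (Fin 2) (Fin 2) F) = _
  rw [coe_semiFun, coe_dia, coe_dia_inv]
  ext i j; fin_cases i <;> fin_cases j <;> simp [up, Matrix.mul_apply, Matrix.vecMul, dotProduct, Fin.sum_univ_two, mul_comm])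

theorem semi_dia_low (a : Fˣ) (σ : F ≃+* F) (b : F) :
    semiSL (dia a) σ (low b) = low (((a⁻¹ : Fˣ) : F) * σ b) := mt_injective (by
  show (semiFun (dia a) σ (low b) : Matrix (Fin 2) (Fin 2) F) = _
  rw [coe_semiFun, coe_dia, coe_dia_inv]
  ext i j; fin_cases i <;> fin_cases j <;> simp [low, Matrix.mul_apply, Matrix.vecMul, dotProduct, Fin.sum_univ_two, mul_comm])

theorem semi_dia_dg (a : Fˣ) (σ : F ≃+* F) (c : Fˣ) :
    semiSL (dia a) σ (dg c) = dg (Units.map (σ : F →* F) c) := mt_injective (by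
  show (semiFun (dia a) σ (dg c) : Matrix (Fin 2) (Fin 2) F) = _
  rw [coe_semiFun, coe_dia, coe_dia_inv]
  show !![(a : F), 0; 0, 1] * (mt (dg c)).map σ * !![((a⁻¹ : Fˣ) : F), 0; 0, 1] = _
  rw [mt_dg, mt_dg]
  ext i j; fin_cases i <;> fin_cases j <;>
    simp [Matrix.mul_apply, Matrix.vecMul, dotProduct, Fin.sum_univ_two, map_inv₀, mul_comm])

theorem dM_conj (x : SL F) :
    mt (semiSL dM (RingEquiv.refl F) x) = !![mt x 0 0, -mt x 0 1; -mt x 1 0, mt x 1 1] := by
  show (semiFun dM (RingEquiv.refl F) x : Matrix (Fin 2) (Fin 2) F) = _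
  rw [coe_semiFun, map_refl_ringEquiv]
  show !![(1 : F), 0; 0, -1] * mt x * !![(1 : F), 0; 0, -1] = _
  ext i j; fin_cases i <;> fin_cases j <;> simp [Matrix.mul_apply, Matrix.vecMul, dotProduct, Fin.sum_univ_two]

theorem dM_up (b : F) : semiSL dM (RingEquiv.refl F) (up b) = up (-b) :=
  mt_injective (by rw [dM_conj]; ext i j; fin_cases i <;> fin_cases j <;> simp [up])

theorem dM_low (b : F) : semiSL dM (RingEquiv.refl F) (low b) = low (-b) :=
  mt_injective (by rw [dM_conj]; ext i j; fin_cases i <;> fin_cases j <;> simp [low])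

theorem dM_dg (a : Fˣ) : semiSL dM (RingEquiv.refl F) (dg a) = dg a :=
  mt_injective (by rw [dM_conj, mt_dg]; ext i j; fin_cases i <;> fin_cases j <;> simp)

theorem dM_wel : semiSL dM (RingEquiv.refl F) (wel : SL F) = (-1 : SL F) * wel :=
  mt_injective (by rw [dM_conj, mt_mul]; ext i j; fin_cases i <;> fin_cases j <;> simp [wel])

/-- An element with `(1,0)` entry zero is in the Borel subgroup, otherwise in the big cell. -/
theorem bruhat_sl (x : SL F) :
    (∃ b a, x = up b * dg a) ∨ ∃ b c a, x = up b * wel * up c * dg a := by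
  by_cases h : mt x 1 0 = 0
  · obtain ⟨a, b, rfl⟩ := exists_bor_of_apply h
    refine Or.inl ⟨b * a, a, mt_injective ?_⟩
    rw [mt_mul, mt_bor, mt_dg]
    ext i j; fin_cases i <;> fin_cases j <;> simp [up, Matrix.mul_apply, Fin.sum_univ_two]
  · refine Or.inr ⟨mt x 0 0 / mt x 1 0, mt x 1 1 * mt x 1 0, Units.mk0 (-mt x 1 0) (neg_ne_zero.2 h),
      mt_injective ?_⟩
    have hd := det_mt x
    rw [det_fin_two] at hd
    rw [mt_mul, mt_mul, mt_mul, mt_dg]
    ext i j; fin_cases i <;> fin_cases j <;>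
      simp [up, wel, Matrix.mul_apply, Fin.sum_univ_two] <;> field_simp <;>
      first | ring1 | linear_combination -hd | linear_combination hd

end CfsgLib.ABG.Recog
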