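import Cfsg.Agent.ABG.Recog.RootsDef
import Cfsg.Agent.ABG.Recog.Hex

/-!
# Alperin-Brauer-Gorenstein, recognition half: the symmetric group on the root groups

Bookkeeping over `RootsDef` and the assembly of a hexagon of root groups from the five relations
at the base position.
-/

set_option autoImplicit false
set_option linter.unusedSectionVars false

namespace CfsgLib.ABG.Recog.Loc

open Subgroup CfsgLib.SL2C

universe u

variable {G : Type u} [Group G] {F : Type} [Field F] [Fintype F] (D : Loc G F)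

theorem third_index : ∀ {i j : Fin 3}, i ≠ j → ∃ k : Fin 3, i ≠ k ∧ j ≠ k := by decide

theorem exists_perm_of_ne : ∀ {i j : Fin 3}, i ≠ j →
    ∃ σ : Equiv.Perm (Fin 3), σ 0 = i ∧ σ 1 = j := by decide

theorem perm_two {i j k : Fin 3} (hij : i ≠ j) (hik : i ≠ k) (hjk : j ≠ k) :
    ∃ σ : Equiv.Perm (Fin 3), σ 0 = i ∧ σ 1 = j ∧ σ 2 = k := by
  revert i j k; decide

theorem zz_order (a : Fin 3) : orderOf (D.zz a) = 2 := by
  fin_cases a
  · exact D.order_z₁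
  · exact D.order_z₂
  · exact D.order_z

theorem zz_sq (a : Fin 3) : D.zz a * D.zz a = 1 := Invol.mul_self_eq_one (D.zz_order a)

theorem zz_mem_T (a : Fin 3) : D.zz a ∈ D.T := by
  fin_cases a
  · exact D.z₁_mem_T
  · exact D.z₂_mem_T
  · exact D.z_mem_T

theorem T_zz {t : G} (ht : t ∈ D.T) (a : Fin 3) : t * D.zz a = D.zz a * t := by
  obtain ⟨h, h1⟩ := D.mem_T.1 ht
  fin_cases a
  · exact h1
  · show t * (D.z * D.z₁) = D.z * D.z₁ * t
    rw [← mul_assoc, h, mul_assoc, h1, ← mul_assoc]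
  · exact h

theorem zz_comm (a b : Fin 3) : D.zz a * D.zz b = D.zz b * D.zz a := D.T_zz (D.zz_mem_T a) b

theorem zz_ne {a b : Fin 3} (h : a ≠ b) : D.zz a ≠ D.zz b := by
  fin_cases a <;> fin_cases b <;> simp only [ne_eq, not_true_eq_false] at h ⊢
  · exact D.z₂_ne_z₁.symm
  · exact D.ne
  · exact D.z₂_ne_z₁
  · exact D.z₂_ne_z
  · exact D.ne.symm
  · exact D.z₂_ne_z.symm

theorem zz_mul {i j k : Fin 3} (hij : i ≠ j) (hik : i ≠ k) (hjk : j ≠ k) :
    D.zz i * D.zz j = D.zz k := by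
  have h01 : D.zz 0 * D.zz 1 = D.zz 2 := by
    show D.z₁ * (D.z * D.z₁) = D.z
    rw [D.comm, ← mul_assoc, D.z₁_sq, one_mul]
  have h02 : D.zz 0 * D.zz 2 = D.zz 1 := D.comm.symm
  have h12 : D.zz 1 * D.zz 2 = D.zz 0 := by
    show D.z * D.z₁ * D.z = D.z₁
    rw [D.comm, mul_assoc, D.z_sq, mul_one]
  fin_cases i <;> fin_cases j <;> fin_cases k <;>
    simp only [ne_eq, not_true_eq_false] at hij hik hjk <;>
    first
      | exact h01 | exact h02 | exact h12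
      | exact (D.zz_comm _ _).trans h01 | exact (D.zz_comm _ _).trans h02
      | exact (D.zz_comm _ _).trans h12

theorem zz_cen2 {a b : Fin 3} (h : a ≠ b) : cen2 (D.zz a) (D.zz b) = D.T := by
  refine le_antisymm (fun x hx => ?_) fun x hx => ?_
  · rw [Subgroup.mem_inf, mem_cen_iff, mem_cen_iff] at hx
    obtain ⟨c, hac, hbc⟩ := third_index h
    have hc : x * D.zz c = D.zz c * x := by
      rw [← D.zz_mul h hac hbc, ← mul_assoc, hx.1, mul_assoc, hx.2, ← mul_assoc]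
    have hall : ∀ m, x * D.zz m = D.zz m * x := fun m => by
      rcases (show m = a ∨ m = b ∨ m = c by revert h hac hbc; clear hx hc; revert a b c m; decide) with
        rfl | rfl | rfl
      exacts [hx.1, hx.2, hc]
    exact D.mem_T.2 ⟨hall 2, hall 0⟩
  · rw [Subgroup.mem_inf, mem_cen_iff, mem_cen_iff]
    exact ⟨D.T_zz hx a, D.T_zz hx b⟩

theorem mem_T_of_fix {n : G} {a b : Fin 3} (h : a ≠ b) (ha : n * D.zz a * n⁻¹ = D.zz a)
    (hb : n * D.zz b * n⁻¹ = D.zz b) : n ∈ D.T := by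
  rw [← D.zz_cen2 h, Subgroup.mem_inf, mem_cen_iff, mem_cen_iff]
  exact ⟨comm_of_conj ha, comm_of_conj hb⟩

/-- A conjugation permutes the three involutions as soon as it maps two of them as wanted. -/
theorem conj_zz_of_two {n : G} {σ : Equiv.Perm (Fin 3)} (h0 : n * D.zz 0 * n⁻¹ = D.zz (σ 0))
    (h1 : n * D.zz 1 * n⁻¹ = D.zz (σ 1)) (a : Fin 3) : n * D.zz a * n⁻¹ = D.zz (σ a) := by
  fin_cases a
  · exact h0
  · exact h1
  · show n * D.zz 2 * n⁻¹ = D.zz (σ 2)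
    rw [← D.zz_mul (show (0 : Fin 3) ≠ 1 by decide) (show (0 : Fin 3) ≠ 2 by decide)
        (show (1 : Fin 3) ≠ 2 by decide),
      ← D.zz_mul (σ.injective.ne (show (0 : Fin 3) ≠ 1 by decide))
        (σ.injective.ne (show (0 : Fin 3) ≠ 2 by decide)) (σ.injective.ne (show (1 : Fin 3) ≠ 2 by decide)),
      ← h0, ← h1]
    group

section Linear

variable (hM : D.M = dM)
include hM

theorem exists_two {i j : Fin 3} (h : i ≠ j) :
    ∃ n : G, n * D.zz 0 * n⁻¹ = D.zz i ∧ n * D.zz 1 * n⁻¹ = D.zz j := by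
  obtain ⟨ρ, hr2, hr0⟩ := D.exists_rho
  have hr1 : ρ * D.zz 1 * ρ⁻¹ = D.zz 2 := by
    show ρ * (D.z * D.z₁) * ρ⁻¹ = D.zz 2
    rw [show ρ * (D.z * D.z₁) * ρ⁻¹ = (ρ * D.z * ρ⁻¹) * (ρ * D.z₁ * ρ⁻¹) by group, hr2, hr0]
    exact D.zz_mul (show (0 : Fin 3) ≠ 1 by decide) (by decide) (by decide)
  have hw0 : D.e wel * D.zz 0 * (D.e wel)⁻¹ = D.zz 1 := w_conj_z₁ hM
  have hw2 : D.e wel * D.zz 2 * (D.e wel)⁻¹ = D.zz 2 := conj_of_comm (D.e_comm_z wel)
  have hw1 : D.e wel * D.zz 1 * (D.e wel)⁻¹ = D.zz 0 := by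
    show D.e wel * (D.z * D.z₁) * (D.e wel)⁻¹ = D.zz 0
    rw [show D.e wel * (D.z * D.z₁) * (D.e wel)⁻¹ =
      (D.e wel * D.zz 2 * (D.e wel)⁻¹) * (D.e wel * D.zz 0 * (D.e wel)⁻¹) by
        show _ = (D.e wel * D.z * (D.e wel)⁻¹) * (D.e wel * D.z₁ * (D.e wel)⁻¹)
        group, hw2, hw0]
    exact D.zz_mul (show (2 : Fin 3) ≠ 1 by decide) (by decide) (by decide)
  have hr0' : ρ * D.zz 0 * ρ⁻¹ = D.zz 1 := hr0
  have hr2' : ρ * D.zz 2 * ρ⁻¹ = D.zz 0 := hr2
  have comp : ∀ {g g' : G} {a b c : Fin 3}, g' * D.zz a * g'⁻¹ = D.zz b → g * D.zz b * g⁻¹ = D.zz c →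
      g * g' * D.zz a * (g * g')⁻¹ = D.zz c := fun {g g' a b c} h1 h2 => by
    rw [show g * g' * D.zz a * (g * g')⁻¹ = g * (g' * D.zz a * g'⁻¹) * g⁻¹ by group, h1, h2]
  fin_cases i <;> fin_cases j <;> simp only [ne_eq, not_true_eq_false] at h
  · exact ⟨1, by simp⟩
  · exact ⟨ρ * ρ * D.e wel, comp hw0 (comp hr1 hr2'), comp hw1 (comp hr0' hr1)⟩
  · exact ⟨D.e wel, hw0, hw1⟩
  · exact ⟨ρ, hr0', hr1⟩
  · exact ⟨ρ * ρ, comp hr0' hr1, comp hr1 hr2'⟩
  · exact ⟨ρ * D.e wel, comp hw0 hr1, comp hw1 hr0'⟩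

/-- Every permutation of the three involutions is induced. -/
theorem exists_conj (σ : Equiv.Perm (Fin 3)) : ∃ n : G, ∀ a, n * D.zz a * n⁻¹ = D.zz (σ a) := by
  obtain ⟨n, h0, h1⟩ := D.exists_two hM (σ.injective.ne (show (0 : Fin 3) ≠ 1 by decide))
  exact ⟨n, D.conj_zz_of_two h0 h1⟩

theorem perm_spec {i j : Fin 3} (h : i ≠ j) :
    D.perm i j * D.zz 0 * (D.perm i j)⁻¹ = D.zz i ∧ D.perm i j * D.zz 1 * (D.perm i j)⁻¹ = D.zz j := by
  rw [perm, dif_pos (D.exists_two hM h)]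
  exact (D.exists_two hM h).choose_spec

theorem T_baseRoot {t x : G} (ht : t ∈ D.T) (hx : x ∈ D.baseRoot) : t * x * t⁻¹ ∈ D.baseRoot := by
  obtain ⟨a, σ, ha⟩ := exists_acts hM ht
  obtain ⟨b, rfl⟩ := D.mem_baseRoot.1 hx
  rw [ha.up]
  exact D.mem_baseRoot.2 ⟨_, rfl⟩

/-- The root group does not depend on the element chosen. -/
theorem root_eq {n : G} {i j : Fin 3} (h : i ≠ j) (hi : n * D.zz 0 * n⁻¹ = D.zz i)
    (hj : n * D.zz 1 * n⁻¹ = D.zz j) :
    D.baseRoot.map (MulAut.conj n).toMonoidHom = D.root i j := by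
  obtain ⟨pi, pj⟩ := D.perm_spec hM h
  have hfix : ∀ {g g' : G} {a b : Fin 3}, g * D.zz a * g⁻¹ = D.zz b → g' * D.zz a * g'⁻¹ = D.zz b →
      g'⁻¹ * g * D.zz a * (g'⁻¹ * g)⁻¹ = D.zz a := fun {g g' a b} h1 h2 => by
    rw [show g'⁻¹ * g * D.zz a * (g'⁻¹ * g)⁻¹ = g'⁻¹ * (g * D.zz a * g⁻¹) * g' by group, h1, ← h2]
    group
  have key : ∀ {g g' : G}, g * D.zz 0 * g⁻¹ = D.zz i → g * D.zz 1 * g⁻¹ = D.zz j →
      g' * D.zz 0 * g'⁻¹ = D.zz i → g' * D.zz 1 * g'⁻¹ = D.zz j →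
      D.baseRoot.map (MulAut.conj g).toMonoidHom ≤ D.baseRoot.map (MulAut.conj g').toMonoidHom := by
    intro g g' a b a' b'
    rintro _ ⟨x, hx, rfl⟩
    refine ⟨g'⁻¹ * g * x * (g'⁻¹ * g)⁻¹,
      D.T_baseRoot hM (D.mem_T_of_fix (show (0 : Fin 3) ≠ 1 by decide) (hfix a a') (hfix b b')) hx, ?_⟩
    simp [mul_assoc]
  exact le_antisymm (key hi hj pi pj) (key pi pj hi hj)

/-- Conjugation permutes the root groups. -/
theorem root_conj {n : G} {σ : Equiv.Perm (Fin 3)} (hn : ∀ a, n * D.zz a * n⁻¹ = D.zz (σ a))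
    {i j : Fin 3} (h : i ≠ j) :
    (D.root i j).map (MulAut.conj n).toMonoidHom = D.root (σ i) (σ j) := by
  obtain ⟨pi, pj⟩ := D.perm_spec hM h
  rw [← D.root_eq hM (n := n * D.perm i j) (σ.injective.ne h)]
  · rw [root, Subgroup.map_map]
    congr 1
    ext x
    simp [mul_assoc]
  · rw [show n * D.perm i j * D.zz 0 * (n * D.perm i j)⁻¹ =
      n * (D.perm i j * D.zz 0 * (D.perm i j)⁻¹) * n⁻¹ by group, pi, hn]
  · rw [show n * D.perm i j * D.zz 1 * (n * D.perm i j)⁻¹ =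
      n * (D.perm i j * D.zz 1 * (D.perm i j)⁻¹) * n⁻¹ by group, pj, hn]

theorem root_zero_one : D.root 0 1 = D.baseRoot := by
  rw [← D.root_eq hM (n := 1) (show (0 : Fin 3) ≠ 1 by decide) (by simp) (by simp)]
  ext x
  simp

theorem mem_root_one_zero {x : G} : x ∈ D.root 1 0 ↔ ∃ b : F, x = D.e (low b) := by
  have hw0 : D.e wel * D.zz 0 * (D.e wel)⁻¹ = D.zz 1 := w_conj_z₁ hM
  have hw1 : D.e wel * D.zz 1 * (D.e wel)⁻¹ = D.zz 0 := by
    show D.e wel * (D.z * D.z₁) * (D.e wel)⁻¹ = D.zz 0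
    rw [show D.e wel * (D.z * D.z₁) * (D.e wel)⁻¹ =
      (D.e wel * D.z * (D.e wel)⁻¹) * (D.e wel * D.z₁ * (D.e wel)⁻¹) by group,
      conj_of_comm (D.e_comm_z wel), w_conj_z₁ hM]
    exact D.zz_mul (show (2 : Fin 3) ≠ 1 by decide) (by decide) (by decide)
  rw [← D.root_eq hM (n := D.e wel) (show (1 : Fin 3) ≠ 0 by decide) hw0 hw1]
  constructor
  · rintro ⟨y, hy, rfl⟩
    obtain ⟨b, rfl⟩ := D.mem_baseRoot.1 hy
    exact ⟨-b, by simp [← map_inv, ← map_mul, wel_conj_up]⟩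
  · rintro ⟨b, rfl⟩
    exact ⟨D.e (up (-b)), D.mem_baseRoot.2 ⟨_, rfl⟩,
      by simp [← map_inv, ← map_mul, wel_conj_up]⟩

theorem mem_root {n : G} {i j : Fin 3} (h : i ≠ j) (hi : n * D.zz 0 * n⁻¹ = D.zz i)
    (hj : n * D.zz 1 * n⁻¹ = D.zz j) {x : G} :
    x ∈ D.root i j ↔ ∃ b : F, x = n * D.e (up b) * n⁻¹ := by
  rw [← D.root_eq hM h hi hj]
  constructor
  · rintro ⟨y, hy, rfl⟩
    obtain ⟨b, rfl⟩ := D.mem_baseRoot.1 hy
    exact ⟨b, rfl⟩
  · rintro ⟨b, rfl⟩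
    exact ⟨_, D.mem_baseRoot.2 ⟨b, rfl⟩, rfl⟩

theorem card_root {i j : Fin 3} (h : i ≠ j) : Nat.card (D.root i j) = Fintype.card F := by
  obtain ⟨pi, pj⟩ := D.perm_spec hM h
  let f : F → D.root i j := fun b =>
    ⟨D.perm i j * D.e (up b) * (D.perm i j)⁻¹, (D.mem_root hM h pi pj).2 ⟨b, rfl⟩⟩
  have hf : Function.Bijective f :=
    ⟨fun a b e => up_inj (D.e_inj (mul_left_cancel (mul_right_cancel (congrArg Subtype.val e)))),
      fun x => by
        obtain ⟨b, hb⟩ := (D.mem_root hM h pi pj).1 x.2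
        exact ⟨b, Subtype.ext hb.symm⟩⟩
  rw [← Nat.card_congr (Equiv.ofBijective f hf), Nat.card_eq_fintype_card]

theorem T_root {i j : Fin 3} (h : i ≠ j) {t x : G} (ht : t ∈ D.T) (hx : x ∈ D.root i j) :
    t * x * t⁻¹ ∈ D.root i j := by
  have := D.root_conj hM (σ := 1) (fun a => conj_of_comm (D.T_zz ht a)) h
  rw [show ((1 : Equiv.Perm (Fin 3)) i) = i from rfl, show ((1 : Equiv.Perm (Fin 3)) j) = j from rfl]
    at this
  rw [← this]
  exact ⟨x, hx, rfl⟩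

/-- The root group is centralised by the opposite involution and inverted by the two others. -/
theorem root_zz {i j k : Fin 3} (hij : i ≠ j) (hik : i ≠ k) (hjk : j ≠ k) {x : G}
    (hx : x ∈ D.root i j) :
    x * D.zz k = D.zz k * x ∧ D.zz i * x * (D.zz i)⁻¹ = x⁻¹ ∧ D.zz j * x * (D.zz j)⁻¹ = x⁻¹ := by
  obtain ⟨σ, hσ0, hσ1, hσ2⟩ := perm_two hij hik hjk
  obtain ⟨n, hn⟩ := D.exists_conj hM σ
  have hi : n * D.zz 0 * n⁻¹ = D.zz i := hσ0 ▸ hn 0
  have hj : n * D.zz 1 * n⁻¹ = D.zz j := hσ1 ▸ hn 1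
  have hk : n * D.zz 2 * n⁻¹ = D.zz k := hσ2 ▸ hn 2
  obtain ⟨b, rfl⟩ := (D.mem_root hM hij hi hj).1 hx
  have h2 : D.e (up b) * D.zz 2 = D.zz 2 * D.e (up b) := D.e_comm_z _
  have h0 : D.zz 0 * D.e (up b) * (D.zz 0)⁻¹ = (D.e (up b))⁻¹ := by
    show D.z₁ * _ * D.z₁⁻¹ = _
    rw [z₁_up hM, ← map_inv, up_inv]
  have h1 : D.zz 1 * D.e (up b) * (D.zz 1)⁻¹ = (D.e (up b))⁻¹ := by
    rw [← D.zz_mul (show (2 : Fin 3) ≠ 0 by decide) (show (2 : Fin 3) ≠ 1 by decide) (by decide),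
      show D.zz 2 * D.zz 0 * D.e (up b) * (D.zz 2 * D.zz 0)⁻¹ =
        D.zz 2 * (D.zz 0 * D.e (up b) * (D.zz 0)⁻¹) * (D.zz 2)⁻¹ by group, h0, ← conj_inv,
      conj_of_comm (h2.symm)]
  refine ⟨?_, ?_, ?_⟩
  · rw [← hk]
    calc n * D.e (up b) * n⁻¹ * (n * D.zz 2 * n⁻¹) = n * (D.e (up b) * D.zz 2) * n⁻¹ := by group
      _ = _ := by rw [h2]; group
  · rw [← hi]
    calc n * D.zz 0 * n⁻¹ * (n * D.e (up b) * n⁻¹) * (n * D.zz 0 * n⁻¹)⁻¹ =
          n * (D.zz 0 * D.e (up b) * (D.zz 0)⁻¹) * n⁻¹ := by group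
      _ = _ := by rw [h0]; group
  · rw [← hj]
    calc n * D.zz 1 * n⁻¹ * (n * D.e (up b) * n⁻¹) * (n * D.zz 1 * n⁻¹)⁻¹ =
          n * (D.zz 1 * D.e (up b) * (D.zz 1)⁻¹) * n⁻¹ := by group
      _ = _ := by rw [h1]; group

theorem root_le {i j k : Fin 3} (hij : i ≠ j) (hik : i ≠ k) (hjk : j ≠ k) :
    D.root i j ≤ Subgroup.centralizer ({D.zz k} : Set G) :=
  fun _ hx => mem_cen_iff.2 (D.root_zz hM hij hik hjk hx).1

/-- Transport to the base position. -/
theorem exists_base {i j k : Fin 3} (hij : i ≠ j) (hik : i ≠ k) (hjk : j ≠ k) :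
    ∃ n : G, ∀ a b, a ≠ b → ∀ a' b', (![i, j, k]) a = a' → (![i, j, k]) b = b' →
      ∀ x, x ∈ D.root a' b' ↔ n⁻¹ * x * n ∈ D.root a b := by
  obtain ⟨σ, hσ0, hσ1, hσ2⟩ := perm_two hij hik hjk
  obtain ⟨n, hn⟩ := D.exists_conj hM σ
  refine ⟨n, fun a b hab a' b' ha hb x => ?_⟩
  have hs : ∀ c : Fin 3, (![i, j, k]) c = σ c := fun c => by
    fin_cases c <;> simp [hσ0, hσ1, hσ2]
  rw [← ha, ← hb, hs, hs, ← D.root_conj hM hn hab, Subgroup.map_equiv_eq_comap_symm',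
    Subgroup.mem_comap]
  simp [MulAut.conj_symm_apply, mul_assoc]

theorem root_exp {p : ℕ} [CharP F p] {i j : Fin 3} (h : i ≠ j) {x : G} (hx : x ∈ D.root i j) :
    x ^ p = 1 := by
  obtain ⟨pi, pj⟩ := D.perm_spec hM h
  obtain ⟨b, rfl⟩ := (D.mem_root hM h pi pj).1 hx
  rw [conj_pow, ← map_pow, up_pow, CharP.cast_eq_zero, zero_mul, up_zero, map_one, mul_one,
    mul_inv_cancel]

theorem root_comm {i j : Fin 3} (h : i ≠ j) {x y : G} (hx : x ∈ D.root i j) (hy : y ∈ D.root i j) :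
    x * y = y * x := by
  obtain ⟨pi, pj⟩ := D.perm_spec hM h
  obtain ⟨b, rfl⟩ := (D.mem_root hM h pi pj).1 hx
  obtain ⟨c, rfl⟩ := (D.mem_root hM h pi pj).1 hy
  rw [conj_mul, conj_mul, ← map_mul, ← map_mul, up_add, up_add, add_comm]

theorem mem_T_e_iff {x : SL F} : D.e x ∈ D.T ↔ ∃ a, dg a = x := by
  constructor
  · intro h
    have h1 := D.z₁_act x
    rw [← (D.mem_T.1 h).2, mul_inv_cancel_right, hM] at h1
    have h2 := congrArg SL2C.mt (D.e_inj h1)
    rw [dM_conj] at h2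
    have h10 : mt x 1 0 = 0 := by
      have := congrFun (congrFun h2 1) 0
      simp at this
      refine (mul_eq_zero.1 (show (2 : F) * mt x 1 0 = 0 by linear_combination this)).resolve_left
        (two_ne_zero_of_odd D.odd_q)
    have h01 : mt x 0 1 = 0 := by
      have := congrFun (congrFun h2 0) 1
      simp at this
      refine (mul_eq_zero.1 (show (2 : F) * mt x 0 1 = 0 by linear_combination this)).resolve_left
        (two_ne_zero_of_odd D.odd_q)
    obtain ⟨a, b, rfl⟩ := exists_bor_of_apply h10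
    refine ⟨a, mt_injective ?_⟩
    rw [mt_dg, mt_bor]
    simp [mt_bor] at h01
    rw [h01]
  · rintro ⟨a, rfl⟩
    exact dg_mem_T hM a

theorem card_C_eq [Finite G] :
    Nat.card D.C = (Fintype.card F + 1) * Fintype.card F * Nat.card D.T := by
  classical
  let f : SL F × D.T → D.C := fun a => ⟨D.e a.1 * a.2, mul_mem (D.e_mem _) (D.T_le a.2.2)⟩
  have hsurj : Function.Surjective f := fun c => by
    obtain ⟨x, t, ht, hc⟩ := D.exists_decomp c.2
    exact ⟨(x, ⟨t, ht⟩), Subtype.ext hc.symm⟩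
  choose s hs using hsurj
  let g : D.C × Fˣ → SL F × D.T := fun a =>
    ((s a.1).1 * dg a.2, ⟨(D.e (dg a.2))⁻¹ * (s a.1).2, mul_mem (inv_mem (dg_mem_T hM a.2)) (s a.1).2.2⟩)
  have hfg : ∀ a, f (g a) = a.1 := fun a => by
    conv_rhs => rw [← hs a.1]
    refine Subtype.ext ?_
    show D.e ((s a.1).1 * dg a.2) * ((D.e (dg a.2))⁻¹ * (s a.1).2) = _
    rw [map_mul]
    group
    rfl
  have hg : Function.Bijective g := by
    refine ⟨fun a b h => ?_, fun a => ?_⟩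
    · have h1 : a.1 = b.1 := by rw [← hfg a, ← hfg b, h]
      refine Prod.ext h1 ?_
      have h2 := (Prod.ext_iff.1 h).1
      simp only [g, h1, mul_right_inj] at h2
      exact Units.ext (by simpa [mt_dg] using congrFun (congrFun (congrArg SL2C.mt h2) 0) 0)
    · have h1 : D.e ((s (f a)).1⁻¹ * a.1) = (s (f a)).2 * (a.2 : G)⁻¹ := by
        have h0 := congrArg Subtype.val (hs (f a))
        change D.e (s (f a)).1 * (s (f a)).2 = D.e a.1 * a.2 at h0
        rw [map_mul, map_inv, inv_mul_eq_iff_eq_mul, ← mul_assoc, h0, mul_inv_cancel_right]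
      obtain ⟨c, hc⟩ := (D.mem_T_e_iff hM).1 (h1 ▸ mul_mem (s (f a)).2.2 (inv_mem a.2.2))
      refine ⟨(f a, c), Prod.ext ?_ (Subtype.ext ?_)⟩
      · show (s (f a)).1 * dg c = a.1
        rw [hc, mul_inv_cancel_left]
      · show (D.e (dg c))⁻¹ * (s (f a)).2 = a.2
        rw [hc, h1]; group
  have hcard := Nat.card_congr (Equiv.ofBijective g hg)
  rw [Nat.card_prod, Nat.card_prod, Nat.card_units, Nat.card_eq_fintype_card (α := F),
    card_SL2_mul] at hcard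
  have hq : 2 ≤ Fintype.card F := Fintype.one_lt_card
  apply Nat.eq_of_mul_eq_mul_right (show 0 < Fintype.card F - 1 by omega)
  rw [hcard]
  have h2 : Fintype.card F ^ 2 - 1 = (Fintype.card F + 1) * (Fintype.card F - 1) := by
    rw [← Nat.sq_sub_sq, one_pow]
  rw [h2]; ring

theorem card_cen_zz [Finite G] (k : Fin 3) :
    Nat.card (Subgroup.centralizer ({D.zz k} : Set G)) = Nat.card D.C := by
  obtain ⟨n, hn⟩ := D.exists_conj hM (Equiv.swap 2 k)
  have hk := hn 2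
  rw [Equiv.swap_apply_left] at hk
  rw [← hk, ← cen_map_conj, card_map_of_injective (MulAut.conj n).injective]
  rfl

theorem card_G_eq [Finite G] : Nat.card G =
    Fintype.card F ^ 2 * Nat.card D.C * (Fintype.card F ^ 2 + Fintype.card F + 1) := by
  have h := D.card_linear ⟨1, by rw [hM, coe_dM]; simp [Matrix.det_fin_two_of]⟩
  rw [show Subgroup.centralizer ({D.z} : Set G) = D.C from rfl,
    show cen2 D.z D.z₁ = D.T from rfl, D.card_C_eq hM] at h
  have hT : 0 < Nat.card D.T := Nat.card_pos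
  apply Nat.eq_of_mul_eq_mul_right (show 0 < Nat.card D.T ^ 2 * (Fintype.card F + 1) ^ 2 by positivity)
  rw [← mul_assoc, h, D.card_C_eq hM]
  ring

variable [Finite G]

/-- The hexagon, from the relations at the base position. -/
theorem exists_hex {p : ℕ} [Fact p.Prime] [CharP F p]
    (hrow : ∀ x ∈ D.root 0 1, ∀ y ∈ D.root 0 2, x * y = y * x)
    (hcol : ∀ x ∈ D.root 0 1, ∀ y ∈ D.root 2 1, x * y = y * x)
    (hcm : ∀ x ∈ D.root 0 1, ∀ y ∈ D.root 1 2, x * y * x⁻¹ * y⁻¹ ∈ D.root 0 2)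
    (hfree : ∀ y ∈ D.root 1 2, y ≠ 1 → ∃ x ∈ D.root 0 1, x * y ≠ y * x)
    (hfree' : ∀ x ∈ D.root 0 1, x ≠ 1 → ∃ y ∈ D.root 1 2, x * y ≠ y * x) :
    Nonempty (Hex G p (Fintype.card F)) := by
  classical
  choose w hw using fun k : Fin 3 =>
    D.exists_conj hM (Equiv.swap (![1, 0, 0] k) (![2, 2, 1] k))
  have hsw : ∀ i j k : Fin 3, i ≠ j → i ≠ k → j ≠ k →
      Equiv.swap (![1, 0, 0] k) (![2, 2, 1] k) = Equiv.swap i j := by decide
  have hp2 : p ≠ 2 := by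
    rintro rfl
    exact two_ne_zero_of_odd D.odd_q (by exact_mod_cast CharP.cast_eq_zero F 2)
  have hconj : ∀ {n x y : G}, n⁻¹ * x * n * (n⁻¹ * y * n) = n⁻¹ * (x * y) * n := fun {n x y} => by group
  have hcancel : ∀ {n x y : G}, n⁻¹ * x * n * (n⁻¹ * y * n) = n⁻¹ * y * n * (n⁻¹ * x * n) →
      x * y = y * x := fun {n x y} h => by
    rw [hconj, hconj] at h
    exact mul_left_cancel (mul_right_cancel h)
  exact ⟨{
    T := D.T
    E := D.root
    C := fun k => Subgroup.centralizer ({D.zz k} : Set G)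
    z := D.zz
    w := w
    prime := Fact.out
    odd := hp2
    one_lt := Fintype.one_lt_card
    card_E := fun i j h => D.card_root hM h
    exp_E := fun i j h x hx => D.root_exp hM h hx
    comm_E := fun i j h x hx y hy => D.root_comm hM h hx hy
    E_le := fun i j k hij hik hjk => D.root_le hM hij hik hjk
    T_norm := fun i j h t ht x hx => D.T_root hM h ht hx
    comm_row := fun i j k hij hik hjk x hx y hy => by
      obtain ⟨n, hn⟩ := D.exists_base hM hij hik hjk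
      exact hcancel (hrow _ ((hn 0 1 (by decide) i j rfl rfl x).1 hx) _
        ((hn 0 2 (by decide) i k rfl rfl y).1 hy))
    comm_col := fun i j k hij hik hjk x hx y hy => by
      obtain ⟨n, hn⟩ := D.exists_base hM hik hij hjk.symm
      exact hcancel (hcol _ ((hn 0 1 (by decide) i k rfl rfl x).1 hx) _
        ((hn 2 1 (by decide) j k rfl rfl y).1 hy))
    comm_mem := fun i j k hij hik hjk x hx y hy => by
      obtain ⟨n, hn⟩ := D.exists_base hM hij hik hjk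
      have h := hcm _ ((hn 0 1 (by decide) i j rfl rfl x).1 hx) _
        ((hn 1 2 (by decide) j k rfl rfl y).1 hy)
      refine (hn 0 2 (by decide) i k rfl rfl _).2 ?_
      simpa [mul_assoc] using h
    free := fun i j k hij hik hjk y hy hy1 => by
      obtain ⟨n, hn⟩ := D.exists_base hM hij hik hjk
      obtain ⟨x', hx', hne⟩ := hfree _ ((hn 1 2 (by decide) j k rfl rfl y).1 hy)
        (fun e => hy1 (by simpa [inv_mul_eq_one, mul_assoc] using e))
      refine ⟨n * x' * n⁻¹, (hn 0 1 (by decide) i j rfl rfl _).2 (by simpa [mul_assoc] using hx'),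
        fun e => hne ?_⟩
      calc x' * (n⁻¹ * y * n) = n⁻¹ * (n * x' * n⁻¹ * y) * n := by group
        _ = _ := by rw [e]; group
    free' := fun i j k hij hik hjk x hx hx1 => by
      obtain ⟨n, hn⟩ := D.exists_base hM hij hik hjk
      obtain ⟨y', hy', hne⟩ := hfree' _ ((hn 0 1 (by decide) i j rfl rfl x).1 hx)
        (fun e => hx1 (by simpa [inv_mul_eq_one, mul_assoc] using e))
      refine ⟨n * y' * n⁻¹, (hn 1 2 (by decide) j k rfl rfl _).2 (by simpa [mul_assoc] using hy'),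
        fun e => hne ?_⟩
      calc n⁻¹ * x * n * y' = n⁻¹ * (x * (n * y' * n⁻¹)) * n := by group
        _ = _ := by rw [e]; group
    z_mem := D.zz_mem_T
    z_sq := D.zz_sq
    z_fix := fun i j k hij hik hjk x hx => conj_of_comm ((D.root_zz hM hij hik hjk hx).1.symm)
    z_inv := fun i j h x hx => by
      obtain ⟨k, hik, hjk⟩ := third_index h
      exact (D.root_zz hM h hik hjk hx).2
    C_le := fun k => le_rfl
    cen := fun k l h => D.zz_cen2 h
    w_mem := fun k => by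
      obtain ⟨i, j, hij, hik, hjk⟩ : ∃ i j : Fin 3, i ≠ j ∧ i ≠ k ∧ j ≠ k := by revert k; decide
      have := hw k k
      rw [hsw i j k hij hik hjk, Equiv.swap_apply_of_ne_of_ne hik.symm hjk.symm] at this
      exact mem_cen_iff.2 (comm_of_conj this)
    w_conj := fun i j k hij hik hjk a b hab => by
      rw [← hsw i j k hij hik hjk]
      exact D.root_conj hM (hw k) hab
    w_z := fun i j k hij hik hjk a => by rw [← hsw i j k hij hik hjk]; exact hw k a
    bruhat := fun i j k hij hik hjk c hc => by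
      obtain ⟨σ, hσ0, hσ1, hσ2⟩ := perm_two hij hik hjk
      obtain ⟨n, hn⟩ := D.exists_conj hM σ
      have hi : n * D.zz 0 * n⁻¹ = D.zz i := hσ0 ▸ hn 0
      have hj : n * D.zz 1 * n⁻¹ = D.zz j := hσ1 ▸ hn 1
      have hk : n * D.zz 2 * n⁻¹ = D.zz k := hσ2 ▸ hn 2
      have hTn : ∀ t ∈ D.T, n * t * n⁻¹ ∈ D.T := fun t ht => by
        refine D.mem_T_of_fix hij ?_ ?_
        · rw [← hi]
          calc n * t * n⁻¹ * (n * D.zz 0 * n⁻¹) * (n * t * n⁻¹)⁻¹ = n * (t * D.zz 0 * t⁻¹) * n⁻¹ := by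
                group
            _ = _ := by rw [conj_of_comm (D.T_zz ht 0)]
        · rw [← hj]
          calc n * t * n⁻¹ * (n * D.zz 1 * n⁻¹) * (n * t * n⁻¹)⁻¹ = n * (t * D.zz 1 * t⁻¹) * n⁻¹ := by
                group
            _ = _ := by rw [conj_of_comm (D.T_zz ht 1)]
      have hc' : n⁻¹ * c * n ∈ D.C := D.mem_C.2 (by
        have h := mem_cen_iff.1 hc
        rw [← hk] at h
        change n⁻¹ * c * n * D.zz 2 = D.zz 2 * (n⁻¹ * c * n)
        calc n⁻¹ * c * n * D.zz 2 = n⁻¹ * (c * (n * D.zz 2 * n⁻¹)) * n := by group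
          _ = _ := by rw [h]; group)
      obtain ⟨x, t, ht, he⟩ := D.exists_decomp hc'
      have hc2 : c = n * (D.e x * t) * n⁻¹ := by rw [← he]; group
      rcases bruhat_sl x with ⟨b, a, rfl⟩ | ⟨b, b', a, rfl⟩
      · refine Or.inl ⟨n * D.e (up b) * n⁻¹, (D.mem_root hM hij hi hj).2 ⟨b, rfl⟩,
          n * (D.e (dg a) * t) * n⁻¹, hTn _ (mul_mem (dg_mem_T hM a) ht), ?_⟩
        rw [hc2, map_mul]; group
      · have ht' : (w k)⁻¹ * (n * D.e wel * n⁻¹) ∈ D.T := by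
          have h0 : n * D.e wel * n⁻¹ * D.zz i * (n * D.e wel * n⁻¹)⁻¹ = D.zz j := by
            rw [← hi, ← hj]
            calc n * D.e wel * n⁻¹ * (n * D.zz 0 * n⁻¹) * (n * D.e wel * n⁻¹)⁻¹ =
                n * (D.e wel * D.z₁ * (D.e wel)⁻¹) * n⁻¹ := by show _ = n * (_ * D.zz 0 * _) * _; group
              _ = _ := by rw [w_conj_z₁ hM]; rfl
          have h2 : n * D.e wel * n⁻¹ * D.zz k * (n * D.e wel * n⁻¹)⁻¹ = D.zz k := by
            rw [← hk]
            calc n * D.e wel * n⁻¹ * (n * D.zz 2 * n⁻¹) * (n * D.e wel * n⁻¹)⁻¹ =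
                n * (D.e wel * D.z * (D.e wel)⁻¹) * n⁻¹ := by show _ = n * (_ * D.zz 2 * _) * _; group
              _ = _ := by rw [conj_of_comm (D.e_comm_z wel)]; rfl
          have hwi := hw k i
          have hwk := hw k k
          rw [hsw i j k hij hik hjk, Equiv.swap_apply_left] at hwi
          rw [hsw i j k hij hik hjk, Equiv.swap_apply_of_ne_of_ne hik.symm hjk.symm] at hwk
          refine D.mem_T_of_fix hik ?_ ?_
          · calc _ = (w k)⁻¹ * (n * D.e wel * n⁻¹ * D.zz i * (n * D.e wel * n⁻¹)⁻¹) * w k := by group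
              _ = _ := by rw [h0, ← hwi]; group
          · calc _ = (w k)⁻¹ * (n * D.e wel * n⁻¹ * D.zz k * (n * D.e wel * n⁻¹)⁻¹) * w k := by group
              _ = _ := by rw [h2]; conv_lhs => rw [← hwk]
                          group
        obtain ⟨t', ht'', hteq⟩ : ∃ t' ∈ D.T, (w k)⁻¹ * (n * D.e wel * n⁻¹) = t' := ⟨_, ht', rfl⟩
        refine Or.inr ⟨n * D.e (up b) * n⁻¹, (D.mem_root hM hij hi hj).2 ⟨b, rfl⟩,
          t' * (n * D.e (up b') * n⁻¹) * t'⁻¹,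
          D.T_root hM hij ht'' ((D.mem_root hM hij hi hj).2 ⟨b', rfl⟩),
          t' * (n * (D.e (dg a) * t) * n⁻¹), mul_mem ht'' (hTn _ (mul_mem (dg_mem_T hM a) ht)), ?_⟩
        have hwel : n * D.e wel * n⁻¹ = w k * t' := by rw [← hteq]; group
        calc c = (n * D.e (up b) * n⁻¹) * (n * D.e wel * n⁻¹) * (n * D.e (up b') * n⁻¹) *
              (n * (D.e (dg a) * t) * n⁻¹) := by rw [hc2, map_mul, map_mul, map_mul]; group
          _ = _ := by rw [hwel]; group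
    card_C := fun k => by rw [D.card_cen_zz hM k, D.card_C_eq hM]
    card_G := by rw [D.card_cen_zz hM 0, D.card_G_eq hM] }⟩

end Linear

end CfsgLib.ABG.Recog.Loc
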