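import Cfsg.Agent.ABG.Recog.LinTorus

/-!
# Alperin-Brauer-Gorenstein, recognition half: the six root groups

The three involutions are indexed so that the component of the data is the third one:
`zz 0 = z₁`, `zz 1 = z z₁`, `zz 2 = z`. The root group `root i j` is the image of the upper root
group of the component under an element sending `zz 0, zz 1` to `zz i, zz j`.
-/

set_option autoImplicit false

namespace CfsgLib.ABG.Recog.Loc

open Subgroup CfsgLib.SL2C

universe u

variable {G : Type u} [Group G] {F : Type} [Field F] [Fintype F] (D : Loc G F)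

/-- The three involutions. -/
def zz : Fin 3 → G := ![D.z₁, D.z₂, D.z]

theorem zz_zero : D.zz 0 = D.z₁ := rfl

theorem zz_one : D.zz 1 = D.z₂ := rfl

theorem zz_two : D.zz 2 = D.z := rfl

/-- The upper root group of the component. -/
def baseRoot : Subgroup G := (D.e.comp upHom).range

open scoped Classical in
/-- An element sending the first two involutions to the given ones, when there is one. -/
noncomputable def perm (i j : Fin 3) : G :=
  if h : ∃ n : G, n * D.zz 0 * n⁻¹ = D.zz i ∧ n * D.zz 1 * n⁻¹ = D.zz j then h.choose else 1

/-- The root groups. -/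
noncomputable def root (i j : Fin 3) : Subgroup G :=
  D.baseRoot.map (MulAut.conj (D.perm i j)).toMonoidHom

theorem mem_baseRoot {x : G} : x ∈ D.baseRoot ↔ ∃ b : F, x = D.e (up b) := by
  refine ⟨?_, ?_⟩
  · rintro ⟨b, rfl⟩; exact ⟨Multiplicative.toAdd b, rfl⟩
  · rintro ⟨b, rfl⟩; exact ⟨Multiplicative.ofAdd b, rfl⟩

end CfsgLib.ABG.Recog.Loc
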