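import Cfsg.Agent.ABG.Recog.Basic
import Cfsg.Agent.ABG.Recog.Mats

/-!
# Alperin-Brauer-Gorenstein, recognition half: change of coordinates in the component

In the linear type the matrix of `z₁` can be taken to be `diag(1, -1)`.
-/

set_option autoImplicit false

namespace CfsgLib.ABG.Recog.Loc

open Matrix Subgroup CfsgLib.SL2C CfsgLib.AutPSL

universe u

variable {G : Type u} [Group G] {F : Type} [Field F] [Fintype F] (D : Loc G F)

omit [Fintype F] in
theorem semi_eq_of_smul {g h : GL (Fin 2) F} {c : F} (hc : c ≠ 0)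
    (e : (g : Matrix (Fin 2) (Fin 2) F) = c • (h : Matrix (Fin 2) (Fin 2) F)) (σ : F ≃+* F) (x : SL F) :
    semiSL g σ x = semiSL h σ x := by
  refine mt_injective ?_
  show (semiFun g σ x : Matrix (Fin 2) (Fin 2) F) = (semiFun h σ x : Matrix (Fin 2) (Fin 2) F)
  have hi : ((g⁻¹ : GL (Fin 2) F) : Matrix (Fin 2) (Fin 2) F) =
      c⁻¹ • ((h⁻¹ : GL (Fin 2) F) : Matrix (Fin 2) (Fin 2) F) := by
    refine Units.inv_eq_of_mul_eq_one_right ?_
    rw [e, Matrix.smul_mul, Matrix.mul_smul, smul_smul, mul_inv_cancel₀ hc, one_smul, ← Units.val_mul,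
      mul_inv_cancel, Units.val_one]
  rw [coe_semiFun, coe_semiFun, hi, e, Matrix.smul_mul, Matrix.smul_mul, Matrix.mul_smul, smul_smul,
    mul_inv_cancel₀ hc, one_smul]

omit [Fintype F] in
theorem semi_comp (g h : GL (Fin 2) F) (σ τ : F ≃+* F) (x : SL F) :
    semiSL g σ (semiSL h τ x) = semiSL (g * glMap σ h) (τ.trans σ) x :=
  semiFun_comp g h σ τ x

omit [Fintype F] in
theorem semi_refl_mul (g h : GL (Fin 2) F) (x : SL F) :
    semiSL g (RingEquiv.refl F) (semiSL h (RingEquiv.refl F) x) = semiSL (g * h) (RingEquiv.refl F) x := by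
  rw [semi_comp, glMap_refl]; rfl

omit [Fintype F] in
theorem semi_cancel (g : GL (Fin 2) F) (x : SL F) :
    semiSL g (RingEquiv.refl F) (semiSL g⁻¹ (RingEquiv.refl F) x) = x := by
  rw [semi_refl_mul, mul_inv_cancel]; exact semiFun_one x

/-- The data read through the matrix `P`. -/
def twist (P M' : GL (Fin 2) F) (htr : (M' : Matrix (Fin 2) (Fin 2) F).trace = 0) (k : F) (hk : k ≠ 0)
    (hM : (D.M : Matrix (Fin 2) (Fin 2) F) * P = k • ((P : Matrix (Fin 2) (Fin 2) F) * M')) :
    Loc G F where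
  z := D.z
  z₁ := D.z₁
  order_z := D.order_z
  order_z₁ := D.order_z₁
  ne := D.ne
  comm := D.comm
  odd_q := D.odd_q
  one_class := D.one_class
  e := D.e.comp (semiSL P (RingEquiv.refl F)).toMonoidHom
  e_inj := D.e_inj.comp (semiSL P (RingEquiv.refl F)).injective
  e_le := by rintro _ ⟨x, rfl⟩; exact D.e_mem _
  e_normal c hc x := by
    obtain ⟨y, hy⟩ := D.e_normal c hc (semiSL P (RingEquiv.refl F) x)
    exact ⟨(semiSL P (RingEquiv.refl F)).symm y, by simpa using hy⟩
  e_neg := by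
    have h : semiSL P (RingEquiv.refl F) (-1 : SL F) = -1 := mt_injective (by
      show (semiFun P (RingEquiv.refl F) (-1 : SL F) : Matrix (Fin 2) (Fin 2) F) = _
      rw [coe_semiFun, map_refl_ringEquiv]
      simp)
    show D.e (semiSL P (RingEquiv.refl F) (-1)) = _
    rw [h, D.e_neg]
  M := M'
  M_trace := htr
  z₁_act x := by
    show D.z₁ * D.e (semiSL P (RingEquiv.refl F) x) * D.z₁⁻¹ =
      D.e (semiSL P (RingEquiv.refl F) (semiSL M' (RingEquiv.refl F) x))
    rw [D.z₁_act, semi_refl_mul, semi_refl_mul]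
    exact congrArg D.e (semi_eq_of_smul hk (by rw [Units.val_mul, Units.val_mul, hM]) _ x)
  diag g := by
    obtain ⟨c, hc, h1, h2⟩ := D.diag (P * g * P⁻¹)
    refine ⟨c, hc, fun x => ?_, fun hg => h2 (Units.ext ?_)⟩
    · show c * D.e (semiSL P (RingEquiv.refl F) x) * c⁻¹ =
        D.e (semiSL P (RingEquiv.refl F) (semiSL g (RingEquiv.refl F) x))
      rw [h1, semi_refl_mul, semi_refl_mul, inv_mul_cancel_right]
    · have hM2 : (D.M : Matrix (Fin 2) (Fin 2) F) =
          k • (((P * M' * P⁻¹ : GL (Fin 2) F)) : Matrix (Fin 2) (Fin 2) F) := by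
        rw [Units.val_mul, Units.val_mul, ← Matrix.smul_mul, ← hM, mul_assoc, ← Units.val_mul,
          mul_inv_cancel, Units.val_one, mul_one]
      rw [Units.val_mul, Units.val_mul (a := D.M), hM2, Matrix.smul_mul, Matrix.mul_smul,
        ← Units.val_mul, ← Units.val_mul]
      congr 2
      calc P * g * P⁻¹ * (P * M' * P⁻¹) = P * (g * M') * P⁻¹ := by group
        _ = P * (M' * g) * P⁻¹ := by rw [hg]
        _ = _ := by group
  field_odd c hc g σ h := by
    refine D.field_odd c hc (P * (g * glMap σ P⁻¹)) σ fun x => ?_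
    have := h (semiSL P⁻¹ (RingEquiv.refl F) x)
    change c * D.e (semiSL P (RingEquiv.refl F) (semiSL P⁻¹ (RingEquiv.refl F) x)) * c⁻¹ =
      D.e (semiSL P (RingEquiv.refl F) (semiSL g σ (semiSL P⁻¹ (RingEquiv.refl F) x))) at this
    rw [semi_cancel, semi_comp, semi_comp, glMap_refl] at this
    rw [show σ.trans (RingEquiv.refl F) = σ from RingEquiv.ext fun _ => rfl,
      show (RingEquiv.refl F).trans σ = σ from RingEquiv.ext fun _ => rfl] at this
    simpa [mul_assoc] using this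
  cen c hc hcx := D.cen c hc fun x => by
    have := hcx (semiSL P⁻¹ (RingEquiv.refl F) x)
    change c * D.e (semiSL P (RingEquiv.refl F) (semiSL P⁻¹ (RingEquiv.refl F) x)) = _ * c at this
    rw [semi_cancel] at this
    simpa [semi_cancel] using this
  invol t ht ht2 htne := by
    obtain ⟨x, hx⟩ := D.invol t ht ht2 htne
    exact ⟨semiSL P⁻¹ (RingEquiv.refl F) x, by simpa [semi_cancel] using hx⟩
  card_linear h := D.card_linear (by
    have hd := congrArg Matrix.det hM
    rw [det_mul, det_smul, det_mul, Fintype.card_fin] at hd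
    have hP : (P : Matrix (Fin 2) (Fin 2) F).det ≠ 0 := ((Matrix.isUnit_iff_isUnit_det _).1 P.isUnit).ne_zero
    obtain ⟨r, hr⟩ := h
    exact ⟨k * r, mul_right_cancel₀ hP (by linear_combination -hd + k ^ 2 * (P : Matrix (Fin 2) (Fin 2) F).det * hr)⟩)
  card_unitary h := D.card_unitary (fun ⟨r, hr⟩ => h (by
    have hd := congrArg Matrix.det hM
    rw [det_mul, det_smul, det_mul, Fintype.card_fin] at hd
    have hP : (P : Matrix (Fin 2) (Fin 2) F).det ≠ 0 := ((Matrix.isUnit_iff_isUnit_det _).1 P.isUnit).ne_zero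
    refine ⟨r * k⁻¹, mul_right_cancel₀ (mul_ne_zero (pow_ne_zero 2 hk) hP) ?_⟩
    linear_combination hd + (P : Matrix (Fin 2) (Fin 2) F).det * hr -
      r * r * (P : Matrix (Fin 2) (Fin 2) F).det * (k⁻¹ * k + 1) * inv_mul_cancel₀ hk))

/-- In the linear type one may suppose that `z₁` acts by `diag(1, -1)`. -/
theorem exists_diag (h : D.IsLinear) : ∃ D' : Loc G F, D'.z = D.z ∧ D'.z₁ = D.z₁ ∧ D'.M = dM := by
  obtain ⟨s, hs⟩ := h
  have h2 := two_ne_zero_of_odd D.odd_q
  have htr := D.M_trace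
  rw [trace_fin_two] at htr
  have hdet := ((Matrix.isUnit_iff_isUnit_det _).1 D.M.isUnit).ne_zero
  rw [det_fin_two] at hs hdet
  obtain ⟨a, ha⟩ : ∃ a, a = (D.M : Matrix (Fin 2) (Fin 2) F) 0 0 := ⟨_, rfl⟩
  obtain ⟨b, hb⟩ : ∃ b, b = (D.M : Matrix (Fin 2) (Fin 2) F) 0 1 := ⟨_, rfl⟩
  obtain ⟨c, hc⟩ : ∃ c, c = (D.M : Matrix (Fin 2) (Fin 2) F) 1 0 := ⟨_, rfl⟩
  rw [← ha, ← hb, ← hc] at hs hdet
  have hd : (D.M : Matrix (Fin 2) (Fin 2) F) 1 1 = -a := by rw [ha]; linear_combination htr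
  rw [hd] at hs hdet
  have hM : (D.M : Matrix (Fin 2) (Fin 2) F) = !![a, b; c, -a] := by
    ext i j; fin_cases i <;> fin_cases j <;> simp [ha, hb, hc]
    exact hd.trans (by rw [ha])
  have hs0 : s ≠ 0 := fun h0 => hdet (by rw [h0] at hs; linear_combination -hs)
  have hP : ∃ (P : GL (Fin 2) F) (k : F), k ≠ 0 ∧
      (D.M : Matrix (Fin 2) (Fin 2) F) * P = k • ((P : Matrix (Fin 2) (Fin 2) F) * (dM : GL (Fin 2) F)) := by
    by_cases hbc : c ≠ 0
    · refine ⟨Matrix.GeneralLinearGroup.mkOfDetNeZero !![s + a, -s + a; c, c] ?_, s, hs0, ?_⟩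
      · rw [det_fin_two_of, show (s + a) * c - (-s + a) * c = 2 * s * c by ring]
        exact mul_ne_zero (mul_ne_zero h2 hs0) hbc
      · rw [hM, coe_dM]
        show _ * !![s + a, -s + a; c, c] = s • (!![s + a, -s + a; c, c] * _)
        ext i j; fin_cases i <;> fin_cases j <;> simp [Matrix.mul_apply, Fin.sum_univ_two] <;>
          first | ring1 | linear_combination hs
    · push Not at hbc
      by_cases hb0 : b = 0
      · refine ⟨1, a, fun h0 => hdet (by rw [h0, hb0]; ring), ?_⟩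
        rw [hM, coe_dM, hbc, hb0]
        ext i j; fin_cases i <;> fin_cases j <;> simp
      · refine ⟨Matrix.GeneralLinearGroup.mkOfDetNeZero !![b, b; s - a, -s - a] ?_, s, hs0, ?_⟩
        · rw [det_fin_two_of, show b * (-s - a) - b * (s - a) = -(2 * s * b) by ring, neg_ne_zero]
          exact mul_ne_zero (mul_ne_zero h2 hs0) hb0
        · rw [hM, coe_dM]
          show _ * !![b, b; s - a, -s - a] = s • (!![b, b; s - a, -s - a] * _)
          ext i j; fin_cases i <;> fin_cases j <;> simp [Matrix.mul_apply, Fin.sum_univ_two] <;>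
            first | ring1 | linear_combination hs
  obtain ⟨P, k, hk, hP⟩ := hP
  exact ⟨D.twist P dM (by rw [coe_dM, trace_fin_two]; simp) k hk hP, rfl, rfl, rfl⟩

end CfsgLib.ABG.Recog.Loc
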