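import Cfsg.Agent.ABG.Recog.UnitTorus
import Cfsg.Agent.Criterion.Semilinear
import Cfsg.Agent.ZStar.Final
import Mathlib.GroupTheory.SpecificGroups.ZGroup

/-!
# Alperin-Brauer-Gorenstein, recognition half: the centraliser of a root group in the unitary type

The diagonal torus of `C(z)` is cyclic, the centraliser of a root group has a normal complement of
odd order, and the centraliser of an element centralising the component is inside `C(z)`.
-/

set_option autoImplicit false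
set_option linter.unusedSectionVars false
set_option linter.style.haveILetI false

namespace CfsgLib.ABG.Recog.Loc

open Matrix Subgroup CfsgLib.SL2C CfsgLib.AutPSL CfsgLib.OrderFormula.Local CfsgLib.GL2C
open CfsgLib.SL2C (IsScal NoEig)

universe u

variable {G : Type u} [Group G] {F : Type} [Field F] [Fintype F] (D : Loc G F)

theorem mem_cenL_of_acts_one {c : G} (h : LocData.Acts D.e c 1) : c ∈ D.cenL :=
  D.mem_cenL.2 fun _ => h.commute (by simp)

theorem mem_T_of_gtor {c : G} (hc : c ∈ D.C) {g : GL (Fin 2) F} (hg : g ∈ gtor D.M)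
    (h : LocData.Acts D.e c g) : c ∈ D.T := by
  obtain ⟨c₀, h₀, h1, h2⟩ := D.diag g
  have hy : c₀⁻¹ * c ∈ D.cenL := D.mem_cenL_of_acts_one (by
    rw [← inv_mul_cancel g]; exact (LocData.Acts.inv h1).mul h)
  have hc₀ : c₀ ∈ D.T :=
    D.mem_T.2 ⟨D.mem_C.1 h₀, h2 (Subgroup.mem_centralizer_singleton_iff.1 hg)⟩
  rw [← mul_inv_cancel_left c₀ c]
  exact mul_mem hc₀ (cenL_le_T' hy)

theorem dia_mul (a b : Fˣ) : dia a * dia b = dia (a * b) := Units.ext (by
  rw [Units.val_mul, coe_dia, coe_dia, coe_dia]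
  ext i j; fin_cases i <;> fin_cases j <;> simp [Matrix.mul_apply, Fin.sum_univ_two])

theorem gm_dia (a : Fˣ) : gm (dia a) = !![(a : F), 0; 0, 1] := rfl

theorem gm_toGL (x : SL F) : gm (Matrix.SpecialLinearGroup.toGL x) = SL2C.mt x := rfl

theorem dia_one : dia (1 : Fˣ) = 1 := Units.ext (by
  rw [coe_dia]; ext i j; fin_cases i <;> fin_cases j <;> simp)

/-- The elements of `C` acting on the component by diagonal matrices. -/
def diaTorus : Subgroup G where
  carrier := {c | c ∈ D.C ∧ ∃ a : Fˣ, LocData.Acts D.e c (dia a)}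
  one_mem' := ⟨one_mem _, 1, by rw [dia_one]; exact LocData.Acts.one⟩
  mul_mem' := fun ⟨h, a, ha⟩ ⟨h', b, hb⟩ => ⟨mul_mem h h', a * b, dia_mul a b ▸ ha.mul hb⟩
  inv_mem' := fun ⟨h, a, ha⟩ => ⟨inv_mem h, a⁻¹, ha.inv⟩

theorem mem_diaTorus {c : G} :
    c ∈ D.diaTorus ↔ c ∈ D.C ∧ ∃ a : Fˣ, LocData.Acts D.e c (dia a) := Iff.rfl

theorem diaTorus_le : D.diaTorus ≤ D.C := fun _ h => h.1

theorem cenL_le_diaTorus : D.cenL ≤ D.diaTorus := fun y hy =>
  ⟨D.cenL_le_C hy, 1, fun x => by rw [dia_one, LocData.semi_one, D.mem_cenL.1 hy, mul_inv_cancel_right]⟩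

theorem z_mem_cenL : D.z ∈ D.cenL := D.mem_cenL.2 fun x => (D.e_comm_z x).symm

theorem exists_theta : ∃ θ : D.diaTorus →* Fˣ,
    (∀ h : D.diaTorus, LocData.Acts D.e (h : G) (dia (θ h))) ∧ Function.Surjective θ ∧
      θ.ker = D.cenL.subgroupOf D.diaTorus := by
  choose a ha using fun h : D.diaTorus => h.2.2
  have huniq : ∀ (h : D.diaTorus) b, LocData.Acts D.e (h : G) (dia b) → a h = b := fun h b hb =>
    ((show D.Acts (h : G) (a h) (RingEquiv.refl F) from ha h).unique hb).1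
  refine ⟨MonoidHom.mk' a fun h k => huniq _ _ (dia_mul (a h) (a k) ▸ (ha h).mul (ha k)), ha,
    fun b => ?_, ?_⟩
  · obtain ⟨c, hc, h1, -⟩ := D.diag (dia b)
    exact ⟨⟨c, hc, b, h1⟩, huniq _ _ h1⟩
  · ext h
    rw [MonoidHom.mem_ker, Subgroup.mem_subgroupOf]
    refine ⟨fun e => D.mem_cenL_of_acts_one (dia_one (F := F) ▸ e ▸ ha h), fun hy => huniq _ _ ?_⟩
    intro x
    rw [dia_one, LocData.semi_one, D.mem_cenL.1 hy, mul_inv_cancel_right]

theorem card_diaTorus : Nat.card D.diaTorus = (Fintype.card F - 1) * Nat.card D.cenL := by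
  obtain ⟨θ, -, hs, hk⟩ := D.exists_theta
  have h := θ.ker.card_mul_index
  rw [Subgroup.index_ker, MonoidHom.range_eq_top.2 hs, Subgroup.card_top, Nat.card_units,
    Nat.card_eq_fintype_card (α := F), hk,
    Nat.card_congr (subgroupOfEquivOfLe D.cenL_le_diaTorus).toEquiv] at h
  rw [← h, mul_comm]

variable {D} (hU : ¬ D.IsLinear)
include hU

theorem invol_diaTorus {i : G} (hi : i ∈ D.diaTorus) (hi2 : orderOf i = 2) : i = D.z := by
  by_contra hne
  obtain ⟨x, hx⟩ := D.invol i hi.1 hi2 hne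
  obtain ⟨a, ha⟩ := hi.2
  obtain ⟨X, hX⟩ : ∃ X : GL (Fin 2) F, X = Matrix.SpecialLinearGroup.toGL x := ⟨_, rfl⟩
  have hact : LocData.Acts D.e i (X * D.M * X⁻¹) := by
    rw [hx, hX]; exact ((LocData.acts_coe x).mul z₁_acts).mul (LocData.acts_coe x).inv
  obtain ⟨l, hl0, hl⟩ := hact.proportional D.e_inj ha
  change gm (X * D.M * X⁻¹) = l • gm (dia a) at hl
  have htr : (gm (X * D.M * X⁻¹)).trace = 0 := by
    rw [gm_mul, gm_mul, Matrix.trace_mul_comm, ← Matrix.mul_assoc, ← gm_mul, inv_mul_cancel, gm_one,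
      Matrix.one_mul]
    exact D.M_trace
  have hdet : (gm (X * D.M * X⁻¹)).det = (gm D.M).det := by
    rw [gm_mul, gm_mul, Matrix.det_mul, Matrix.det_mul, mul_comm, ← mul_assoc, ← Matrix.det_mul,
      ← gm_mul, inv_mul_cancel, gm_one, Matrix.det_one, one_mul]
  rw [hl, trace_smul, trace_fin_two, gm_dia, smul_eq_mul] at htr
  rw [hl, det_smul, Fintype.card_fin, gm_dia, det_fin_two_of] at hdet
  have h1 : (a : F) = -1 := by
    have := (mul_eq_zero.1 htr).resolve_left hl0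
    simp at this
    linear_combination this
  refine hU ⟨l, ?_⟩
  show -(gm D.M).det = l * l
  rw [← hdet, h1]
  ring

variable [Finite G] [IsSimpleGroup G] (hf : D.NoField)
include hf

theorem diaTorus_comm {a b : G} (ha : a ∈ D.diaTorus) (hb : b ∈ D.diaTorus) : a * b = b * a := by
  obtain ⟨θ, -, -, hk⟩ := D.exists_theta
  exact congrArg Subtype.val (commutative_of_cyclic_center_quotient θ (fun y hy =>
    mem_center_iff.2 fun h => Subtype.ext (cenL_central hU hf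
      (Subgroup.mem_subgroupOf.1 (hk ▸ hy : y ∈ D.cenL.subgroupOf D.diaTorus)) h.2.1).symm)
    ⟨a, ha⟩ ⟨b, hb⟩)

theorem isCyclic_diaTorus (hzd : Nat.card D.cenL ∣ Fintype.card F + 1) : IsCyclic D.diaTorus := by
  classical
  obtain ⟨θ, -, -, hk⟩ := D.exists_theta
  haveI := isCyclic_cenL hU hf
  haveI : IsMulCommutative D.diaTorus :=
    ⟨⟨fun a b => Subtype.ext (diaTorus_comm hU hf a.2 b.2)⟩⟩
  letI : CommGroup D.diaTorus := { mul_comm := fun a b => Subtype.ext (diaTorus_comm hU hf a.2 b.2) }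
  haveI : Group.IsNilpotent D.diaTorus := inferInstance
  haveI : IsZGroup D.diaTorus := ⟨fun r hr P => by
    haveI := Fact.mk hr
    by_cases h2 : r = 2
    · subst h2
      refine CfsgLib.Criterion.Semilinear.isCyclic_of_unique (fun x y => mul_comm x y) P.2
        fun x y hx hy => ?_
      have e : ∀ v : (P : Subgroup D.diaTorus), orderOf v = 2 → ((v : D.diaTorus) : G) = D.z :=
        fun v hv => invol_diaTorus hU (v : D.diaTorus).2 (by rw [orderOf_coe, orderOf_coe, hv])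
      exact Subtype.ext (Subtype.ext ((e x hx).trans (e y hy).symm))
    obtain ⟨θ', hθ'⟩ : ∃ θ' : (P : Subgroup D.diaTorus) →* Fˣ, θ' = θ.comp (P : Subgroup _).subtype :=
      ⟨_, rfl⟩
    by_cases hrq : r ∣ Fintype.card F - 1
    · refine isCyclic_of_subgroup_isDomain ((Units.coeHom F).comp θ') (Units.val_injective.comp
        ((injective_iff_map_eq_one θ').2 fun v hv => ?_))
      rw [hθ'] at hv
      have hy : ((v : D.diaTorus) : G) ∈ D.cenL :=
        Subgroup.mem_subgroupOf.1 (hk ▸ MonoidHom.mem_ker.2 hv :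
          (v : D.diaTorus) ∈ D.cenL.subgroupOf D.diaTorus)
      obtain ⟨k, hk'⟩ := IsPGroup.iff_orderOf.1 P.2 v
      rcases Nat.eq_zero_or_pos k with rfl | hk0
      · exact orderOf_eq_one_iff.1 (by rw [hk', pow_zero])
      exfalso
      have h1 : r ∣ Fintype.card F + 1 := by
        refine ((dvd_pow_self r hk0.ne').trans ?_).trans hzd
        rw [← hk', ← orderOf_coe, ← orderOf_coe, ← orderOf_mk _ hy]
        exact orderOf_dvd_natCard _
      have hq : 2 ≤ Fintype.card F := Fintype.one_lt_card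
      have h := Nat.dvd_sub h1 hrq
      rw [show Fintype.card F + 1 - (Fintype.card F - 1) = 2 by omega] at h
      exact h2 ((Nat.prime_dvd_prime_iff_eq hr Nat.prime_two).1 h)
    · have hker : ∀ v : (P : Subgroup D.diaTorus), ((v : D.diaTorus) : G) ∈ D.cenL := fun v => by
        refine Subgroup.mem_subgroupOf.1 (hk ▸ MonoidHom.mem_ker.2 ?_ :
          (v : D.diaTorus) ∈ D.cenL.subgroupOf D.diaTorus)
        obtain ⟨k, hk'⟩ := IsPGroup.iff_orderOf.1 P.2 v
        rw [← orderOf_eq_one_iff]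
        refine Nat.eq_one_of_dvd_coprimes ((hr.coprime_iff_not_dvd.2 hrq).pow_left k) ?_ ?_
        · rw [← hk', ← orderOf_coe]; exact orderOf_map_dvd θ _
        · rw [← Nat.card_eq_fintype_card, ← Nat.card_units]; exact orderOf_dvd_natCard _
      let f : (P : Subgroup D.diaTorus) →* D.cenL :=
        { toFun := fun v => ⟨_, hker v⟩, map_one' := rfl, map_mul' := fun _ _ => rfl }
      exact isCyclic_of_injective f fun v w h => Subtype.ext (Subtype.ext (congrArg Subtype.val h :))⟩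
  infer_instance

omit hf [Finite G] [IsSimpleGroup G] hU in
/-- The Weyl element normalises the diagonal torus. -/
theorem wel_conj_diaTorus {h : G} (hh : h ∈ D.diaTorus) :
    (D.e wel)⁻¹ * h * D.e wel ∈ D.diaTorus := by
  obtain ⟨hC, a, ha⟩ := hh
  refine ⟨mul_mem (mul_mem (inv_mem (D.e_mem _)) hC) (D.e_mem _), a⁻¹, fun x => ?_⟩
  rw [((LocData.acts_coe wel).inv.mul ha).mul (LocData.acts_coe wel) x]
  refine congrArg D.e (semi_eq_of_smul a.ne_zero ?_ _ x)
  have hW : gm (dia a * Matrix.SpecialLinearGroup.toGL (wel : SL F)) =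
      (a : F) • gm (Matrix.SpecialLinearGroup.toGL wel * dia a⁻¹) := by
    rw [gm_mul, gm_mul, gm_dia, gm_dia, gm_toGL]
    ext i j
    fin_cases i <;> fin_cases j <;> simp [wel, Matrix.mul_apply, Fin.sum_univ_two]
  show gm _ = (a : F) • gm (dia a⁻¹)
  rw [mul_assoc, gm_mul, hW, Matrix.mul_smul, ← gm_mul, inv_mul_cancel_left]

omit [IsSimpleGroup G] [Finite G] hU in
/-- The elements of `C` normalising the root group. -/
theorem norm_baseRoot_C {c : G} (hc : c ∈ D.C)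
    (hn : ∀ x ∈ D.baseRoot, c * x * c⁻¹ ∈ D.baseRoot) :
    ∃ b, ∃ h ∈ D.diaTorus, c = D.e (CfsgLib.ABG.Recog.up b) * h := by
  obtain ⟨g, hg⟩ := D.exists_acts_mat hf hc
  obtain ⟨β, hβ⟩ := D.mem_baseRoot.1 (hn _ (D.mem_baseRoot.2 ⟨1, rfl⟩))
  rw [hg] at hβ
  have hm : gm g * SL2C.mt (CfsgLib.ABG.Recog.up (1 : F)) =
      SL2C.mt (CfsgLib.ABG.Recog.up β) * gm g := by
    have h := congrArg SL2C.mt (D.e_inj hβ)
    rw [LocData.mt_semi] at h
    rw [← h, mul_assoc _ _ (gm g), ← gm_mul, inv_mul_cancel, gm_one, mul_one]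
  have h11 := congrFun (congrFun hm 1) 1
  have h01 := congrFun (congrFun hm 0) 1
  simp [CfsgLib.ABG.Recog.up, Matrix.mul_apply, Fin.sum_univ_two] at h11 h01
  have hdet := det_gm_ne_zero g
  rw [det_fin_two, h11, mul_zero, sub_zero] at hdet
  obtain ⟨h00, h11'⟩ := mul_ne_zero_iff.1 hdet
  obtain ⟨b, hb⟩ : ∃ b, b = gm g 0 1 / gm g 1 1 := ⟨_, rfl⟩
  obtain ⟨a, ha⟩ : ∃ a : Fˣ, (a : F) = gm g 0 0 / gm g 1 1 :=
    ⟨Units.mk0 _ (div_ne_zero h00 h11'), rfl⟩
  refine ⟨b, (D.e (CfsgLib.ABG.Recog.up b))⁻¹ * c, ⟨mul_mem (inv_mem (D.e_mem _)) hc, a, fun x => ?_⟩,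
    (mul_inv_cancel_left _ _).symm⟩
  rw [(LocData.acts_coe _).inv.mul hg x]
  refine congrArg D.e (semi_eq_of_smul h11' ?_ _ x)
  show gm _ = gm g 1 1 • gm (dia a)
  have hg' : gm g = gm g 1 1 •
      gm (Matrix.SpecialLinearGroup.toGL (CfsgLib.ABG.Recog.up b) * dia a) := by
    rw [gm_mul, gm_dia, gm_toGL]
    ext i j
    fin_cases i <;> fin_cases j <;>
      simp [CfsgLib.ABG.Recog.up, Matrix.mul_apply, Fin.sum_univ_two, ha, hb, h11] <;> field_simp
  rw [gm_mul]
  conv_lhs => rw [hg']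
  rw [Matrix.mul_smul, ← gm_mul, inv_mul_cancel_left]

omit [IsSimpleGroup G] [Finite G] hU in
/-- The elements of `C` centralising the root group. -/
theorem cen_baseRoot_C {c : G} (hc : c ∈ D.C) (hn : ∀ x ∈ D.baseRoot, c * x = x * c) :
    ∃ b, ∃ y ∈ D.cenL, c = D.e (CfsgLib.ABG.Recog.up b) * y := by
  obtain ⟨b, h, hh, rfl⟩ := norm_baseRoot_C hf hc fun x hx => by rwa [hn x hx, mul_inv_cancel_right]
  obtain ⟨-, a, ha⟩ := hh
  refine ⟨b, h, D.mem_cenL_of_acts_one ?_, rfl⟩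
  have ha' : D.Acts h a (RingEquiv.refl F) := ha
  have h1 := hn _ (D.mem_baseRoot.2 ⟨1, rfl⟩)
  rw [← mul_assoc (D.e (CfsgLib.ABG.Recog.up 1)), D.baseRoot_comm (D.mem_baseRoot.2 ⟨1, rfl⟩)
    (D.mem_baseRoot.2 ⟨b, rfl⟩), mul_assoc, mul_assoc] at h1
  have h2 := ha'.up 1
  rw [mul_left_cancel h1, mul_inv_cancel_right] at h2
  have h3 : a = 1 := Units.ext (by simpa using (up_inj (D.e_inj h2)).symm)
  rw [← dia_one, ← h3]; exact ha

omit hU hf [Finite G] [IsSimpleGroup G] in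
theorem diaTorus_norm_baseRoot : D.diaTorus ≤ normalizer (D.baseRoot : Set G) := by
  have key : ∀ h ∈ D.diaTorus, ∀ x ∈ D.baseRoot, h * x * h⁻¹ ∈ D.baseRoot := by
    rintro h ⟨-, a, ha⟩ x hx
    obtain ⟨b, rfl⟩ := D.mem_baseRoot.1 hx
    exact D.mem_baseRoot.2 ⟨_, (show D.Acts h a (RingEquiv.refl F) from ha).up b⟩
  intro h hh
  refine mem_normalizer_iff.2 fun x => ⟨key h hh x, fun hx => ?_⟩
  have := key h⁻¹ (inv_mem hh) _ hx
  rwa [inv_inv, show h⁻¹ * (h * x * h⁻¹) * h = x by group] at this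

omit [IsSimpleGroup G] hU in
/-- An involution centralising `z` and the root group is `z`. -/
theorem invol_cen_baseRoot {i : G} (hi : i ∈ D.C) (hi2 : orderOf i = 2)
    (hn : ∀ x ∈ D.baseRoot, i * x = x * i) : i = D.z := by
  obtain ⟨b, y, hy, rfl⟩ := cen_baseRoot_C hf hi hn
  have hyb : Commute (D.e (CfsgLib.ABG.Recog.up b)) y := (D.mem_cenL.1 hy _).symm
  have hsq : D.e (CfsgLib.ABG.Recog.up (b + b)) * (y * y) = 1 := by
    rw [← up_add, map_mul, hyb.mul_mul_mul_comm]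
    exact Invol.mul_self_eq_one hi2
  have hbb : b + b = 0 := D.baseRoot_inf_cenL (by
    rw [eq_inv_of_mul_eq_one_left hsq]; exact inv_mem (mul_mem hy hy))
  have hb : b = 0 := (mul_eq_zero.1 (show (2 : F) * b = 0 by linear_combination hbb)).resolve_left
    (two_ne_zero_of_odd D.odd_q)
  rw [hb, up_zero, map_one, one_mul] at hi hi2 ⊢
  exact D.invol_cen_eq hi hi2 (D.mem_cenL.1 hy)

/-- The centraliser of the root group has a normal complement of odd order to a Sylow 2-subgroup;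
its involutions are conjugate to `z`. -/
theorem exists_odd_complement :
    ∃ Y : Subgroup G, Odd (Nat.card Y) ∧ Y ≤ Subgroup.centralizer (D.baseRoot : Set G) ∧
      (∀ c ∈ Subgroup.centralizer (D.baseRoot : Set G), Odd (orderOf c) → c ∈ Y) ∧
      normalizer (D.baseRoot : Set G) ≤ normalizer (Y : Set G) ∧
      ∀ i ∈ Subgroup.centralizer (D.baseRoot : Set G), orderOf i = 2 →
        ∃ c ∈ Subgroup.centralizer (D.baseRoot : Set G), c * D.z * c⁻¹ = i := by
  classical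
  haveI : Fact (Nat.Prime 2) := ⟨Nat.prime_two⟩
  set K := Subgroup.centralizer (D.baseRoot : Set G) with hK
  have hcomm : ∀ {c : G}, c ∈ K → ∀ x ∈ D.baseRoot, c * x = x * c := fun hc x hx =>
    (mem_centralizer_iff.1 hc x hx).symm
  have hzK : D.z ∈ K := mem_centralizer_iff.2 fun x hx => (D.z_comm_baseRoot hx).symm
  have hzp : IsPGroup 2 (zpowers (⟨D.z, hzK⟩ : K)) := IsPGroup.of_card (n := 1) (by
    rw [Nat.card_zpowers, orderOf_mk, D.order_z, pow_one])
  obtain ⟨S, hS⟩ := hzp.exists_le_sylow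
  have hzS : (⟨D.z, hzK⟩ : K) ∈ (S : Subgroup K) := hS (mem_zpowers _)
  -- the central involution of `S` is `z`, so `S` lies in `C`
  have hS_le : ∀ s : (S : Subgroup K), ((s : K) : G) ∈ D.C := by
    haveI : Nontrivial (S : Subgroup K) := ⟨⟨⟨_, hzS⟩, 1, fun e => Invol.ne_one D.order_z
      (congrArg (fun v : (S : Subgroup K) => ((v : K) : G)) e)⟩⟩
    haveI := S.2.center_nontrivial
    have hd : 2 ∣ Nat.card (center (S : Subgroup K)) :=
      ((S.2.to_subgroup _).card_eq_or_dvd).resolve_left (Finite.one_lt_card).ne'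
    obtain ⟨v, hv⟩ := exists_prime_orderOf_dvd_card' 2 hd
    obtain ⟨u, hu⟩ : ∃ u, u = (((v : (S : Subgroup K)) : K) : G) := ⟨_, rfl⟩
    have hu2 : orderOf u = 2 := by rw [hu, orderOf_coe, orderOf_coe, orderOf_coe, hv]
    have huz : u = D.z := invol_cen_baseRoot hf (D.mem_C.2 (by
      rw [hu]
      exact (congrArg (fun x : (S : Subgroup K) => ((x : K) : G))
        (mem_center_iff.1 v.2 ⟨_, hzS⟩)).symm)) hu2 (hcomm (hu ▸ ((v : (S : Subgroup K)) : K).2))
    intro s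
    refine D.mem_C.2 ?_
    rw [← huz, hu]
    exact congrArg (fun x : (S : Subgroup K) => ((x : K) : G)) (mem_center_iff.1 v.2 s)
  have hScomm : ∀ s t : (S : Subgroup K), Commute s t := fun s t => by
    obtain ⟨b, y, hy, es⟩ := cen_baseRoot_C hf (hS_le s) (hcomm (s : K).2)
    obtain ⟨b', y', hy', et⟩ := cen_baseRoot_C hf (hS_le t) (hcomm (t : K).2)
    refine Subtype.ext (Subtype.ext (?_ : ((s : K) : G) * ((t : K) : G) = (t : K) * (s : K)))
    rw [es, et]
    have hb : Commute (D.e (CfsgLib.ABG.Recog.up b)) (D.e (CfsgLib.ABG.Recog.up b')) :=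
      D.baseRoot_comm (D.mem_baseRoot.2 ⟨b, rfl⟩) (D.mem_baseRoot.2 ⟨b', rfl⟩)
    exact ((hb.mul_right (D.mem_cenL.1 hy' _).symm).mul_left
      ((show Commute y (D.e (CfsgLib.ABG.Recog.up b')) from D.mem_cenL.1 hy _).mul_right (cenL_central hU hf hy (D.cenL_le_C hy')))).eq
  haveI hcyc : IsCyclic (S : Subgroup K) :=
    CfsgLib.Criterion.Semilinear.isCyclic_of_unique hScomm S.2 fun x y hx hy => by
      have e : ∀ v : (S : Subgroup K), orderOf v = 2 → ((v : K) : G) = D.z := fun v hv =>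
        invol_cen_baseRoot hf (hS_le v) (by rw [orderOf_coe, orderOf_coe, hv]) (hcomm (v : K).2)
      exact Subtype.ext (Subtype.ext ((e x hx).trans (e y hy).symm))
  have hmin : (Nat.card K).minFac = 2 := (Nat.minFac_eq_two_iff _).2 (by
    rw [← D.order_z, ← orderOf_mk D.z hzK]; exact orderOf_dvd_natCard _)
  obtain ⟨N, hNn, hNodd, hNS⟩ := CfsgLib.Criterion.exists_normal_complement S
    (IsCyclic.normalizer_le_centralizer hmin hcyc)
  have hmemY : ∀ c ∈ K, Odd (orderOf c) → c ∈ N.map K.subtype := by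
    intro c hc hodd
    obtain ⟨n, hn, s, hs, e⟩ := hNS ⟨c, hc⟩
    obtain ⟨k, hk⟩ := S.2 ⟨s, hs⟩
    have hq1 : (QuotientGroup.mk' N) ⟨c, hc⟩ ^ (2 ^ k) = 1 := by
      rw [← e, map_mul, QuotientGroup.mk'_apply N n, (QuotientGroup.eq_one_iff n).2 hn, one_mul,
        ← map_pow, show s ^ (2 ^ k) = 1 from congrArg Subtype.val hk, map_one]
    have hd1 : orderOf ((QuotientGroup.mk' N) ⟨c, hc⟩) ∣ orderOf c := by
      rw [← orderOf_mk c hc]; exact orderOf_map_dvd _ _
    exact ⟨⟨c, hc⟩, (QuotientGroup.eq_one_iff _).1 (orderOf_eq_one_iff.1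
      (Nat.eq_one_of_dvd_coprimes ((Nat.coprime_two_right.2 hodd).pow_right k) hd1
        (orderOf_dvd_of_pow_eq_one hq1))), rfl⟩
  have hYodd : Odd (Nat.card (N.map K.subtype)) := by rwa [card_map_of_injective K.subtype_injective]
  refine ⟨N.map K.subtype, hYodd, map_subtype_le _, hmemY, ?_, ?_⟩
  · have key : ∀ c ∈ normalizer (D.baseRoot : Set G), ∀ x ∈ N.map K.subtype,
        c * x * c⁻¹ ∈ N.map K.subtype := by
      intro c hc x hx
      refine hmemY _ (mem_centralizer_iff.2 fun e he => ?_) ?_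
      · have hy : c⁻¹ * e * c ∈ D.baseRoot := by
          simpa using (mem_normalizer_iff.1 (inv_mem hc) e).1 he
        have hcm := mem_centralizer_iff.1 (map_subtype_le _ hx : x ∈ K) _ hy
        calc e * (c * x * c⁻¹) = c * ((c⁻¹ * e * c) * x) * c⁻¹ := by group
          _ = c * (x * (c⁻¹ * e * c)) * c⁻¹ := by rw [hcm]
          _ = c * x * c⁻¹ * e := by group
      · rw [Invol.orderOf_conj_eq]
        exact hYodd.of_dvd_nat (orderOf_mk x hx ▸ orderOf_dvd_natCard _)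
    intro c hc
    refine mem_normalizer_iff.2 fun x => ⟨key c hc x, fun hx => ?_⟩
    have := key c⁻¹ (inv_mem hc) _ hx
    rwa [inv_inv, show c⁻¹ * (c * x * c⁻¹) * c = x by group] at this
  · intro i hi hi2
    have hip : IsPGroup 2 (zpowers (⟨i, hi⟩ : K)) := IsPGroup.of_card (n := 1) (by
      rw [Nat.card_zpowers, orderOf_mk, hi2, pow_one])
    obtain ⟨S', hS'⟩ := hip.exists_le_sylow
    obtain ⟨k, hk⟩ := MulAction.exists_smul_eq K S S'
    have hmem : k⁻¹ * ⟨i, hi⟩ * k ∈ (S : Subgroup K) := by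
      have h := hS' (mem_zpowers (⟨i, hi⟩ : K))
      rw [← hk, Sylow.coe_subgroup_smul, Subgroup.mem_pointwise_smul_iff_inv_smul_mem] at h
      simpa using h
    have he : ((k : G))⁻¹ * i * k = D.z := invol_cen_baseRoot hf (hS_le ⟨_, hmem⟩)
      (by rw [show ((k : G))⁻¹ * i * k = (k : G)⁻¹ * i * (k : G)⁻¹⁻¹ by group, Invol.orderOf_conj_eq,
        hi2])
      (hcomm (k⁻¹ * ⟨i, hi⟩ * k).2)
    exact ⟨k, k.2, by rw [← he]; group⟩

/-- The centraliser of an element other than one centralising the component is inside `C(z)`. -/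
theorem centralizer_le_C {y : G} (hy : y ∈ D.cenL) (hy1 : y ≠ 1) :
    Subgroup.centralizer ({y} : Set G) ≤ D.C := by
  classical
  have hCy : ∀ c ∈ D.C, c * y = y * c := fun c hc => (cenL_central hU hf hy hc).symm
  have hne : ∀ g : G, g * D.z * g⁻¹ = D.z₁ → ¬ ∀ x, y * (g * D.e x * g⁻¹) = g * D.e x * g⁻¹ * y :=
    fun g hg h => hy1 (D.eq_one_of_cen_two hg (D.mem_cenL.1 hy) h)
  set K := Subgroup.centralizer ({y} : Set G) with hK
  have hzK : D.z ∈ K := mem_cen_iff.2 (hCy _ D.z_mem_C)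
  -- `z` is isolated
  have hiso : ∀ g ∈ K, g * D.z * g⁻¹ ∈ D.C → g * D.z * g⁻¹ = D.z := fun g hg hgC => by
    by_contra hcon
    obtain ⟨x, hx⟩ := D.invol _ hgC (by rw [Invol.orderOf_conj_eq, D.order_z]) hcon
    obtain ⟨g', hg'⟩ : ∃ g', g' = (D.e x)⁻¹ * g := ⟨_, rfl⟩
    have hg'y : g' * y = y * g' := by
      rw [hg']; exact mem_cen_iff.1 (mul_mem (inv_mem (mem_cen_iff.2 (hCy _ (D.e_mem x)) : D.e x ∈ K)) hg)
    refine hne g' ?_ fun w => ?_
    · rw [hg', show (D.e x)⁻¹ * g * D.z * ((D.e x)⁻¹ * g)⁻¹ = (D.e x)⁻¹ * (g * D.z * g⁻¹) * D.e x by group,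
        hx]
      group
    · exact ((show Commute y g' from hg'y.symm).mul_right (D.mem_cenL.1 hy w)
        |>.mul_right (show Commute y g' from hg'y.symm).inv_right).eq
  have hiso' : Cfsg.IsIsolatedInvolution (⟨D.z, hzK⟩ : K) := by
    refine ⟨by rw [orderOf_mk, D.order_z], fun g hg => Subtype.ext (hiso g g.2 (D.mem_C.2 ?_))⟩
    exact (congrArg Subtype.val hg.eq).symm
  obtain ⟨W, hWn, hWodd, hWz⟩ := CfsgLib.ZStar.zstar hiso'
  obtain ⟨τ, t0, t1⟩ := D.exists_tau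
  -- odd elements of `C(y)` fixing `z₁` are in `C`
  have hz₁ : ∀ c ∈ K, Odd (orderOf c) → c * D.z₁ = D.z₁ * c → c ∈ D.C := by
    intro c hc hco hcz
    have hU' : ¬ (D.conj τ).IsLinear := hU
    have hf' := D.noField_conj hf τ
    have hcC : c ∈ (D.conj τ).C := mem_cen_iff.2 (by rw [D.conj_z, t0]; exact hcz)
    have hyT : y ∈ (D.conj τ).T := (D.conj τ).mem_T.2 (by
      rw [D.conj_z, D.conj_z₁, t0, t1]; exact (D.mem_T.1 (cenL_le_T' hy)).symm)
    obtain ⟨k, hk, hky⟩ := exists_gtor hU' hf' hyT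
    have hks : ¬ IsScal (gm k) := fun ⟨a, ha⟩ => by
      refine hne τ t0 fun x => ?_
      refine LocData.Acts.commute (e := (D.conj τ).e) (c := y) (x := x) hky ?_
      change gm k * SL2C.mt x = SL2C.mt x * gm k
      rw [ha, Matrix.smul_mul, Matrix.mul_smul, Matrix.one_mul, Matrix.mul_one]
    obtain ⟨g, hg⟩ := (D.conj τ).exists_acts_mat hf' hcC
    obtain ⟨l, -, hl⟩ : ∃ l : F, l ≠ 0 ∧ gm (g * k) = l • gm (k * g) :=
      LocData.Acts.proportional (D.conj τ).e_inj (hg.mul hky)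
        ((mem_cen_iff.1 hc) ▸ hky.mul hg : LocData.Acts _ (c * y) (k * g))
    have hd := congrArg Matrix.det hl
    rw [det_smul, gm_mul, gm_mul, det_mul, det_mul, Fintype.card_fin] at hd
    have hl2 : l * l = 1 := mul_right_cancel₀
      (mul_ne_zero (det_gm_ne_zero k) (det_gm_ne_zero g)) (by linear_combination -hd)
    have hgg : g * g * k = k * (g * g) := Units.ext (by
      show gm (g * g * k) = gm (k * (g * g))
      rw [mul_assoc, gm_mul, hl, Matrix.mul_smul, ← gm_mul, ← mul_assoc, gm_mul (g * k), hl,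
        Matrix.smul_mul, smul_smul, hl2, one_smul, ← gm_mul, mul_assoc])
    obtain ⟨j, hj⟩ := hco
    have hmem : (g * g) ^ (j + 1) ∈ gtor (D.conj τ).M :=
      gtor_eq_of_mem (noEig_M hU').not_isScal hk hks ▸ pow_mem
        (Subgroup.mem_centralizer_singleton_iff.2 hgg) _
    have hpow : (c * c) ^ (j + 1) = c := by
      rw [← pow_two, ← pow_mul, show 2 * (j + 1) = orderOf c + 1 by omega, pow_succ,
        pow_orderOf_eq_one, one_mul]
    have hT := (D.conj τ).mem_T_of_gtor hcC hmem (hpow ▸ (hg.mul hg).pow (j + 1))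
    rw [(D.conj τ).mem_T, D.conj_z, D.conj_z₁, t0, t1] at hT
    exact D.mem_C.2 hT.2
  obtain ⟨w, hw⟩ := D.exists_w
  have hWC : W.map K.subtype ≤ D.C := by
    have hmem : ∀ v ∈ W.map K.subtype, v ∈ K ∧ Odd (orderOf v) := fun v hv =>
      ⟨map_subtype_le _ hv, (by rwa [card_map_of_injective K.subtype_injective] :
        Odd (Nat.card (W.map K.subtype))).of_dvd_nat (orderOf_mk v hv ▸ orderOf_dvd_natCard _)⟩
    have hn : ∀ s ∈ D.C, s * s = 1 → ∀ v ∈ W.map K.subtype, s * v * s ∈ W.map K.subtype := by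
      rintro s hs hs2 _ ⟨v, hv, rfl⟩
      refine ⟨⟨s, mem_cen_iff.2 (hCy s hs)⟩ * v * ⟨s, mem_cen_iff.2 (hCy s hs)⟩⁻¹,
        hWn.conj_mem v hv _, ?_⟩
      show s * (v : G) * s⁻¹ = s * v * s
      rw [inv_eq_of_mul_eq_one_right hs2]
    refine CfsgLib.Recog.le_of_fourGroup (by rwa [card_map_of_injective K.subtype_injective])
      D.z_sq D.z₁_sq D.comm (hn _ D.z_mem_C D.z_sq) (hn _ D.z₁_mem_C D.z₁_sq) ?_ ?_ ?_
    · exact fun v hv => hv.2
    · exact fun v hv => hz₁ v (hmem v hv.1).1 (hmem v hv.1).2 (mem_cen_iff.1 hv.2)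
    · intro v hv
      obtain ⟨hvK, hvo⟩ := hmem v hv.1
      have hwK : D.e w ∈ K := mem_cen_iff.2 (hCy _ (D.e_mem w))
      have h := hz₁ ((D.e w)⁻¹ * v * ((D.e w)⁻¹)⁻¹) (mul_mem (mul_mem (inv_mem hwK) hvK)
        (inv_mem (inv_mem hwK))) (by rw [Invol.orderOf_conj_eq]; exact hvo) (by
          have h2 : v * D.z₂ = D.z₂ * v := mem_cen_iff.1 hv.2
          rw [← hw] at h2
          calc (D.e w)⁻¹ * v * ((D.e w)⁻¹)⁻¹ * D.z₁
              = (D.e w)⁻¹ * (v * (D.e w * D.z₁ * (D.e w)⁻¹)) * D.e w := by group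
            _ = D.z₁ * ((D.e w)⁻¹ * v * ((D.e w)⁻¹)⁻¹) := by rw [h2]; group)
      rw [show v = D.e w * ((D.e w)⁻¹ * v * ((D.e w)⁻¹)⁻¹) * (D.e w)⁻¹ by group]
      exact mul_mem (mul_mem (D.e_mem w) h) (inv_mem (D.e_mem w))
  intro g hg
  refine D.mem_C.2 (comm_of_conj (hiso g hg ?_))
  have h1 : D.z * g * D.z⁻¹ * g⁻¹ ∈ D.C := hWC ⟨_, hWz ⟨g, hg⟩, rfl⟩
  rw [show g * D.z * g⁻¹ = (D.z * g * D.z⁻¹ * g⁻¹)⁻¹ * D.z by group]
  exact mul_mem (inv_mem h1) D.z_mem_C

end CfsgLib.ABG.Recog.Loc
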