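import Cfsg.Agent.ABG.Recog.LinCent
import Cfsg.Agent.ABG.Recog.LocData
import Cfsg.Agent.GL2C.Basic

/-!
# Alperin-Brauer-Gorenstein, recognition half: the torus in the unitary type

The elements of the centraliser of the four-group act on the component through the nonsplit torus
of `D.M`; this centraliser is abelian, the centraliser of the component is a cyclic central
subgroup of it, and this gives the orders of `C(z)` and of `G`.
-/

set_option autoImplicit false
set_option linter.unusedSectionVars false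
set_option linter.style.haveILetI false

namespace CfsgLib.ABG.Recog.Loc

open Matrix Subgroup CfsgLib.SL2C CfsgLib.AutPSL CfsgLib.OrderFormula.Local CfsgLib.GL2C
open CfsgLib.SL2C (IsScal NoEig)

universe u

variable {G : Type u} [Group G] {F : Type} [Field F] [Fintype F] (D : Loc G F)

/-- No field automorphism is induced in `C(z)`. -/
def NoField : Prop :=
  ∀ c ∈ D.C, ∀ (g : GL (Fin 2) F) (σ : F ≃+* F),
    (∀ x, c * D.e x * c⁻¹ = D.e (semiSL g σ x)) → σ = RingEquiv.refl F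

theorem exists_acts_mat (hf : D.NoField) {c : G} (hc : c ∈ D.C) : ∃ g, LocData.Acts D.e c g := by
  obtain ⟨g, σ, h⟩ := D.exists_act hc
  obtain rfl := hf c hc g σ h
  exact ⟨g, h⟩

theorem noField_conj (hf : D.NoField) (ρ : G) : (D.conj ρ).NoField := by
  intro c hc g σ h
  have hc' : c ∈ Subgroup.centralizer ({ρ * D.z * ρ⁻¹} : Set G) := hc
  rw [← cen_map_conj] at hc'
  obtain ⟨c, hc0, rfl⟩ := hc'
  refine hf c hc0 g σ fun x => ?_
  have := h x
  simp only [MulEquiv.coe_toMonoidHom, MulAut.conj_apply, conj_e] at this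
  rw [show ρ * c * ρ⁻¹ * (ρ * D.e x * ρ⁻¹) * (ρ * c * ρ⁻¹)⁻¹ = ρ * (c * D.e x * c⁻¹) * ρ⁻¹ by group]
    at this
  exact mul_left_cancel (mul_right_cancel this)

variable {D} (hU : ¬ D.IsLinear)
include hU

theorem noEig_M : NoEig (gm D.M) := by
  by_contra h
  exact hU ((hasEig_trace_zero D.M_trace).1 h)

omit hU in
theorem z₁_acts : LocData.Acts D.e D.z₁ D.M := D.z₁_act

omit hU in
theorem comm_z₁_iff {x : SL F} : D.e x * D.z₁ = D.z₁ * D.e x ↔ gm D.M * mt x = mt x * gm D.M := by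
  refine ⟨fun h => ?_, fun h => (z₁_acts.commute h).symm⟩
  have h1 := D.z₁_act x
  rw [← h, mul_inv_cancel_right] at h1
  have h2 : mt x = gm D.M * mt x * gm D.M⁻¹ := by
    conv_lhs => rw [D.e_inj h1, LocData.mt_semi]
  conv_rhs => rw [h2, mul_assoc, ← gm_mul, inv_mul_cancel, gm_one, mul_one]

/-- Elements of `T` act on the component by matrices commuting with `D.M`. -/
theorem exists_gtor (hf : D.NoField) {t : G} (ht : t ∈ D.T) :
    ∃ g ∈ gtor D.M, LocData.Acts D.e t g := by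
  obtain ⟨g, hg⟩ := D.exists_acts_mat hf (D.T_le ht)
  have hne := noEig_M hU
  have ht1 := (D.mem_T.1 ht).2
  have h1 : LocData.Acts D.e (t * D.z₁) (g * D.M) := hg.mul z₁_acts
  have h2 : LocData.Acts D.e (t * D.z₁) (D.M * g) := by rw [ht1]; exact z₁_acts.mul hg
  obtain ⟨l, -, hl⟩ := h1.proportional D.e_inj h2
  change gm g * gm D.M = l • (gm D.M * gm g) at hl
  have hd := congrArg Matrix.det hl
  rw [det_mul, det_smul, det_mul, Fintype.card_fin] at hd
  have hsq : l * l = 1 := mul_right_cancel₀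
    (mul_ne_zero (det_gm_ne_zero D.M) (det_gm_ne_zero g)) (by linear_combination -hd)
  rcases mul_self_eq_one_iff.1 hsq with rfl | rfl
  · refine ⟨g, mem_gtor.2 ?_, hg⟩
    rw [hl, one_smul]
  exfalso
  obtain ⟨a, b, hab⟩ := hne.exists_det_eq (gm g).det⁻¹
  obtain ⟨k, hk⟩ : ∃ k : GL (Fin 2) F, gm k = a • 1 + b • gm D.M :=
    ⟨GL2C.mk _ (hab ▸ inv_ne_zero (det_gm_ne_zero g)), gm_mk _ _⟩
  obtain ⟨x, hx⟩ : ∃ x : SL F, Matrix.SpecialLinearGroup.toGL x = g * k :=
    ⟨⟨gm g * gm k, by rw [det_mul, hk, hab, mul_inv_cancel₀ (det_gm_ne_zero g)]⟩, Units.ext rfl⟩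
  have hkM : k ∈ gtor D.M := mem_gtor.2 (by rw [hk]; exact mul_comm_smul_add _ _ _)
  have hact : LocData.Acts D.e ((D.e x)⁻¹ * t) k⁻¹ := by
    have h := (LocData.acts_coe x).inv.mul hg
    rwa [hx, _root_.mul_inv_rev, inv_mul_cancel_right] at h
  obtain ⟨c, hc, hc1, hc2⟩ := D.diag k⁻¹
  have hcz := hc2 (Subgroup.mem_centralizer_singleton_iff.1 (inv_mem hkM))
  obtain ⟨y, hy⟩ : ∃ y, y = c⁻¹ * ((D.e x)⁻¹ * t) := ⟨_, rfl⟩
  have hyC : y ∈ D.C := hy ▸ mul_mem (inv_mem hc) (mul_mem (inv_mem (D.e_mem x)) (D.T_le ht))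
  have hyL : ∀ w, y * D.e w = D.e w * y := fun w => by
    refine LocData.Acts.commute (g := 1) ?_ (by simp)
    rw [hy, ← inv_mul_cancel (k⁻¹)]
    exact (LocData.Acts.inv hc1).mul hact
  have hxz : D.e x * D.z₁ = D.z₁ * D.e x := by
    have hyz := D.cen y hyC hyL
    have e : D.e x = t * (c * y)⁻¹ := by rw [hy]; group
    rw [e]
    exact ((show Commute t D.z₁ from ht1).mul_left
      ((show Commute c D.z₁ from hcz).mul_left (show Commute y D.z₁ from hyz)).inv_left).eq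
  have hX := comm_z₁_iff.1 hxz
  have hXe : mt x = gm g * gm k := congrArg gm hx
  rw [hXe, mul_assoc (gm g), ← mem_gtor.1 hkM, ← mul_assoc (gm g), hl, neg_one_smul, neg_mul,
    mul_assoc] at hX
  have h0 : (2 : F) • (gm D.M * (gm g * gm k)) = 0 := by
    rw [two_smul]; nth_rewrite 2 [hX]; rw [add_neg_cancel]
  have h3 := congrArg Matrix.det ((smul_eq_zero.1 h0).resolve_left (two_ne_zero_of_odd D.odd_q))
  rw [det_mul, ← hXe, det_mt, mul_one, det_zero] at h3
  exact det_gm_ne_zero D.M h3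

variable [Finite G] [IsSimpleGroup G]

theorem T_comm (hf : D.NoField) {s t : G} (hs : s ∈ D.T) (ht : t ∈ D.T) : s * t = t * s := by
  obtain ⟨ρ, h0, h1⟩ := D.exists_rho
  have key : ∀ D' : Loc G F, ¬ D'.IsLinear → D'.NoField → s ∈ D'.T → t ∈ D'.T →
      ∀ x, s * t * s⁻¹ * t⁻¹ * D'.e x = D'.e x * (s * t * s⁻¹ * t⁻¹) := by
    intro D' hU' hf' hs' ht' x
    obtain ⟨g, hg, hga⟩ := exists_gtor hU' hf' hs'
    obtain ⟨h, hh, hha⟩ := exists_gtor hU' hf' ht'
    refine LocData.Acts.commute (g := 1) ?_ (by simp)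
    have e : g * h * g⁻¹ * h⁻¹ = 1 := by
      rw [gtor_comm (noEig_M hU').not_isScal hg hh]; group
    exact e ▸ ((hga.mul hha).mul hga.inv).mul hha.inv
  have h := D.eq_one_of_cen_two h0 (key D hU hf hs ht)
    (key (D.conj ρ) hU (D.noField_conj hf ρ) (by rwa [T_conj h0 h1]) (by rwa [T_conj h0 h1]))
  rw [mul_inv_eq_one, mul_inv_eq_iff_eq_mul] at h
  exact h

omit hU [Finite G] [IsSimpleGroup G] in
theorem cenL_le_T' : D.cenL ≤ D.T := fun y hy => D.mem_T.2
  ⟨D.mem_C.1 (D.cenL_le_C hy), D.cen y (D.cenL_le_C hy) (D.mem_cenL.1 hy)⟩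

theorem cenL_central (hf : D.NoField) {y c : G} (hy : y ∈ D.cenL) (hc : c ∈ D.C) :
    y * c = c * y := by
  obtain ⟨x, t, ht, rfl⟩ := D.exists_decomp hc
  exact ((show Commute y (D.e x) from D.mem_cenL.1 hy x).mul_right
    (show Commute y t from T_comm hU hf (cenL_le_T' hy) ht)).eq

omit hU [Finite G] [IsSimpleGroup G] in
/-- The automorphisms given by the torus of `D.M`. -/
theorem exists_torAut : ∃ ψ : gtor D.M →* MulAut (SL F),
    (∀ g x, ψ g x = semiSL (g : GL (Fin 2) F) (RingEquiv.refl F) x) :=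
  ⟨MonoidHom.mk' (fun g => semiSL (g : GL (Fin 2) F) (RingEquiv.refl F)) fun g h =>
    MulEquiv.ext fun x => (semi_refl_mul (g : GL (Fin 2) F) (h : GL (Fin 2) F) x).symm, fun _ _ => rfl⟩

omit [Finite G] [IsSimpleGroup G] in
/-- The action of `T` on the component. -/
theorem exists_actHom (hf : D.NoField) {ψ : gtor D.M →* MulAut (SL F)}
    (hψ : ∀ g x, ψ g x = semiSL (g : GL (Fin 2) F) (RingEquiv.refl F) x) :
    ∃ φ : D.T →* MulAut (SL F), φ.range = ψ.range ∧
      ∀ (t : D.T) x, (t : G) * D.e x * (t : G)⁻¹ = D.e (φ t x) := by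
  choose g hg hga using fun t : D.T => exists_gtor hU hf t.2
  have hval : ∀ (t : D.T) x, (t : G) * D.e x * (t : G)⁻¹ = D.e (ψ ⟨g t, hg t⟩ x) := fun t x => by
    rw [hψ]; exact hga t x
  refine ⟨MonoidHom.mk' (fun t => ψ ⟨g t, hg t⟩) fun s t => MulEquiv.ext fun x => D.e_inj ?_,
    le_antisymm ?_ ?_, hval⟩
  · rw [MulAut.mul_apply, ← hval, ← hval, ← hval]
    push_cast; group
  · rintro _ ⟨t, rfl⟩; exact ⟨_, rfl⟩
  · rintro _ ⟨k, rfl⟩
    obtain ⟨c, hc, hc1, hc2⟩ := D.diag (k : GL (Fin 2) F)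
    refine ⟨⟨c, D.mem_T.2 ⟨D.mem_C.1 hc, hc2 (Subgroup.mem_centralizer_singleton_iff.1 k.2)⟩⟩,
      MulEquiv.ext fun x => D.e_inj ?_⟩
    show D.e (ψ ⟨g _, hg _⟩ x) = D.e (ψ k x)
    rw [← hval, hψ]
    exact hc1 x

theorem isCyclic_cenL (hf : D.NoField) : IsCyclic D.cenL := by
  obtain ⟨ρ, h0, h1⟩ := D.exists_rho
  have hU' : ¬ (D.conj ρ).IsLinear := hU
  obtain ⟨ψ, hψ⟩ := exists_torAut (D := D.conj ρ)
  obtain ⟨φ, hφr, hφ⟩ := exists_actHom hU' (D.noField_conj hf ρ) hψ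
  let i : D.cenL →* (D.conj ρ).T :=
    Subgroup.inclusion (show D.cenL ≤ (D.conj ρ).T by rw [T_conj h0 h1]; exact cenL_le_T')
  haveI := isCyclic_gtor (noEig_M hU')
  haveI : IsCyclic φ.range := hφr ▸ isCyclic_of_surjective _ ψ.rangeRestrict_surjective
  refine isCyclic_of_injective (φ.rangeRestrict.comp i)
    ((injective_iff_map_eq_one _).2 fun y hy => Subtype.ext ?_)
  have hy1 : φ (i y) = 1 := congrArg Subtype.val hy
  refine D.eq_one_of_cen_two h0 (D.mem_cenL.1 y.2) fun x => ?_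
  have := hφ (i y) x
  rw [hy1, MulAut.one_apply] at this
  exact comm_of_conj this

omit [Finite G] [IsSimpleGroup G] in
/-- `T` maps onto the torus modulo scalars, of order `q + 1`, with kernel the centraliser of the
component. -/
theorem card_T (hf : D.NoField) : Nat.card D.T = (Fintype.card F + 1) * Nat.card D.cenL := by
  classical
  obtain ⟨ψ, hψ⟩ := exists_torAut (D := D)
  obtain ⟨φ, hφr, hφ⟩ := exists_actHom hU hf hψ
  have hker : φ.ker = D.cenL.subgroupOf D.T := by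
    ext t
    rw [MonoidHom.mem_ker, Subgroup.mem_subgroupOf, D.mem_cenL]
    refine ⟨fun h x => comm_of_conj (by rw [hφ, h, MulAut.one_apply]),
      fun h => MulEquiv.ext fun x => D.e_inj ?_⟩
    rw [← hφ, h, mul_inv_cancel_right, MulAut.one_apply]
  have hψk : Nat.card ψ.ker = Fintype.card F - 1 := by
    rw [← Nat.card_eq_fintype_card, ← Nat.card_units]
    refine (Nat.card_eq_of_bijective (fun a : Fˣ => (⟨⟨sc a, sc_mem_gtor _ a⟩, MulEquiv.ext fun x => ?_⟩ :
      ψ.ker)) ⟨fun a b h => ?_, fun k => ?_⟩).symm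
    · rw [hψ, MulAut.one_apply, semi_eq_of_smul (h := 1) a.ne_zero ?_ _ x]
      · exact semiFun_one x
      · exact gm_sc a
    · have := congrArg (fun k : ψ.ker => gm (k : gtor D.M).1 0 0) h
      exact Units.ext (by simpa [gm_sc] using this)
    · have hk : ∀ y : SL F, gm (k : gtor D.M).1 * mt y = mt y * gm (k : gtor D.M).1 := fun y => by
        have h := congrArg SL2C.mt (DFunLike.congr_fun (MonoidHom.mem_ker.1 k.2) y)
        rw [hψ, LocData.mt_semi, MulAut.one_apply] at h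
        conv_rhs => rw [← h]
        rw [mul_assoc _ _ (gm _), ← gm_mul, inv_mul_cancel, gm_one, mul_one]
      obtain ⟨a, ha⟩ := exists_sc_of_isScal (isScal_of_commute_two (hk (CfsgLib.ABG.Recog.up 1))
        (hk (low 1)) fun h => by
          have h00 := congrFun (congrFun h 0) 0
          simp [CfsgLib.ABG.Recog.up, low, Matrix.mul_apply, Fin.sum_univ_two] at h00)
      exact ⟨a, Subtype.ext (Subtype.ext ha.symm)⟩
  have hrange : Nat.card φ.range = Fintype.card F + 1 := by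
    rw [hφr]
    have h := ψ.ker.card_mul_index
    rw [Subgroup.index_ker, hψk, card_gtor (noEig_M hU)] at h
    have hq : 2 ≤ Fintype.card F := Fintype.one_lt_card
    refine Nat.eq_of_mul_eq_mul_left (show 0 < Fintype.card F - 1 by omega) ?_
    rw [h, mul_comm, ← Nat.sq_sub_sq, one_pow]
  have h := φ.ker.card_mul_index
  rw [Subgroup.index_ker, hrange, hker, Nat.card_congr (subgroupOfEquivOfLe cenL_le_T').toEquiv] at h
  rw [← h, mul_comm]

omit [Finite G] [IsSimpleGroup G] in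
/-- The nonsplit torus of the component centralised by `z₁`. -/
theorem exists_tor : ∃ x₀ : SL F, Ell x₀ ∧
    ∀ x, x ∈ tor x₀ ↔ D.e x * D.z₁ = D.z₁ * D.e x := by
  obtain ⟨d, hd⟩ : ∃ d, d = (gm D.M).det := ⟨_, rfl⟩
  have hd1 : 1 + d ≠ 0 := fun h => hU ⟨1, by
    show -(gm D.M).det = 1 * 1
    rw [← hd]; linear_combination -h⟩
  have hdet : (((1 - d) / (1 + d)) • (1 : Matrix (Fin 2) (Fin 2) F) + (2 / (1 + d)) • gm D.M).det = 1 := by
    rw [det_smul_add_smul, show (gm D.M).trace = 0 from D.M_trace, ← hd]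
    field_simp
    ring
  have hb : 2 / (1 + d) ≠ 0 := div_ne_zero (two_ne_zero_of_odd D.odd_q) hd1
  obtain ⟨x₀, hx₀⟩ : ∃ x₀ : SL F, mt x₀ =
      ((1 - d) / (1 + d)) • (1 : Matrix (Fin 2) (Fin 2) F) + (2 / (1 + d)) • gm D.M := ⟨⟨_, hdet⟩, rfl⟩
  refine ⟨x₀, by rw [Ell, hx₀]; exact (noEig_smul_add hb).2 (noEig_M hU), fun x => ?_⟩
  rw [Subgroup.mem_centralizer_singleton_iff, commute_iff_mt, comm_z₁_iff, hx₀, Matrix.mul_add,
    Matrix.add_mul, Matrix.smul_mul, Matrix.mul_smul, Matrix.smul_mul, Matrix.mul_smul,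
    Matrix.one_mul, Matrix.mul_one, add_right_inj, (smul_right_injective _ hb).eq_iff, eq_comm]

omit [Finite G] [IsSimpleGroup G] in
theorem card_C_T : Nat.card D.C = Fintype.card F * (Fintype.card F - 1) * Nat.card D.T := by
  classical
  obtain ⟨x₀, hx₀, htor⟩ := exists_tor hU
  have hdec : D.L ⊔ D.T = D.C := le_antisymm (sup_le D.e_le D.T_le) fun c hc => by
    obtain ⟨x, t, ht, rfl⟩ := D.exists_decomp hc
    exact mul_mem_sup ⟨x, rfl⟩ ht
  have hTn : D.T ≤ normalizer (D.L : Set G) := fun t ht => by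
    refine mem_normalizer_iff.2 fun y => ⟨?_, fun hy => ?_⟩
    · rintro ⟨x, rfl⟩
      exact D.e_normal t (D.T_le ht) x
    · obtain ⟨x, hx⟩ := hy
      have := D.e_normal t⁻¹ (inv_mem (D.T_le ht)) x
      rwa [hx, inv_inv, show t⁻¹ * (t * y * t⁻¹) * t = y by group] at this
  have hinf : D.T ⊓ D.L = (tor x₀).map D.e := by
    refine le_antisymm ?_ ?_
    · rintro _ ⟨ht, x, rfl⟩
      exact mem_map_of_mem _ ((htor x).2 (D.mem_T.1 ht).2)
    · rintro _ ⟨x, hx, rfl⟩
      exact ⟨D.mem_T.2 ⟨D.e_comm_z x, (htor x).1 hx⟩, ⟨_, rfl⟩⟩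
  have h := CfsgLib.Solvable.card_sup_mul_card_inf hTn
  rw [sup_comm, hdec, hinf, card_map_of_injective D.e_inj, card_tor hx₀,
    ← Nat.card_congr (MonoidHom.ofInjective D.e_inj).toEquiv, CfsgLib.SL2C.card_SL2_mul] at h
  refine Nat.eq_of_mul_eq_mul_right (Nat.succ_pos (Fintype.card F)) ?_
  rw [Nat.succ_eq_add_one, h, show Fintype.card F ^ 2 - 1 = (Fintype.card F + 1) * (Fintype.card F - 1) by
    rw [← Nat.sq_sub_sq, one_pow]]
  ring

omit [IsSimpleGroup G] in
/-- The order of `G` in the unitary type. -/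
theorem card_G_T : Nat.card G =
    Fintype.card F ^ 3 * (Fintype.card F - 1) * Nat.card D.T *
      (Fintype.card F ^ 2 - Fintype.card F + 1) := by
  have h := D.card_unitary hU
  rw [show Nat.card (Subgroup.centralizer ({D.z} : Set G)) = _ from card_C_T hU] at h
  have hq : 2 ≤ Fintype.card F := Fintype.one_lt_card
  refine Nat.eq_of_mul_eq_mul_right (show 0 < Nat.card D.T ^ 2 * (Fintype.card F - 1) ^ 2 from
    Nat.mul_pos (pow_pos Nat.card_pos 2) (pow_pos (by omega) 2)) ?_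
  zify [show 1 ≤ Fintype.card F by omega,
    show Fintype.card F ≤ Fintype.card F ^ 2 from Nat.le_self_pow two_ne_zero _] at h ⊢
  linear_combination h

omit [IsSimpleGroup G] in
theorem card_C (hf : D.NoField) :
    Nat.card D.C = Fintype.card F * (Fintype.card F ^ 2 - 1) * Nat.card D.cenL := by
  rw [card_C_T hU, card_T hU hf, show Fintype.card F ^ 2 - 1 =
    (Fintype.card F + 1) * (Fintype.card F - 1) by rw [← Nat.sq_sub_sq, one_pow]]
  ring

omit [IsSimpleGroup G] in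
theorem card_G (hf : D.NoField) : Nat.card G =
    Fintype.card F ^ 3 * (Fintype.card F ^ 3 + 1) *
      ((Fintype.card F - 1) * Nat.card D.cenL) := by
  rw [card_G_T hU, card_T hU hf]
  zify [show 1 ≤ Fintype.card F from Fintype.card_pos,
    show Fintype.card F ≤ Fintype.card F ^ 2 from Nat.le_self_pow two_ne_zero _]
  ring

end CfsgLib.ABG.Recog.Loc
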