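import Cfsg.Agent.BN.Coxeter
import Cfsg.Agent.S1148
import Cfsg.Agent.Solvable.Basics

/-!
A Sylow `p`-subgroup meeting a conjugate trivially, whose normaliser has the order of the unitary Borel
subgroup, gives a split `(B,N)`-pair of rank one and so `PSU₃(q)`.
-/

set_option autoImplicit false
set_option linter.style.haveILetI false

namespace CfsgLib.ABG.Recog

open Subgroup MulAction Pointwise

universe u

variable {G : Type u} [Group G] [Finite G]

omit [Finite G] in
/-- `P ⊓ P' = ⊥` when `P` meets `C(z)` in a central subgroup `E` and `E`, `E'` generate enough of `C(z)`. -/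
theorem inf_eq_bot_of_central {P P' E E' C : Subgroup G} (hE : ∀ e ∈ E, ∀ x ∈ P, e * x = x * e)
    (hE' : ∀ e ∈ E', ∀ x ∈ P', e * x = x * e) (hPC : P ⊓ C ≤ E) (hPC' : P' ⊓ C ≤ E') (hEE' : E ⊓ E' = ⊥)
    (hcent : ∀ x, (∀ e ∈ E, e * x = x * e) → (∀ e ∈ E', e * x = x * e) → x ∈ C) : P ⊓ P' = ⊥ := by
  rw [eq_bot_iff]
  rintro x ⟨hx, hx'⟩
  have hxC : x ∈ C := hcent x (fun e he => hE e he x hx) fun e he => hE' e he x hx'
  have := mem_inf.2 ⟨hPC ⟨hx, hxC⟩, hPC' ⟨hx', hxC⟩⟩
  rwa [hEE'] at this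

/-- The end of the unitary recognition. -/
theorem psu_of_trivial_meet [IsSimpleGroup G] {p n : ℕ} [hp : Fact p.Prime] (hp2 : p ≠ 2) (hn : 1 ≤ n)
    (P H : Subgroup G) (g : G) (hP : Nat.card P = p ^ (3 * n)) (hHP : H ≤ normalizer (P : Set G))
    (hgH : ∀ h ∈ H, g⁻¹ * h * g ∈ H) (hHc : IsCyclic H)
    (hH : Nat.gcd 3 (p ^ n + 1) * Nat.card H = p ^ (2 * n) - 1)
    (hG : Nat.card G = p ^ (3 * n) * (p ^ (3 * n) + 1) * Nat.card H)
    (hmeet : ∀ x ∈ P, g⁻¹ * x * g ∈ P → x = 1) :
    ∃ (F : Type) (_ : Field F) (_ : Fintype F), Fintype.card F = (p ^ n) ^ 2 ∧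
      Nonempty (G ≃* Cfsg.PSU 3 F (p ^ n)) := by
  classical
  have hpn : 1 < p ^ (3 * n) := Nat.one_lt_pow (by omega) hp.out.one_lt
  -- `P` is a Sylow subgroup and `H` has order prime to `p`
  have hHp : ¬ p ∣ Nat.card H := fun hd => by
    have h1 : p ∣ p ^ (2 * n) - 1 := hH ▸ dvd_mul_of_dvd_right hd _
    have h2 : p ∣ p ^ (2 * n) := dvd_pow_self p (by omega)
    have h3 : 1 ≤ p ^ (2 * n) := Nat.one_le_pow _ _ hp.out.pos
    have h4 := Nat.dvd_sub h2 h1
    rw [Nat.sub_sub_self h3] at h4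
    exact hp.out.not_dvd_one h4
  have hPH : P ⊓ H = ⊥ := by
    refine disjoint_iff.1 (disjoint_of_coprime_natCard ?_)
    rw [hP]
    exact Nat.Coprime.pow_left _ (hp.out.coprime_iff_not_dvd.2 hHp)
  have hPp : IsPGroup p P := IsPGroup.of_card hP
  obtain ⟨S, hS⟩ := hPp.exists_le_sylow
  have hSP : (S : Subgroup G) = P := by
    refine (eq_of_le_of_card_ge hS ?_).symm
    rw [hP, S.card_eq_multiplicity, hG]
    refine Nat.pow_le_pow_right hp.out.pos ?_
    have hk : ¬ p ∣ (p ^ (3 * n) + 1) := fun hd => hp.out.not_dvd_one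
      ((Nat.dvd_add_right (dvd_pow_self p (by omega))).1 hd)
    rw [Nat.factorization_mul (mul_ne_zero (by positivity) (by omega)) Nat.card_pos.ne',
      Nat.factorization_mul (by positivity) (by omega)]
    simp [hp.out.factorization_self, Nat.factorization_eq_zero_of_not_dvd hk,
      Nat.factorization_eq_zero_of_not_dvd hHp]
  subst hSP
  have hmem : ∀ {x : G}, x ∈ stabilizer G S ↔ x ∈ normalizer ((S : Subgroup G) : Set G) := fun {x} => by
    rw [Sylow.stabilizer_eq_normalizer]; rfl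
  -- the orbit of `g • S` under `S` is free
  have hfree : ∀ x ∈ (S : Subgroup G), x • (g • S) = g • S → x = 1 := by
    intro x hx h
    refine hmeet x hx ?_
    have hN : g⁻¹ * x * g ∈ normalizer ((S : Subgroup G) : Set G) := hmem.1 (by
      rw [mem_stabilizer_iff, mul_smul, mul_smul, h, inv_smul_smul])
    obtain ⟨k, hk⟩ := S.2 ⟨x, hx⟩
    have hk' : (g⁻¹ * x * g) ^ p ^ k = 1 := by
      have e := congrArg (fun y : (S : Subgroup G) => (y : G)) hk
      calc (g⁻¹ * x * g) ^ p ^ k = (g⁻¹ * x * g⁻¹⁻¹) ^ p ^ k := by rw [inv_inv]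
        _ = g⁻¹ * x ^ p ^ k * g⁻¹⁻¹ := conj_pow
        _ = 1 := by simp_all
    obtain ⟨i, -, hi⟩ := (Nat.dvd_prime_pow hp.out).1 (orderOf_dvd_of_pow_eq_one hk')
    have hz : IsPGroup p (zpowers (g⁻¹ * x * g)) := IsPGroup.of_card (n := i) (by rw [Nat.card_zpowers, hi])
    have hsup : (S : Subgroup G) ⊔ zpowers (g⁻¹ * x * g) = S := S.3
      (IsPGroup.to_sup_of_normal_left' S.2 hz (zpowers_le.2 hN)) le_sup_left
    exact hsup ▸ le_sup_right (a := (S : Subgroup G)) (mem_zpowers _)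
  have hgS : g • S ≠ S := fun h => by
    have hall : ∀ x ∈ (S : Subgroup G), x = 1 := fun x hx => hfree x hx (by
      rw [h]; exact hmem.2 (le_normalizer hx))
    have : (S : Subgroup G) = ⊥ := eq_bot_iff.2 fun x hx => mem_bot.2 (hall x hx)
    rw [this, card_bot] at hP
    omega
  let Ω := Sylow p G
  let f : Option (S : Subgroup G) → Ω := fun o => o.elim S fun x => (x : G) • g • S
  have hf : Function.Injective f := by
    have hne : ∀ x : (S : Subgroup G), (x : G) • g • S ≠ S := fun x h => hgS (by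
      have h2 := congrArg (fun y => (x : G)⁻¹ • y) h
      simpa [inv_smul_smul, mem_stabilizer_iff.1 (hmem.2 (le_normalizer (inv_mem x.2)))] using h2)
    rintro (_ | x) (_ | y) h
    · rfl
    · exact absurd h.symm (hne y)
    · exact absurd h (hne x)
    · refine congrArg some (Subtype.ext ?_)
      have h2 : ((y : G)⁻¹ * x) • g • S = g • S := by
        rw [mul_smul]; simp only [f, Option.elim] at h; rw [h, inv_smul_smul]
      exact (inv_mul_eq_one.1 (hfree _ (mul_mem (inv_mem y.2) x.2) h2)).symm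
  have hcardO : Nat.card (Option (S : Subgroup G)) = p ^ (3 * n) + 1 := by rw [Finite.card_option, hP]
  set B := stabilizer G S with hB
  have hHB : H ≤ B := fun h hh => hmem.2 (hHP hh)
  have hSB : (S : Subgroup G) ≤ B := fun h hh => hmem.2 (le_normalizer hh)
  have hsupcard : Nat.card ((S : Subgroup G) ⊔ H : Subgroup G) = p ^ (3 * n) * Nat.card H := by
    rw [sup_comm]
    have h := CfsgLib.Solvable.card_sup_mul_card_inf hHP
    rw [inf_comm, hPH, card_bot, mul_one] at h
    rw [h, hP, mul_comm]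
  have hBle : p ^ (3 * n) * Nat.card H ≤ Nat.card B := hsupcard ▸ Subgroup.card_le_of_le (sup_le hSB hHB)
  have hΩ : Nat.card Ω * Nat.card B = p ^ (3 * n) * (p ^ (3 * n) + 1) * Nat.card H := by
    rw [← hG, ← index_stabilizer_of_transitive G S, index_mul_card]
  have hO : p ^ (3 * n) + 1 ≤ Nat.card Ω := hcardO ▸ Nat.card_le_card_of_injective f hf
  have hpos : 0 < p ^ (3 * n) * Nat.card H := Nat.mul_pos (by omega) Nat.card_pos
  have hΩc : Nat.card Ω = p ^ (3 * n) + 1 := le_antisymm (by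
    refine Nat.le_of_mul_le_mul_right ?_ hpos
    calc Nat.card Ω * (p ^ (3 * n) * Nat.card H) ≤ Nat.card Ω * Nat.card B := Nat.mul_le_mul_left _ hBle
      _ = _ := by rw [hΩ]; ring) hO
  have hBc : Nat.card B = p ^ (3 * n) * Nat.card H := by
    rw [hΩc] at hΩ
    exact Nat.eq_of_mul_eq_mul_left (Nat.succ_pos _) (by rw [Nat.succ_eq_add_one, hΩ]; ring)
  have hBeq : (S : Subgroup G) ⊔ H = B := eq_of_le_of_card_ge (sup_le hSB hHB) (by rw [hBc, hsupcard])
  have hfs : Function.Surjective f := (hf.bijective_of_nat_card_le (by rw [hcardO, hΩc])).2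
  have hreg : ∀ T : Ω, T ≠ S → ∃ x ∈ (S : Subgroup G), x • g • S = T := fun T hT => by
    obtain ⟨o, rfl⟩ := hfs T
    rcases o with _ | x
    · exact absurd rfl hT
    · exact ⟨x, x.2, rfl⟩
  -- double transitivity
  have h2 : IsMultiplyPretransitive G Ω 2 := by
    rw [is_two_pretransitive_iff]
    have key : ∀ {a b : Ω}, a ≠ b → ∃ u : G, u • S = a ∧ u • (g • S) = b := by
      intro a b hab
      obtain ⟨u, hu⟩ := exists_smul_eq G S a
      obtain ⟨x, hx, hxe⟩ := hreg (u⁻¹ • b) fun h => hab (by rw [← hu, ← h, smul_inv_smul])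
      refine ⟨u * x, ?_, ?_⟩
      · rw [mul_smul, mem_stabilizer_iff.1 (hmem.2 (le_normalizer hx)), hu]
      · rw [mul_smul, hxe, smul_inv_smul]
    intro a b c d hab hcd
    obtain ⟨u, hu1, hu2⟩ := key hab
    obtain ⟨v, hv1, hv2⟩ := key hcd
    exact ⟨v * u⁻¹, by rw [mul_smul, ← hu1, inv_smul_smul, hv1],
      by rw [mul_smul, ← hu2, inv_smul_smul, hv2]⟩
  -- a third point
  obtain ⟨x1, hx1, hx1'⟩ : ∃ x ∈ (S : Subgroup G), x ≠ 1 := by
    by_contra h
    push Not at h
    have : (S : Subgroup G) = ⊥ := eq_bot_iff.2 fun x hx => mem_bot.2 (h x hx)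
    rw [this, card_bot] at hP
    omega
  have hz1 : g • S ≠ x1 • g • S := fun h => hx1' (hfree x1 hx1 h.symm)
  have hz2 : S ≠ x1 • g • S := fun h => hgS (by
    have h' := congrArg (fun y => x1⁻¹ • y) h
    simpa [inv_smul_smul, mem_stabilizer_iff.1 (hmem.2 (le_normalizer (inv_mem hx1)))] using h'.symm)
  obtain ⟨Q, hQB, hQN, hQr⟩ := BN.exists_rankOne (Γ := G) (Ω := Ω) h2 hgS.symm hz1 hz2
  have hHg : ∀ h ∈ H, h • (g • S) = g • S := fun h hh => by
    have h1 := mem_stabilizer_iff.1 (hHB (hgH h hh))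
    rw [mul_smul, mul_smul, inv_smul_eq_iff] at h1
    exact h1
  have hBN : Q.B ⊓ Q.N = H := by
    rw [hQB, hQN]
    refine le_antisymm ?_ ?_
    · rintro b ⟨hb, hbp⟩
      have hb' : b • (g • S) = g • S := by
        replace hbp : b • ({S, g • S} : Set Ω) = {S, g • S} := hbp
        replace hb : b • S = S := hb
        rw [Set.smul_set_insert, Set.smul_set_singleton] at hbp
        have hin : b • (g • S) ∈ ({b • S, b • (g • S)} : Set Ω) := Set.mem_insert_of_mem _ rfl
        rw [hbp] at hin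
        rcases hin with h | h
        · exact absurd (MulAction.injective b (h.trans hb.symm)) hgS
        · exact h
      have hbB : b ∈ (S : Subgroup G) ⊔ H := hBeq ▸ hb
      rw [← SetLike.mem_coe, sup_comm, coe_mul_of_left_le_normalizer_right _ _ hHP] at hbB
      obtain ⟨h, hh, x, hx, rfl⟩ := Set.mem_mul.1 hbB
      rw [mul_smul] at hb'
      have hx1 : x = 1 := hfree x hx (MulAction.injective h (hb'.trans (hHg h hh).symm))
      rw [hx1, mul_one]; exact hh
    · intro h hh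
      refine ⟨hHB hh, ?_⟩
      show h ∈ stabilizer G ({S, g • S} : Set Ω)
      rw [mem_stabilizer_iff, Set.smul_set_insert, Set.smul_set_singleton, hHg h hh,
        mem_stabilizer_iff.1 (hHB hh)]
  refine Cfsg.Agent.S1148.result Q hQr hp.out hp2 hn (S : Subgroup G) (hQB ▸ hSB) (fun b hb u hu => ?_)
    (S.2.isNilpotent) (by rw [hBN, hQB]; exact hBeq) (by rw [hBN]; exact hPH) ?_ hP (by rw [hBN]; exact hHc)
    (by rw [hBN]; exact hH)
  · rw [hQB] at hb
    exact (mem_normalizer_iff.1 (hmem.1 hb) u).1 hu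
  · rw [hQB, index_stabilizer_of_transitive, hΩc]

end CfsgLib.ABG.Recog
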